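import Cfsg.Agent.Lib.UThreeLocal.Two.Big.Line
import Cfsg.Agent.Lib.UThreeLocal.Two.Reduce
import Cfsg.Agent.Lib.UThreeLocal.Big.Interface

/-!
# The centraliser of the involution normalises the extraspecial group in the big case
-/

set_option autoImplicit false
set_option linter.unusedSectionVars false
set_option linter.style.haveILetI false

namespace Cfsg.Agent.UThreeLocal.Two.Big

open Subgroup
open Cfsg.Agent.ThreeTransp.U62Cent (W8 GN sigP perm_ext zb zb_ne zb_true zb_false)
open Cfsg.Agent.ThreeTransp.U62Cent.W8 (qe)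

universe u

theorem z_exps : ∀ a : Ex, a 0 + a 1 + a 2 + a 3 = 0 →
    (∀ i, a i ≠ 0) ∨ IsZ a ∨ ∃ i j : Fin 4, i ≠ j ∧ a i = 0 ∧ a j = 0 := by decide +kernel

theorem zt_back : ∀ i : Fin 4, act false (Equiv.swap 0 i) (zt i) = zt 0 ∧
    act false (Equiv.swap 0 i) (-zt i) = -zt 0 := by decide +kernel

theorem sum_shift : ∀ a : Ex,
    (a 0 - (a 0 + a 1 + a 2 + a 3)) + (a 1 - (a 0 + a 1 + a 2 + a 3)) + (a 2 - (a 0 + a 1 + a 2 + a 3)) +
      (a 3 - (a 0 + a 1 + a 2 + a 3)) = 0 := by
  decide +kernel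

theorem act_inj (π : Equiv.Perm (Fin 4)) : Function.Injective (act false π) := fun a b h => funext fun i => by
  have := congrFun h (π i)
  simpa [act, sgn] using this

variable {G : Type u} [Group G] [Finite G]

/-- A diagonal element of the simple part has exponent sum zero. -/
theorem sum_zero_of_inner {I Γ : Subgroup (Equiv.Perm W8)} (h : Img I Γ) {a : Ex} (ha : dg a ∈ I) :
    a 0 + a 1 + a 2 + a 3 = 0 := by
  set s := a 0 + a 1 + a 2 + a 3 with hs
  have hA0 := ex_A0 (a - fun _ => s) (by simp only [Pi.sub_apply]; exact sum_shift a)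
  obtain ⟨i, hi, ei⟩ := h.real _ (A0_sub _ hA0)
  have e : i = dg (a - fun _ => s) := perm_ext (h.inat.add hi) (dg_add _) ei
  have hsI : sigP ^ s.val ∈ I := by
    have := mul_mem ha (inv_mem (e ▸ hi : dg (a - fun _ => s) ∈ I))
    rw [dg_inv, ← dg_mul, neg_sub, add_sub_cancel] at this
    rw [dg_const]
    simpa using this
  by_contra hne
  refine h.inat.sigP_notMem ?_
  have hdec : ∀ x : ZMod 3, x ≠ 0 → (x.val * x.val) % 3 = 1 := by decide
  have := pow_mem hsI s.val
  rwa [← pow_mul, pow_eq_pow_mod _ Cfsg.Agent.ThreeTransp.U62Cent.sigP_pow_three, hdec s hne, pow_one] at this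

set_option maxHeartbeats 1600000 in
/-- The centraliser of the involution normalises the extraspecial group. -/
theorem centralizer_le_normalizer {r z : G} {R A N0 : Subgroup G}
    (h : Cfsg.Agent.UThreeLocal.Big.BigOut r R A N0 z) :
    centralizer ({r} : Set G) ≤ normalizer (R : Set G) := by
  classical
  obtain ⟨F, _, _, hF, ψ, hψs, hψk⟩ := h.psp
  obtain ⟨T⟩ := exists_act h.two h.extra h.card_R h.centre h.cent hF h.R_le h.N0_le h.normal ψ hψs hψk A
    h.A_exp h.A_R
  obtain ⟨Y, _, _, q, D, hqs, heq, hR, hN, hAY, hAeq, hAc, hI, hvec, himg⟩ :=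
    exists_frame h.two R h.card_R h.centre N0 h.R_le h.N0_le T A h.A_cent h.A_norm h.A_comm h.A_exp
      (Or.inr h.A_card) h.sig
  have hr1 : r ≠ 1 := fun e => by simpa [e] using h.two
  have hrr : r * r = 1 := by rw [← pow_two, ← h.two, pow_orderOf_eq_one]
  have hrR : r ∈ R := map_subtype_le _ (h.centre ▸ mem_zpowers r : r ∈ (center ↥R).map R.subtype)
  have hrC : r ∈ centralizer ({r} : Set G) := (h.N0_le (h.R_le hrR)).1
  have hc0 : ∀ c : ↥(centralizer ({r} : Set G)), Commute (c : G) r := fun c =>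
    mem_centralizer_singleton_iff.1 c.2
  let zC : ↥(centralizer ({r} : Set G)) := ⟨z, h.A_cent h.z_mem⟩
  have hzA : q zC ∈ D.A := hAY ▸ mem_map_of_mem q (show zC ∈ A.subgroupOf _ from h.z_mem)
  have hz3 : q zC ^ 3 = 1 := D.hAexp _ hzA
  have hzq : ∀ c : ↥(centralizer ({r} : Set G)), Commute (q c) (q zC) → Commute (c : G) z := fun c hc => by
    have e := hAeq zC (c * zC * c⁻¹) h.z_mem (by
      push_cast
      rw [conj_pow, h.A_exp z h.z_mem, mul_one, mul_inv_cancel]) (by
        rw [map_mul, map_mul, map_inv, hc.eq, mul_inv_cancel_right])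
    push_cast at e
    exact mul_inv_eq_iff_eq_mul.1 e
  -- coordinates in which the elementary group is diagonal and `z` of the first kind
  obtain ⟨w, hw, hwA⟩ := D.exists_std
  have hdiag0 : ∀ n : ↥D.N, (n : Y) ∈ D.A → ∃ a : Ex, w * D.img n * w⁻¹ = dg a := fun n hn => by
    have hG : D.img n ∈ D.img.range ⊓ GN := D.img_le D.hAexp ⟨n, hn, rfl⟩
    exact (inA_dg (mul_mem (mul_mem (D.himg.inat.add hw) hG.2.add) (inv_mem (D.himg.inat.add hw)))).1
      ((hwA _ hG).2 ⟨n, hn, rfl⟩)
  obtain ⟨a, ha⟩ := hdiag0 ⟨q zC, D.hAN hzA⟩ hzA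
  have hzI : D.img ⟨q zC, D.hAN hzA⟩ ∈ D.I := by
    rw [himg zC (D.hAN hzA) (h.N0_le h.z_inner), hI]
    exact T.inner _ h.z_inner
  have hsum := sum_zero_of_inner D.himg (ha ▸ mul_mem (mul_mem hw hzI) (inv_mem hw))
  -- the fixed vectors of `z`
  set S := R ⊓ centralizer ({z} : Set G) with hS
  set Fx := {v : W8 | dg a v = v} with hFx
  have hFx' : ∀ v, v ∈ Fx ↔ D.img ⟨q zC, D.hAN hzA⟩ ((w⁻¹ : Equiv.Perm W8) v) = (w⁻¹ : Equiv.Perm W8) v := by
    intro v
    show dg a v = v ↔ _
    rw [← ha]
    simp only [Equiv.Perm.mul_apply, Equiv.Perm.inv_def]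
    exact ⟨fun e => w.injective (by rw [e, Equiv.apply_symm_apply]),
      fun e => by rw [e, Equiv.apply_symm_apply]⟩
  have hFle : Fx.ncard ≤ 4 := by
    have hex : ∀ v ∈ Fx, ∃ c : ↥(centralizer ({r} : Set G)),
        (c : G) ∈ S ∧ q c = D.lift ((w⁻¹ : Equiv.Perm W8) v) := by
      intro v hv
      obtain ⟨c, hc⟩ := hqs (D.lift ((w⁻¹ : Equiv.Perm W8) v))
      refine ⟨c, ⟨(hR c).1 (hc ▸ D.lift_mem _), mem_centralizer_singleton_iff.2 (hzq c ?_).eq⟩, hc⟩
      rw [hc]
      exact (D.commute_of_fix ⟨q zC, D.hAN hzA⟩ (D.lift_mem _) (by rw [D.vec_lift]; exact (hFx' v).1 hv)).symm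
    choose c hcS hcq using hex
    have hrS : r ∈ S := ⟨hrR, mem_centralizer_singleton_iff.2 (hc0 zC).symm.eq⟩
    let f : ↥Fx × Bool → ↥S := fun p => ⟨(c p.1 p.1.2 : G) * zb r p.2, S.mul_mem (hcS _ _) (by
      cases p.2
      · rw [zb_false]; exact S.one_mem
      · rw [zb_true]; exact hrS)⟩
    have hf : Function.Injective f := by
      rintro ⟨v, b⟩ ⟨v', b'⟩ e
      have e' : (c v v.2 : G) * zb r b = c v' v'.2 * zb r b' := congrArg Subtype.val e
      have hq : ∀ (b : Bool) (hb : zb r b ∈ centralizer ({r} : Set G)), D.vec (q ⟨zb r b, hb⟩) = 0 := by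
        intro b hb
        cases b
        · rw [hvec _ (show zb r false ∈ R by rw [zb_false]; exact one_mem _)]
          show T.vec (zb r false) = 0
          rw [zb_false]
          have h1 := T.vec_mul R.one_mem R.one_mem
          rw [one_mul] at h1
          exact left_eq_add.1 h1
        · rw [hvec _ (show zb r true ∈ R by rw [zb_true]; exact hrR)]
          show T.vec (zb r true) = 0
          rw [zb_true]
          exact T.vec_r
      have hb : ∀ b : Bool, zb r b ∈ centralizer ({r} : Set G) := fun b => by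
        cases b
        · rw [zb_false]; exact one_mem _
        · rw [zb_true]; exact hrC
      have hbR : ∀ b : Bool, zb r b ∈ R := fun b => by
        cases b
        · rw [zb_false]; exact one_mem _
        · rw [zb_true]; exact hrR
      have ev := congrArg (fun x => D.vec (q x))
        (Subtype.ext e' : c v v.2 * ⟨_, hb b⟩ = c v' v'.2 * ⟨_, hb b'⟩)
      simp only [map_mul] at ev
      rw [D.vec_mul ((hR _).2 (hcS _ _).1) ((hR _).2 (hbR b)), D.vec_mul ((hR _).2 (hcS _ _).1) ((hR _).2 (hbR b')),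
        hq, hq, add_zero, add_zero, hcq, hcq, D.vec_lift, D.vec_lift] at ev
      obtain rfl : v = v' := Subtype.ext ((w⁻¹ : Equiv.Perm W8).injective ev)
      exact Prod.ext rfl (zb_ne hr1 (mul_left_cancel e'))
    have := Nat.card_le_card_of_injective f hf
    rw [Nat.card_prod, Nat.card_coe_set_eq, show Nat.card Bool = 2 by simp, h.z_fix] at this
    omega
  obtain ⟨v0, hv0, hv0F⟩ : ∃ v : W8, v ≠ 0 ∧ v ∈ Fx := by
    obtain ⟨x, hxS, hx⟩ : ∃ x ∈ S, x ∉ zpowers r := by
      by_contra hno
      push Not at hno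
      have := Subgroup.card_le_of_le (fun x hx => hno x hx : S ≤ zpowers r)
      rw [Nat.card_zpowers, h.two, h.z_fix] at this
      omega
    let xC : ↥(centralizer ({r} : Set G)) := ⟨x, (h.N0_le (h.R_le hxS.1)).1⟩
    refine ⟨w (D.vec (q xC)), fun e => hx ?_, (hFx' _).2 ?_⟩
    · have e0 : T.vec x = 0 := by
        rw [← hvec xC hxS.1]
        exact w.injective (e.trans (Cfsg.Agent.ThreeTransp.U62Cent.W8.additive_zero (D.himg.inat.add hw)).symm)
      rcases T.vec_cases hxS.1 e0 with e1 | e1 <;> rw [e1]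
      · exact one_mem _
      · exact mem_zpowers r
    · rw [Equiv.Perm.inv_def, Equiv.symm_apply_apply]
      exact D.fix_of_commute ⟨q zC, D.hAN hzA⟩ ((hR xC).2 hxS.1) ((show Commute zC xC from
        Subtype.ext (mem_centralizer_singleton_iff.1 hxS.2).symm).map q)
  obtain ⟨i, hi⟩ : IsZ a := by
    rcases z_exps a hsum with hn | hz | ⟨i, j, hij, hi, hj⟩
    · exact absurd (eq_zero_of_pl fun i => (dg_fix.1 hv0F i).resolve_left (hn i)) hv0
    · exact hz
    · have := ncard_five i j hij hi hj
      rw [hFx] at hFle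
      omega
  -- the change of coordinates
  set π : Equiv.Perm (Fin 4) := Equiv.swap 0 i
  obtain ⟨k, i0, hi0, hk⟩ := D.himg.inat.cases_GN (pp_GN π)
  have hi0c : ∀ b, i0 * dg b * i0⁻¹ = dg (act false π b) := fun b => by
    have hc : Commute (dg (act false π b)) (sigP ^ k) := by rw [dg_const]; exact dg_comm _ _
    rw [show i0 = (sigP ^ k)⁻¹ * pp π by rw [hk, inv_mul_cancel_left]]
    calc (sigP ^ k)⁻¹ * pp π * dg b * ((sigP ^ k)⁻¹ * pp π)⁻¹
        = (sigP ^ k)⁻¹ * (pp π * dg b * (pp π)⁻¹) * sigP ^ k := by group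
      _ = dg (act false π b) := by rw [pp_dg, mul_inv_cancel_right, mul_assoc, hc.eq, inv_mul_cancel_left]
  set y := i0 * w with hy'
  have hy : y ∈ D.I := mul_mem hi0 hw
  let img' : ↥D.N →* Equiv.Perm W8 := (MulAut.conj y).toMonoidHom.comp D.img
  have hrange : img'.range = D.img.range := by
    obtain ⟨m, hm⟩ := D.himg.le hy
    refine le_antisymm ?_ ?_
    · rintro _ ⟨n, rfl⟩
      exact ⟨m * n * m⁻¹, by rw [map_mul, map_mul, map_inv, hm]; rfl⟩
    · rintro _ ⟨n, rfl⟩
      refine ⟨m⁻¹ * n * m, ?_⟩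
      show y * D.img (m⁻¹ * n * m) * y⁻¹ = _
      rw [map_mul, map_mul, map_inv, hm]; group
  let D' : Frame Y :=
    { D with
      vec := fun x => y (D.vec x)
      img := img'
      himg := hrange ▸ D.himg
      vec_mul := fun {x x'} hx hx' => by rw [D.vec_mul hx hx', D.himg.inat.add hy]
      vec_inj := fun {x} hx e => D.vec_inj hx (y.injective
        (e.trans (Cfsg.Agent.ThreeTransp.U62Cent.W8.additive_zero (D.himg.inat.add hy)).symm))
      surj := fun v => by
        obtain ⟨x, hx, e⟩ := D.surj ((y⁻¹ : Equiv.Perm W8) v)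
        exact ⟨x, hx, by rw [e, Equiv.Perm.inv_def, Equiv.apply_symm_apply]⟩
      ker := fun n => by
        show y * D.img n * y⁻¹ = 1 ↔ _
        rw [conj_eq_one_iff]
        exact D.ker n
      vec_conj := fun n {x} hx => by
        show y (D.vec _) = (y * D.img n * y⁻¹) (y (D.vec x))
        rw [D.vec_conj n hx]
        simp [Equiv.Perm.mul_apply]
      hA := Or.inl (hAc.trans h.A_card) }
  have hdiag : ∀ n : ↥D.N, (n : Y) ∈ D.A → ∃ b : Ex, img' n = dg b := fun n hn => by
    obtain ⟨b, hb⟩ := hdiag0 n hn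
    refine ⟨act false π b, ?_⟩
    show y * D.img n * y⁻¹ = _
    rw [← hi0c, ← hb, hy']; group
  have hinj : ∀ x x' : Y, ∀ (hx : x ∈ D.A) (hx' : x' ∈ D.A),
      img' ⟨x, D.hAN hx⟩ = img' ⟨x', D.hAN hx'⟩ → x = x' := by
    intro x x' hx hx' e
    have hR' : x⁻¹ * x' ∈ D.R := (D'.ker (⟨x, D.hAN hx⟩⁻¹ * ⟨x', D.hAN hx'⟩)).1 (by
      show img' _ = 1
      rw [map_mul, map_inv, e, inv_mul_cancel])
    by_contra hne
    exact D.not_R_of_three (D.hAexp _ (mul_mem (inv_mem hx) hx')) (fun e' => hne (inv_mul_eq_one.1 e')) hR'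
  let C : Cfg Y :=
    { toFrame := D'
      card81 := hAc.trans h.A_card
      diag := hdiag
      std := fun b => by
        choose f hf using fun x : ↥D.A => hdiag ⟨x, D.hAN x.2⟩ x.2
        have hfi : Function.Injective f := fun x x' e => Subtype.ext (hinj _ _ x.2 x'.2 (by
          rw [hf x, hf x', e]))
        haveI := Fintype.ofFinite ↥D.A
        have hbij := (Fintype.bijective_iff_injective_and_card f).2 ⟨hfi, by
          rw [← Nat.card_eq_fintype_card, hAc, h.A_card]; rfl⟩
        obtain ⟨x, hx⟩ := hbij.2 b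
        exact ⟨⟨x, D.hAN x.2⟩, x.2, (hf x).trans (congrArg dg hx)⟩
      sig := fun K hK3 hAK => by
        intro x hx
        obtain ⟨c, rfl⟩ := hqs x
        refine (hR c).2 (h.sig ((K.comap q).map (centralizer ({r} : Set G)).subtype) (map_subtype_le _) ?_ ?_
          ⟨c, hx, rfl⟩)
        · rw [← Nat.card_congr (equivMapOfInjective _ _ (centralizer ({r} : Set G)).subtype_injective).toEquiv]
          let f : ↥(K.comap q) →* ↥K :=
            { toFun := fun c => ⟨q c, c.2⟩
              map_one' := Subtype.ext (map_one q)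
              map_mul' := fun a b => Subtype.ext (map_mul q _ _) }
          have hfs : Function.Surjective f := fun k => by
            obtain ⟨c, hc⟩ := hqs k
            exact ⟨⟨c, show q c ∈ K from hc ▸ k.2⟩, Subtype.ext hc⟩
          rw [← f.ker.card_mul_index, Subgroup.index_ker, MonoidHom.range_eq_top.2 hfs, card_top]
          refine Nat.Coprime.mul_left ?_ hK3
          have hle : Nat.card ↥f.ker ≤ 2 := by
            refine le_trans (Nat.card_le_card_of_injective
              (fun c : ↥f.ker => decide (((c : ↥(K.comap q)) : ↥(centralizer ({r} : Set G))).val = 1))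
              fun c c' e => ?_) (by simp)
            have key : ∀ c : ↥f.ker, ((c : ↥(K.comap q)) : ↥(centralizer ({r} : Set G))).val = 1 ∨
                ((c : ↥(K.comap q)) : ↥(centralizer ({r} : Set G))).val = r := fun c => by
              have hc : q (c : ↥(K.comap q)) = q 1 := (congrArg Subtype.val c.2).trans (map_one q).symm
              simpa using heq 1 _ hc.symm
            refine Subtype.ext (Subtype.ext (Subtype.ext ?_))
            rcases key c with h1 | h1 <;> rcases key c' with h2 | h2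
            · exact h1.trans h2.symm
            · exact absurd (h2.symm.trans ((decide_eq_decide.1 e).1 h1)) hr1
            · exact absurd (h1.symm.trans ((decide_eq_decide.1 e).2 h2)) hr1
            · exact h1.trans h2.symm
          have := Nat.card_pos (α := ↥f.ker)
          interval_cases hh : Nat.card ↥f.ker <;> norm_num
        · intro b hb
          refine mem_normalizer_fintype ?_
          rintro _ ⟨d, hd, rfl⟩
          let bC : ↥(centralizer ({r} : Set G)) := ⟨b, h.A_cent hb⟩
          refine ⟨bC * d * bC⁻¹, ?_, rfl⟩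
          show q (bC * d * bC⁻¹) ∈ K
          rw [map_mul, map_mul, map_inv]
          exact ((mem_normalizer_iff.1 (hAK (show q bC ∈ D.A from
            hAY ▸ mem_map_of_mem q (show bC ∈ A.subgroupOf _ from hb)))) _).1 hd
      hz := fun n hn hni => by
        have hzi : img' ⟨q zC, D.hAN hzA⟩ = dg (zt 0) ∨ img' ⟨q zC, D.hAN hzA⟩ = dg (-zt 0) := by
          have e : img' ⟨q zC, D.hAN hzA⟩ = dg (act false π a) := by
            show y * _ * y⁻¹ = _
            rw [← hi0c, ← ha, hy']; group
          rcases hi with rfl | rfl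
          · exact Or.inl (e.trans (congrArg dg (zt_back i).1))
          · exact Or.inr (e.trans (congrArg dg (zt_back i).2))
        intro x hx
        rw [mem_centralizer_singleton_iff] at hx
        have hxz : Commute x (q zC) := by
          rcases hzi with e | e
          · rw [← hinj n (q zC) hn hzA (hni.trans e.symm)]; exact hx
          · have e' : (q zC)⁻¹ = n := hinj _ _ (inv_mem hzA) hn (by
              rw [show (⟨(q zC)⁻¹, D.hAN (inv_mem hzA)⟩ : ↥D.N) = ⟨q zC, D.hAN hzA⟩⁻¹ from rfl, map_inv, e,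
                dg_inv, neg_neg]
              exact hni.symm)
            rw [← e'] at hx
            exact Commute.inv_right_iff.1 hx
        obtain ⟨c, rfl⟩ := hqs x
        exact (hN c).2 ⟨c.2, h.z_cent ⟨mem_centralizer_singleton_iff.2 (hzq c hxz).eq, c.2⟩⟩
      hqe := fun {x x' g} hx hx' e => by
        obtain ⟨b, rfl⟩ := hqs x
        obtain ⟨b', rfl⟩ := hqs x'
        obtain ⟨c, rfl⟩ := hqs g
        have hb := (hR b).1 hx
        have hb' := (hR b').1 hx'
        show qe true (y (D.vec _)) = qe true (y (D.vec _))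
        rw [(D.himg.iso y (D.himg.le hy)).q, (D.himg.iso y (D.himg.le hy)).q, hvec b hb, hvec b' hb']
        apply zb_ne hr1
        rw [← T.sq hb, ← T.sq hb']
        have hsq : (c : G) * ((b : G) * b) * (c : G)⁻¹ = (b : G) * b := by
          rw [T.sq hb]
          cases qe true (T.vec (b : G))
          · simp [zb_false]
          · rw [zb_true, (hc0 c).eq, mul_inv_cancel_right]
        have hsq' : (c : G) * b * (c : G)⁻¹ * ((c : G) * b * (c : G)⁻¹) = (b : G) * b := by
          rw [conj_mul]; exact hsq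
        rcases heq (c * b * c⁻¹) b' (by rw [map_mul, map_mul, map_inv]; exact e) with e' | e'
        · push_cast at e'
          rw [e', hsq']
        · have hcr : Commute r ((c : G) * b * (c : G)⁻¹) :=
            ((hc0 c).symm.mul_right (hc0 b).symm).mul_right (hc0 c).symm.inv_right
          push_cast at e'
          rw [e', hcr.mul_mul_mul_comm, hsq', hrr, mul_one] }
  intro c hc
  have hm : q ⟨c, hc⟩ ∈ C.N := by rw [C.eq_top]; exact mem_top _
  exact ((hN _).1 hm).2

end Cfsg.Agent.UThreeLocal.Two.Big
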