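import Cfsg.Agent.Lib.UThreeLocal.Two.Big.Mono

/-!
# Recognising monomial maps of the natural module
-/

set_option autoImplicit false
set_option maxRecDepth 100000
set_option synthInstance.maxSize 4096
set_option synthInstance.maxHeartbeats 200000

namespace Cfsg.Agent.UThreeLocal.Two.Big

open Cfsg.Agent.ThreeTransp.U62Cent
open Cfsg.Agent.ThreeTransp.U62Cent.W8

/-- the generator of a line -/
def ax (i : Fin 4) : W8 := W8.mk (4 ^ (i : ℕ))

/-- a vector on one line -/
def OnLine (i : Fin 4) (v : W8) : Prop := ∀ j : Fin 4, j ≠ i → v.pl j = 0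

/-- a weight two element of the diagonal group -/
def d0 : Ex := ![0, 0, 1, 2]

/-- the exponents fixing exactly one line -/
def zt (i : Fin 4) : Ex := fun j => if j = i then 0 else 1

/-- the exponents of one generator -/
def one (i : Fin 4) : Ex := fun j => if j = i then 1 else 0

/-- the transposition of the first two lines -/
def sw : Equiv.Perm (Fin 4) := Equiv.swap 0 1

/-- the transposition of the last two lines -/
def sw' : Equiv.Perm (Fin 4) := Equiv.swap 2 3

theorem pl_ax : ∀ i j : Fin 4, (ax i).pl j = if j = i then 1 else 0 := by decide +kernel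

theorem ax_ne : ∀ i, ax i ≠ 0 := by decide +kernel

theorem qe_ax : ∀ i, qe true (ax i) = true := by decide +kernel

theorem basis_ax : ∀ w ∈ basis, ∃ i, w = ax i ∨ w = W8.sig (ax i) := by decide +kernel

theorem zero_pl : ∀ i : Fin 4, (0 : W8).pl i = 0 := by decide +kernel

theorem eq_zero_of_pl {v : W8} (h : ∀ i : Fin 4, v.pl i = 0) : v = 0 :=
  ext_pl fun i => (h i).trans (zero_pl i).symm

theorem tw_fix : ∀ (k : ZMod 3) (p : Fin 4), tw k p.val = p.val ↔ k = 0 ∨ p.val = 0 := by decide +kernel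

theorem dg_fix {a : Ex} {v : W8} : dg a v = v ↔ ∀ i : Fin 4, a i = 0 ∨ v.pl i = 0 := by
  constructor
  · intro h i
    have := congrArg (fun w : W8 => w.pl i) h
    simp only [show dg a v = dgF a v from rfl, pl_dgF] at this
    exact (tw_fix (a i) ⟨_, pl_lt v i⟩).1 this
  · intro h
    refine ext_pl fun i => ?_
    show (dgF a v).pl i = v.pl i
    rw [pl_dgF]
    exact (tw_fix (a i) ⟨_, pl_lt v i⟩).2 (h i)

theorem unit_pl : ∀ p : Fin 4, p.val ≠ 0 → ∃ k : ZMod 3, tw k 1 = p.val := by decide +kernel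

theorem line_eq {i : Fin 4} {v : W8} (h : OnLine i v) (h0 : v ≠ 0) : ∃ k : ZMod 3,
    v = dg (fun _ => k) (ax i) := by
  have hi : v.pl i ≠ 0 := fun e => h0 (eq_zero_of_pl fun j => by
    by_cases hj : j = i
    · rw [hj, e]
    · exact h j hj)
  obtain ⟨k, hk⟩ := unit_pl ⟨_, pl_lt v i⟩ hi
  refine ⟨k, ext_pl fun j => ?_⟩
  show v.pl j = (dgF (fun _ => k) (ax i)).pl j
  rw [pl_dgF, pl_ax]
  by_cases hj : j = i
  · rw [hj, if_pos rfl]; exact hk.symm
  · rw [if_neg hj, h j hj]
    exact ((tw_props k 0 0).2.2.2.2.1.2 rfl).symm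

theorem tw_zero (k : ZMod 3) : tw k 0 = 0 := (tw_props k 0 0).2.2.2.2.1.2 rfl

theorem pp_mul (π ρ : Equiv.Perm (Fin 4)) : pp π * pp ρ = pp (π * ρ) :=
  Equiv.ext fun v => ext_pl fun i => by
    show (ppF π (ppF ρ v)).pl i = (ppF (π * ρ) v).pl i
    rw [pl_ppF, pl_ppF, pl_ppF]
    rfl

theorem pp_cj (π : Equiv.Perm (Fin 4)) : pp π * cj = cj * pp π :=
  Equiv.ext fun v => ext_pl fun i => by
    show (ppF π (cjF v)).pl i = (cjF (ppF π v)).pl i
    rw [pl_ppF, pl_cjF, pl_cjF, pl_ppF]

theorem cj_sq : cj * cj = 1 := Equiv.ext cjF_inv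

theorem mo_pl (s : Bool) (π : Equiv.Perm (Fin 4)) (a : Ex) (v : W8) (i : Fin 4) :
    (mo s π a v).pl i = tw (a (π.symm i)) (if s then cjp (v.pl (π.symm i : Fin 4)) else v.pl (π.symm i : Fin 4)) := by
  cases s
  · show (ppF π (dgF a v)).pl i = _
    rw [pl_ppF, pl_dgF]; rfl
  · show (ppF π (dgF a (cjF v))).pl i = _
    rw [pl_ppF, pl_dgF, pl_cjF]; rfl

theorem mo_ax (s : Bool) (π : Equiv.Perm (Fin 4)) (a : Ex) (i : Fin 4) :
    mo s π a (ax i) = dg (fun _ => a i) (ax (π i)) := ext_pl fun j => by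
  show _ = (dgF (fun _ => a i) (ax (π i))).pl j
  rw [mo_pl, pl_dgF, pl_ax, pl_ax]
  by_cases hj : j = π i
  · subst hj
    simp [Equiv.symm_apply_apply]
    cases s <;> simp [cjp]
  · have : π.symm j ≠ i := fun e => hj (by rw [← e, Equiv.apply_symm_apply])
    rw [if_neg this, if_neg hj]
    have h0 : ∀ k : ZMod 3, tw k 0 = 0 := fun k => (tw_props k 0 0).2.2.2.2.1.2 rfl
    cases s <;> simp [cjp, h0]

theorem mo_fix {s : Bool} {π : Equiv.Perm (Fin 4)} {a : Ex} {i : Fin 4} (h : mo s π a (ax i) = ax i) :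
    π i = i ∧ a i = 0 := by
  rw [mo_ax] at h
  have h' := congrArg (fun w : W8 => w.pl (π i : Fin 4)) h
  simp only [show ∀ c v, dg c v = dgF c v from fun _ _ => rfl, pl_dgF, pl_ax, if_true] at h'
  by_cases hi : π i = i
  · rw [if_pos hi] at h'
    exact ⟨hi, tw_inj _ 0 (h'.trans (tw_props 0 0 1).2.1.symm)⟩
  · rw [if_neg hi] at h'
    exact absurd ((tw_props (a i) 0 1).2.2.2.2.1.1 h') (by decide)

theorem mo_sig (s : Bool) (π : Equiv.Perm (Fin 4)) (a : Ex) (v : W8) :
    mo s π a (W8.sig v) = if s then W8.sig (W8.sig (mo s π a v)) else W8.sig (mo s π a v) := by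
  cases s
  · exact (mo_GN π a).sig rfl v
  · show (pp π * dg a) (cj (W8.sig v)) = W8.sig (W8.sig ((pp π * dg a) (cj v)))
    have h := fun w => (show pp π * dg a ∈ GN from mo_GN π a).sig rfl w
    rw [cj_semi, h, h]

theorem A0_ex : ∀ A ∈ A0, ∃ a : Ex, a 0 + a 1 + a 2 + a 3 = 0 ∧ cols (dgF a) = A := by decide +kernel

theorem ex_A0 : ∀ a : Ex, a 0 + a 1 + a 2 + a 3 = 0 → cols (dgF a) ∈ A0 := by decide +kernel

theorem dg_const (k : ℕ) : sigP ^ k = dg fun _ => (k : ZMod 3) := by
  induction k with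
  | zero => rw [pow_zero, ← dg_zero]; congr 1
  | succ k ih => rw [pow_succ, ih, sigP_eq, ← dg_mul]; congr 1; funext i; simp

/-- The standard group is the diagonal group. -/
theorem inA_dg {g : Equiv.Perm W8} (hg : g ∈ addPerm) : InA g ↔ ∃ a : Ex, g = dg a := by
  constructor
  · rintro ⟨k, hk⟩
    obtain ⟨a, -, ha⟩ := A0_ex _ hk
    refine ⟨-(fun _ => (k : ZMod 3)) + a, ?_⟩
    have e : sigP ^ k * g = dg a := perm_ext
      (mul_mem (pow_mem (show sigP ∈ addPerm from sigP_mem.add) k) hg) (dg_add a) ha.symm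
    rw [dg_mul, ← dg_inv, ← dg_const, ← e, inv_mul_cancel_left]
  · rintro ⟨a, rfl⟩
    refine ⟨(-(a 0 + a 1 + a 2 + a 3)).val, ?_⟩
    rw [dg_const, ← dg_mul]
    refine ex_A0 _ ?_
    simp only [Pi.add_apply, ZMod.natCast_val, ZMod.cast_id', id_eq]
    generalize a 0 = w; generalize a 1 = x; generalize a 2 = y; generalize a 3 = z
    revert w x y z; decide

section Recognise

variable {I Γ : Subgroup (Equiv.Perm W8)} (h : Img I Γ)

include h

/-- A map sending the lines to lines is monomial. -/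
theorem mono_of_lines {g : Equiv.Perm W8} (hg : g ∈ Γ) (hl : ∀ i, ∃ j, OnLine j (g (ax i))) :
    ∃ s π a, g = mo s π a ∧ (s = false ↔ g ∈ GN) := by
  classical
  choose f hf using hl
  have hadd := h.add hg
  have hne : ∀ i, g (ax i) ≠ 0 := fun i e => ax_ne i (g.injective (e.trans (additive_zero hadd).symm))
  choose k hk using fun i => line_eq (hf i) (hne i)
  obtain ⟨s, hs, hsig⟩ : ∃ s : Bool, (s = false ↔ g ∈ GN) ∧
      ∀ v, g (W8.sig v) = if s then W8.sig (W8.sig (g v)) else W8.sig (g v) := by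
    by_cases hG : g ∈ GN
    · exact ⟨false, by simp [hG], fun v => hG.sig rfl v⟩
    · exact ⟨true, by simp [hG], fun v => h.semi g hg hG v⟩
  have hinj : Function.Injective f := by
    intro i j e
    by_contra hij
    have e' : g (ax j) = dg (fun _ => k j - k i) (g (ax i)) := by
      rw [hk j, hk i, ← e, ← Equiv.Perm.mul_apply, ← dg_mul]
      congr 2
      funext _
      simp
    obtain ⟨m, hm⟩ : ∃ m, g ((sigP ^ m) (ax i)) = g (ax j) := by
      by_cases hs' : s = false
      · refine ⟨(k j - k i).val, ?_⟩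
        have hG := hs.1 hs'
        have hc : Commute g (sigP ^ (k j - k i).val) :=
          Commute.pow_right (Equiv.ext fun v => hG.sig rfl v) _
        rw [← Equiv.Perm.mul_apply, hc.eq, Equiv.Perm.mul_apply, e', dg_const]
        simp
      · have hG : g ∉ GN := fun hG => hs' (hs.2 hG)
        refine ⟨2 * (k j - k i).val, ?_⟩
        have hc : ∀ n : ℕ, g * sigP ^ n = sigP ^ (2 * n) * g := by
          intro n
          induction n with
          | zero => simp
          | succ n ih =>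
            rw [pow_succ, ← mul_assoc, ih, mul_assoc,
              show g * sigP = sigP ^ 2 * g from Equiv.ext fun v => h.semi g hg hG v, ← mul_assoc, ← pow_add,
              mul_add]
        rw [← Equiv.Perm.mul_apply, hc, Equiv.Perm.mul_apply, e', ← mul_assoc, dg_const]
        congr 2
        funext _
        push_cast
        rw [ZMod.natCast_val, ZMod.cast_id', id_eq]
        generalize k j - k i = x
        revert x
        decide
    have h0 := congrArg (fun w : W8 => w.pl j) (g.injective hm)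
    rw [dg_const] at h0
    simp only [show ∀ c v, dg c v = dgF c v from fun _ _ => rfl, pl_dgF, pl_ax, if_neg (Ne.symm hij),
      if_true] at h0
    rw [tw_zero] at h0
    exact absurd h0 (by decide)
  refine ⟨s, Equiv.ofBijective f (Finite.injective_iff_bijective.1 hinj), k, Equiv.ext fun v => ?_, hs⟩
  refine W8.basis_add v (f := g) hadd (mo_add s _ k) fun w hw => ?_
  obtain ⟨i, rfl | rfl⟩ := basis_ax w hw
  · rw [mo_ax, hk i]; rfl
  · rw [mo_sig, mo_ax, hsig, hk i]; rfl

omit h in
theorem ncard_five (j l : Fin 4) (hjl : j ≠ l) {c : Ex} (hj : c j = 0) (hl : c l = 0) :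
    5 ≤ {v : W8 | dg c v = v}.ncard := by
  have hnd : ∀ j l : Fin 4, j ≠ l →
      ({0, ax j, W8.sig (ax j), ax l, W8.sig (ax l)} : Finset W8).card = 5 := by decide +kernel
  rw [← hnd j l hjl, ← Set.ncard_coe_finset]
  refine Set.ncard_le_ncard ?_ (Set.toFinite _)
  have hax : ∀ i, c i = 0 → dg c (ax i) = ax i ∧ dg c (W8.sig (ax i)) = W8.sig (ax i) := fun i hi => by
    have h1 : dg c (ax i) = ax i := dg_fix.2 fun m => by
      by_cases hm : m = i
      · exact Or.inl (hm ▸ hi)
      · exact Or.inr (by rw [pl_ax, if_neg hm])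
    exact ⟨h1, by rw [(dg_GN c).sig rfl, h1]⟩
  intro v hv
  simp only [Finset.coe_insert, Finset.coe_singleton, Set.mem_insert_iff, Set.mem_singleton_iff] at hv
  rcases hv with rfl | rfl | rfl | rfl | rfl
  · exact additive_zero (dg_add c)
  · exact (hax j hj).1
  · exact (hax j hj).2
  · exact (hax l hl).1
  · exact (hax l hl).2

omit h in
theorem zt_fix (i : Fin 4) : {v : W8 | dg (zt i) v = v}.ncard ≤ 4 := by
  have hc : ∀ i : Fin 4, ((span basis).filter fun v => ([0, 1, 2, 3] : List (Fin 4)).all fun j =>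
      j == i || v.pl j == 0).length ≤ 4 := by decide +kernel
  refine le_trans ?_ (hc i)
  refine le_trans ?_ (List.toFinset_card_le _)
  rw [← Set.ncard_coe_finset]
  refine Set.ncard_le_ncard (fun v hv => ?_) (Set.toFinite _)
  rw [List.coe_toFinset, Set.mem_setOf_eq, List.mem_filter, List.all_eq_true]
  refine ⟨span_all v, fun j _ => ?_⟩
  rcases dg_fix.1 hv j with e | e
  · simp only [zt] at e
    by_cases hj : j = i
    · simp [hj]
    · rw [if_neg hj] at e; exact absurd e (by decide)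
  · simp [e]

/-- An element normalising the diagonal group is monomial. -/
theorem mono_of_normal {g : Equiv.Perm W8} (hg : g ∈ Γ)
    (hn : ∀ b, ∃ c, g * dg b * g⁻¹ = dg c) : ∃ s π a, g = mo s π a ∧ (s = false ↔ g ∈ GN) := by
  refine mono_of_lines h hg fun i => ?_
  obtain ⟨c, hc⟩ := hn (zt i)
  have hfix : dg c (g (ax i)) = g (ax i) := by
    rw [← hc, perm_conj_apply, dg_fix.2]
    intro j
    by_cases hj : j = i
    · exact Or.inl (by simp [zt, hj])
    · exact Or.inr (by rw [pl_ax, if_neg hj])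
  have hcard : {v : W8 | dg c v = v}.ncard ≤ 4 := by
    rw [← hc, ncard_fix_conj]; exact zt_fix i
  obtain ⟨j, hj⟩ : ∃ j, c j = 0 := by
    by_contra hno
    push Not at hno
    refine ax_ne i (g.injective ((eq_zero_of_pl fun j => ?_).trans (additive_zero (h.add hg)).symm))
    exact (dg_fix.1 hfix j).resolve_left (hno j)
  refine ⟨j, fun l hl => (dg_fix.1 hfix l).resolve_left fun e => ?_⟩
  have := ncard_five j l (Ne.symm hl) hj e
  omega

omit h in
theorem d0_eigen : ∀ p : Fin 4, (tw 0 p.val = rot p.val → p.val = 0) ∧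
    (tw 2 p.val = rot p.val → p.val = 0) ∧ (tw 0 p.val = rot (rot p.val) → p.val = 0) ∧
    (tw 1 p.val = rot (rot p.val) → p.val = 0) := by decide +kernel

omit h in
theorem qe_two : ∀ v : W8, v.pl 2 = 0 → v.pl 3 = 0 → qe true v = true → v.pl 0 = 0 ∨ v.pl 1 = 0 := by
  decide +kernel

/-- An element commuting with the weight two element is monomial. -/
theorem mono_of_d0 {g : Equiv.Perm W8} (hg : g ∈ Γ) (hc : Commute g (dg d0)) :
    ∃ s π a, g = mo s π a ∧ (s = false ↔ g ∈ GN) ∧ act s π d0 = d0 := by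
  have hfix : ∀ i : Fin 4, d0 i = 0 → ∃ j, OnLine j (g (ax i)) := by
    intro i hi
    have e : dg d0 (g (ax i)) = g (ax i) := by
      rw [← Equiv.Perm.mul_apply, ← hc.eq, Equiv.Perm.mul_apply, dg_fix.2]
      intro m
      by_cases hm : m = i
      · exact Or.inl (hm ▸ hi)
      · exact Or.inr (by rw [pl_ax, if_neg hm])
    have h2 := (dg_fix.1 e 2).resolve_left (by decide)
    have h3 := (dg_fix.1 e 3).resolve_left (by decide)
    have hq : qe true (g (ax i)) = true := by rw [(h.iso g hg).q, qe_ax]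
    rcases qe_two _ h2 h3 hq with e0 | e1
    · exact ⟨1, fun j hj => by fin_cases j <;> simp_all⟩
    · exact ⟨0, fun j hj => by fin_cases j <;> simp_all⟩
  obtain ⟨s, π, a, rfl, hs⟩ := mono_of_lines h hg fun i => by
    by_cases hi : d0 i = 0
    · exact hfix i hi
    have e : dg d0 (g (ax i)) = g (dg d0 (ax i)) := by
      rw [← Equiv.Perm.mul_apply, ← hc.eq]; rfl
    have hev : dg d0 (ax i) = W8.sig (ax i) ∨ dg d0 (ax i) = W8.sig (W8.sig (ax i)) := by
      have hdec : ∀ i : Fin 4, d0 i ≠ 0 → dgF d0 (ax i) = W8.sig (ax i) ∨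
          dgF d0 (ax i) = W8.sig (W8.sig (ax i)) := by decide +kernel
      exact hdec i hi
    set v := g (ax i)
    have hv : dg d0 v = W8.sig v ∨ dg d0 v = W8.sig (W8.sig v) := by
      by_cases hG : g ∈ GN
      · rcases hev with e' | e' <;> rw [e'] at e
        · exact Or.inl (e.trans (hG.sig rfl _))
        · exact Or.inr (by rw [e, hG.sig rfl, hG.sig rfl])
      · rcases hev with e' | e' <;> rw [e'] at e
        · exact Or.inr (e.trans (h.semi g hg hG _))
        · exact Or.inl (by rw [e, h.semi g hg hG, h.semi g hg hG, W8.sig_three])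
    have hp := fun j : Fin 4 => d0_eigen ⟨_, pl_lt v j⟩
    rcases hv with hv | hv
    · have hj : ∀ j : Fin 4, tw (d0 j) (v.pl j) = rot (v.pl j) := fun j => by
        have := congrArg (fun w : W8 => w.pl j) hv
        simpa only [show ∀ c w, dg c w = dgF c w from fun _ _ => rfl, pl_dgF, pl_sig] using this
      exact ⟨2, fun j hj' => by
        fin_cases j
        · exact (hp 0).1 (hj 0)
        · exact (hp 1).1 (hj 1)
        · exact absurd rfl hj'
        · exact (hp 3).2.1 (hj 3)⟩
    · have hj : ∀ j : Fin 4, tw (d0 j) (v.pl j) = rot (rot (v.pl j)) := fun j => by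
        have := congrArg (fun w : W8 => w.pl j) hv
        simpa only [show ∀ c w, dg c w = dgF c w from fun _ _ => rfl, pl_dgF, pl_sig] using this
      exact ⟨3, fun j hj' => by
        fin_cases j
        · exact (hp 0).2.2.1 (hj 0)
        · exact (hp 1).2.2.1 (hj 1)
        · exact (hp 2).2.2.2 (hj 2)
        · exact absurd rfl hj'⟩
  refine ⟨s, π, a, rfl, hs, dg_injective ?_⟩
  rw [← mo_dg_conj s π a d0, hc.eq, mul_inv_cancel_right]

omit h in
theorem line_perp : ∀ v : W8, ∀ i : Fin 4, bb v (ax i) = false → bb v (W8.sig (ax i)) = false →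
    v.pl i = 0 := by decide +kernel

/-- An element fixing the last two lines is monomial. -/
theorem mono_of_fix {g : Equiv.Perm W8} (hg : g ∈ Γ)
    (hfix : ∀ i : Fin 4, (i = 2 ∨ i = 3) → g (ax i) = ax i ∧ g (W8.sig (ax i)) = W8.sig (ax i)) :
    ∃ π a, g = mo false π a ∧ g ∈ GN ∧ (π = 1 ∨ π = sw) ∧ a 2 = 0 ∧ a 3 = 0 := by
  have hG : g ∈ GN := by
    by_contra hG
    have e := h.semi g hg hG (ax 2)
    rw [(hfix 2 (Or.inl rfl)).1, (hfix 2 (Or.inl rfl)).2] at e
    exact absurd e (by decide +kernel)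
  obtain ⟨s, π, a, rfl, hs⟩ := mono_of_lines h hg fun i => by
    by_cases hi : i = 2 ∨ i = 3
    · exact ⟨i, fun j hj => by rw [(hfix i hi).1, pl_ax, if_neg hj]⟩
    have h0 : ∀ m : Fin 4, m = 2 ∨ m = 3 → (g (ax i)).pl m = 0 := fun m hm => by
      refine line_perp _ m ?_ ?_
      · rw [← (hfix m hm).1, IsIso.bb (h.iso g hg)]
        revert hi hm; revert i m; decide +kernel
      · rw [← (hfix m hm).2, IsIso.bb (h.iso g hg)]
        revert hi hm; revert i m; decide +kernel
    have hq : qe true (g (ax i)) = true := by rw [(h.iso g hg).q, qe_ax]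
    rcases qe_two _ (h0 2 (Or.inl rfl)) (h0 3 (Or.inr rfl)) hq with e0 | e1
    · exact ⟨1, fun j hj => by
        fin_cases j
        exacts [e0, absurd rfl hj, h0 2 (Or.inl rfl), h0 3 (Or.inr rfl)]⟩
    · exact ⟨0, fun j hj => by
        fin_cases j
        exacts [absurd rfl hj, e1, h0 2 (Or.inl rfl), h0 3 (Or.inr rfl)]⟩
  obtain rfl := hs.2 hG
  have h2 := mo_fix (hfix 2 (Or.inl rfl)).1
  have h3 := mo_fix (hfix 3 (Or.inr rfl)).1
  have hπ : ∀ π : Equiv.Perm (Fin 4), π 2 = 2 → π 3 = 3 → π = 1 ∨ π = sw := by decide +kernel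
  exact ⟨π, a, rfl, hG, hπ π h2.1 h3.1, h2.2, h3.2⟩

end Recognise

end Cfsg.Agent.UThreeLocal.Two.Big
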