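import Cfsg.Agent.Lib.UThreeLocal.Two.Setting
import Cfsg.Agent.Lib.UThreeLocal.Two.Big.Model

/-!
# The setting of the big case: the elementary group of order `81` and its normaliser
-/

set_option autoImplicit false
set_option linter.unusedSectionVars false
set_option linter.style.haveILetI false

namespace Cfsg.Agent.UThreeLocal.Two.Big

open Subgroup
open Cfsg.Agent.ThreeTransp.U62Cent (W8 GN sigP addPerm)
open Cfsg.Agent.ThreeTransp.U62Cent.W8 (qe bb additive_zero)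

universe u

/-- The setting modulo the involution: the elementary group of order `81` is diagonal, its
invariant `3'`-subgroups lie in the module and one element with four fixed vectors has its
centraliser in the local subgroup. -/
structure Cfg (Y : Type u) [Group Y] extends Frame Y where
  card81 : Nat.card ↥A = 81
  diag : ∀ n : ↥N, (n : Y) ∈ A → ∃ a : Ex, img n = dg a
  std : ∀ a : Ex, ∃ n : ↥N, (n : Y) ∈ A ∧ img n = dg a
  sig : ∀ K : Subgroup Y, (Nat.card ↥K).Coprime 3 → A ≤ normalizer (K : Set Y) → K ≤ R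
  hz : ∀ n : ↥N, (n : Y) ∈ A → img n = dg (zt 0) → centralizer ({(n : Y)} : Set Y) ≤ N
  hqe : ∀ {x y g : Y}, x ∈ R → y ∈ R → g * x * g⁻¹ = y → qe true (vec x) = qe true (vec y)

namespace Cfg

variable {Y : Type u} [Group Y] [Finite Y] (D : Cfg Y)

theorem dg_range (a : Ex) : dg a ∈ D.img.range := by
  obtain ⟨n, -, hn⟩ := D.std a
  exact ⟨n, hn⟩

theorem GN_le : GN ≤ D.img.range := by
  intro g hg
  obtain ⟨k, i, hi, rfl⟩ := D.himg.inat.cases_GN hg
  exact mul_mem (pow_mem (sigP_eq ▸ D.dg_range _) k) (D.himg.le hi)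

/-- The element of the elementary group with given exponents. -/
noncomputable def el (a : Ex) : Y := ((D.std a).choose : ↥D.N)

theorem el_mem (a : Ex) : D.el a ∈ D.A := (D.std a).choose_spec.1

theorem el_N (a : Ex) : D.el a ∈ D.N := D.hAN (D.el_mem a)

theorem img_el (a : Ex) : D.img ⟨D.el a, D.el_N a⟩ = dg a := (D.std a).choose_spec.2

theorem el_three (a : Ex) : D.el a ^ 3 = 1 := D.hAexp _ (D.el_mem a)

theorem A_ext {x y : Y} (hx : x ∈ D.A) (hy : y ∈ D.A)
    (h : D.img ⟨x, D.hAN hx⟩ = D.img ⟨y, D.hAN hy⟩) : x = y := by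
  have hR : x⁻¹ * y ∈ D.R := (D.ker (⟨x, D.hAN hx⟩⁻¹ * ⟨y, D.hAN hy⟩)).1 (by
    rw [map_mul, map_inv, h, inv_mul_cancel])
  by_contra hne
  exact D.not_R_of_three (D.hAexp _ (mul_mem (inv_mem hx) hy))
    (fun e => hne (inv_mul_eq_one.1 e)) hR

theorem exists_el {x : Y} (hx : x ∈ D.A) : ∃ a, x = D.el a := by
  obtain ⟨a, ha⟩ := D.diag ⟨x, D.hAN hx⟩ hx
  exact ⟨a, D.A_ext hx (D.el_mem a) (ha.trans (D.img_el a).symm)⟩

theorem el_add (a b : Ex) : D.el (a + b) = D.el a * D.el b :=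
  D.A_ext (D.el_mem _) (mul_mem (D.el_mem a) (D.el_mem b)) (by
    rw [D.img_el, show (⟨D.el a * D.el b, D.hAN (mul_mem (D.el_mem a) (D.el_mem b))⟩ : ↥D.N) =
      ⟨_, D.el_N a⟩ * ⟨_, D.el_N b⟩ from rfl, map_mul, D.img_el, D.img_el, dg_mul])

theorem el_zero : D.el 0 = 1 := by
  have h := D.el_add 0 0
  rw [add_zero] at h
  exact left_eq_mul.1 h

theorem el_neg (a : Ex) : D.el (-a) = (D.el a)⁻¹ :=
  eq_inv_of_mul_eq_one_left (by rw [← D.el_add, neg_add_cancel, D.el_zero])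

theorem el_ne {a : Ex} (ha : a ≠ 0) : D.el a ≠ 1 := fun e => ha (dg_injective (by
  rw [← D.img_el a, dg_zero, show (⟨D.el a, D.el_N a⟩ : ↥D.N) = 1 from Subtype.ext e, map_one]))

theorem el_comm (a b : Ex) : Commute (D.el a) (D.el b) := D.hAcomm _ (D.el_mem a) _ (D.el_mem b)

theorem el_fix {a : Ex} {x : Y} (hx : x ∈ D.R) : Commute (D.el a) x ↔ dg a (D.vec x) = D.vec x := by
  rw [← D.img_el a]
  exact ⟨D.fix_of_commute ⟨_, D.el_N a⟩ hx, D.commute_of_fix ⟨_, D.el_N a⟩ hx⟩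

theorem dg_fpf {a : Ex} (ha : ∀ i, a i ≠ 0) {v : W8} (hv : dg a v = v) : v = 0 :=
  eq_zero_of_pl fun i => (dg_fix.1 hv i).resolve_left (ha i)

theorem fpf_eq_one {a : Ex} (ha : ∀ i, a i ≠ 0) {x : Y} (hx : x ∈ D.R) (h : Commute (D.el a) x) :
    x = 1 := D.vec_inj hx (dg_fpf ha ((D.el_fix hx).1 h))

/-- An element of order three over an element of the elementary group is conjugate to it by the
module. -/
theorem to_el {d : Y} (hd : d ∈ D.N) (h3 : d ^ 3 = 1) {a : Ex} (e : D.img ⟨d, hd⟩ = dg a) :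
    ∃ t ∈ D.R, t * d * t⁻¹ = D.el a ∧ ∀ S : Subgroup Y, d ∈ S → D.el a ∈ S → t ∈ S := by
  set A := D.el a with hA
  set r := d * A⁻¹ with hr'
  have hr : r ∈ D.R := (D.ker (⟨d, hd⟩ * ⟨A, D.el_N a⟩⁻¹)).1 (by
    rw [map_mul, e, map_inv, D.img_el, mul_inv_cancel])
  have hda : d = r * A := by rw [hr', inv_mul_cancel_right]
  set s : Y := A * r * A⁻¹ with hs
  have hsR : s ∈ D.R := D.conj_R (D.el_N a) hr
  have ha3 : A ^ 3 = 1 := D.el_three a
  have hprod : r * (A * r * A⁻¹) * (A ^ 2 * r * (A ^ 2)⁻¹) = 1 := by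
    have h := h3
    rw [hda] at h
    calc r * (A * r * A⁻¹) * (A ^ 2 * r * (A ^ 2)⁻¹)
        = (r * A) ^ 3 * (A ^ 3)⁻¹ := by simp only [pow_succ, pow_zero, one_mul]; group
      _ = 1 := by rw [h, ha3]; simp
  refine ⟨s⁻¹, inv_mem hsR, ?_, fun S hdS hAS =>
    inv_mem (mul_mem (mul_mem hAS (mul_mem hdS (inv_mem hAS))) (inv_mem hAS))⟩
  rw [inv_inv]
  have h2 : A ^ 2 * r * (A ^ 2)⁻¹ ∈ D.R := D.conj_R (pow_mem (D.el_N a) 2) hr
  have e' : (r * s)⁻¹ = A ^ 2 * r * (A ^ 2)⁻¹ := inv_eq_of_mul_eq_one_right hprod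
  rw [D.inv_eq (mul_mem hr hsR)] at e'
  calc s⁻¹ * d * s = s * (r * A) * s := by rw [D.inv_eq hsR, hda]
    _ = r * s * (A * s * A⁻¹) * A := by rw [← mul_assoc s r, (D.comm hsR hr).eq]; group
    _ = A := by rw [show A * s * A⁻¹ = A ^ 2 * r * (A ^ 2)⁻¹ by rw [hs, pow_two]; group, e', D.sq h2,
                one_mul]

/-- The element of the scalar. -/
noncomputable def s1 : Y := D.el fun _ => 1

theorem one_fpf : ∀ i : Fin 4, (fun _ => (1 : ZMod 3) : Ex) i ≠ 0 := fun _ => one_ne_zero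

/-- An element of the local subgroup normalising the elementary group is determined by its image. -/
theorem na_eq_one {n : ↥D.N} (hn : (n : Y) ∈ normalizer (D.A : Set Y)) (h : D.img n = 1) :
    (n : Y) = 1 := by
  have hm : (n : Y) * D.s1 * (n : Y)⁻¹ ∈ D.A :=
    (mem_normalizer_iff.1 hn _).1 (D.el_mem _)
  have e : (n : Y) * D.s1 * (n : Y)⁻¹ = D.s1 := D.A_ext hm (D.el_mem _) (by
    show D.img (n * ⟨_, D.el_N _⟩ * n⁻¹) = _
    rw [map_mul, map_mul, map_inv, h, one_mul, inv_one, mul_one]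
    rfl)
  exact D.fpf_eq_one one_fpf ((D.ker n).1 h) (mul_inv_eq_iff_eq_mul.1 e).symm

theorem na_ext {m n : ↥D.N} (hm : (m : Y) ∈ normalizer (D.A : Set Y))
    (hn : (n : Y) ∈ normalizer (D.A : Set Y)) (h : D.img m = D.img n) : m = n := by
  have e := D.na_eq_one (n := m⁻¹ * n) (mul_mem (inv_mem hm) hn) (by
    rw [map_mul, map_inv, h, inv_mul_cancel])
  exact Subtype.ext (inv_mul_eq_one.1 e)

theorem el_NA (a : Ex) : D.el a ∈ normalizer (D.A : Set Y) := le_normalizer (D.el_mem a)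

/-- A map normalising the diagonal group lifts uniquely to the normaliser of the elementary group. -/
theorem norm_lift {M : Equiv.Perm W8} (hM : M ∈ D.img.range)
    (hMn : ∀ b, ∃ c, M * dg b * M⁻¹ = dg c) :
    ∃ n : ↥D.N, (n : Y) ∈ normalizer (D.A : Set Y) ∧ D.img n = M := by
  obtain ⟨n0, hn0⟩ := hM
  obtain ⟨c, hc⟩ := hMn fun _ => 1
  have hcf : ∀ i, c i ≠ 0 := fun i hi => by
    have h1 : dg c (ax i) = ax i := dg_fix.2 fun j => by
      by_cases hj : j = i
      · exact Or.inl (hj ▸ hi)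
      · exact Or.inr (by rw [pl_ax, if_neg hj])
    rw [← hc] at h1
    have h2 := congrArg M.symm h1
    simp only [Equiv.Perm.mul_apply, Equiv.Perm.inv_def, Equiv.symm_apply_apply] at h2
    exact ax_ne i (M.symm.injective ((dg_fpf one_fpf h2).trans
      (M.symm_apply_eq.2 (additive_zero (D.himg.add ⟨n0, hn0⟩)).symm).symm))
  obtain ⟨t, ht, hts, -⟩ := D.to_el (d := (n0 : Y) * D.s1 * (n0 : Y)⁻¹)
    (mul_mem (mul_mem n0.2 (D.el_N _)) (inv_mem n0.2))
    (by rw [conj_pow, show D.s1 ^ 3 = 1 from D.el_three _, mul_one, mul_inv_cancel])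
    (show D.img (n0 * ⟨_, D.el_N _⟩ * n0⁻¹) = dg c by rw [map_mul, map_mul, map_inv, D.img_el, hn0, hc])
  refine ⟨⟨t, D.RN ht⟩ * n0, ?_, by rw [map_mul, D.img_of_R ht, one_mul, hn0]⟩
  set n : ↥D.N := ⟨t, D.RN ht⟩ * n0 with hn
  have hni : D.img n = M := by rw [map_mul, D.img_of_R ht, one_mul, hn0]
  have hns : (n : Y) * D.s1 * (n : Y)⁻¹ = D.el c := by
    rw [← hts, hn]; push_cast; group
  refine mem_normalizer_fintype fun x hx => ?_
  obtain ⟨b, rfl⟩ := D.exists_el hx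
  obtain ⟨c', hc'⟩ := hMn b
  set r := (n : Y) * D.el b * (n : Y)⁻¹ * (D.el c')⁻¹ with hr'
  have hr : r ∈ D.R := (D.ker (n * ⟨_, D.el_N b⟩ * n⁻¹ * ⟨_, D.el_N c'⟩⁻¹)).1 (by
    rw [map_mul, map_mul, map_mul, map_inv, map_inv, hni, D.img_el, D.img_el, hc', mul_inv_cancel])
  have h1 : Commute (D.el c) ((n : Y) * D.el b * (n : Y)⁻¹) := by
    rw [← hns]
    exact (D.el_comm _ b).map (MulAut.conj (n : Y)).toMonoidHom
  have h2 : Commute (D.el c) r := h1.mul_right (D.el_comm c c').inv_right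
  have e := D.fpf_eq_one hcf hr h2
  rw [hr', mul_inv_eq_one] at e
  rw [e]
  exact D.el_mem c'

/-- An element normalising the elementary group is monomial. -/
theorem na_mono {n : Y} (hn : n ∈ normalizer (D.A : Set Y)) :
    ∃ s π a, D.img ⟨n, D.hAnorm hn⟩ = mo s π a ∧ (s = false ↔ D.img ⟨n, D.hAnorm hn⟩ ∈ GN) ∧
      ∀ b, n * D.el b * n⁻¹ = D.el (act s π b) := by
  set m : ↥D.N := ⟨n, D.hAnorm hn⟩ with hm
  have hconj : ∀ b, n * D.el b * n⁻¹ ∈ D.A := fun b => (mem_normalizer_iff.1 hn _).1 (D.el_mem b)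
  have hi : ∀ b, D.img ⟨_, D.hAN (hconj b)⟩ = D.img m * dg b * (D.img m)⁻¹ := fun b => by
    rw [← D.img_el b, ← map_inv, ← map_mul, ← map_mul]; rfl
  obtain ⟨s, π, a, e, hs⟩ := mono_of_normal D.himg (D.img_mem m) fun b => by
    obtain ⟨c, hc⟩ := D.diag ⟨_, D.hAN (hconj b)⟩ (hconj b)
    exact ⟨c, (hi b).symm.trans hc⟩
  refine ⟨s, π, a, e, hs, fun b => D.A_ext (hconj b) (D.el_mem _) ?_⟩
  rw [hi, e, mo_dg_conj, D.img_el]

theorem card_image {P : Subgroup Y} (hP : P ≤ D.N) (hp : IsPGroup 3 ↥P) :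
    Nat.card ↥((P.subgroupOf D.N).map D.img) = Nat.card ↥P := by
  have hinj : Function.Injective (D.img.comp (P.subgroupOf D.N).subtype) := by
    rw [injective_iff_map_eq_one]
    intro a ha
    have hR : ((a : ↥D.N) : Y) ∈ D.R := (D.ker _).1 ha
    obtain ⟨k, hk⟩ := (IsPGroup.iff_orderOf.1 hp) (⟨((a : ↥D.N) : Y), mem_subgroupOf.1 a.2⟩ : ↥P)
    rw [Subgroup.orderOf_mk] at hk
    have h2 := orderOf_dvd_of_pow_eq_one (show ((a : ↥D.N) : Y) ^ 2 = 1 by rw [pow_two]; exact D.sq hR)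
    rw [hk] at h2
    exact Subtype.ext (Subtype.ext (orderOf_eq_one_iff.1 (hk.trans (Nat.eq_one_of_dvd_coprimes
      (Nat.Coprime.pow_left k (by norm_num : Nat.Coprime 3 2)) dvd_rfl h2))))
  conv_lhs => rw [← range_subtype (P.subgroupOf D.N)]
  rw [← MonoidHom.range_comp, ← Nat.card_congr (MonoidHom.ofInjective hinj).toEquiv]
  exact Nat.card_congr (subgroupOfEquivOfLe hP).toEquiv

theorem img_three {P : Subgroup Y} (hP : P ≤ D.N) (hp : IsPGroup 3 ↥P) :
    (P.subgroupOf D.N).map D.img ≤ GN := by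
  rintro _ ⟨n, hn, rfl⟩
  obtain ⟨k, hk⟩ := hp ⟨(n : Y), hn⟩
  have hk' : n ^ 3 ^ k = 1 := Subtype.ext (by
    have := congrArg Subtype.val hk
    simpa using this)
  by_contra hG
  obtain ⟨j, hj⟩ : Odd (3 ^ k) := Odd.pow (by decide)
  have h1 := congrArg D.img hk'
  rw [hj, map_pow, map_one, pow_succ, pow_mul, pow_two] at h1
  exact hG (eq_inv_of_mul_eq_one_right h1 ▸
    inv_mem (pow_mem (D.himg.two (D.img_mem n) (D.img_mem n) hG hG) j))

theorem rel_index_I {S : Subgroup (Equiv.Perm W8)} (hS : S ≤ GN) :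
    Nat.card ↥S ≤ 3 * Nat.card ↥(S ⊓ D.I) := by
  have hrel : D.I.relIndex S ≤ 3 := by
    have e := (D.I.subgroupOf GN).card_mul_index
    rw [Nat.card_congr (Subgroup.subgroupOfEquivOfLe D.himg.inat.le).toEquiv, D.himg.inat.card] at e
    have hle := Cfsg.Agent.ThreeTransp.U62Cent.card_GN
    have h3 : D.I.relIndex GN ≤ 3 := by
      show (D.I.subgroupOf GN).index ≤ 3
      omega
    exact le_trans (Subgroup.relIndex_le_of_le_right hS Subgroup.index_ne_zero_of_finite) h3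
  have h0 := (D.I.subgroupOf S).card_mul_index
  rw [← h0, mul_comm 3]
  refine Nat.mul_le_mul (le_of_eq ?_) hrel
  rw [← inf_subgroupOf_right, inf_comm]
  exact Nat.card_congr (subgroupOfEquivOfLe inf_le_left).toEquiv

theorem perm_nine : ∀ π : Equiv.Perm (Fin 4), (∀ i, π (π (π i)) = i) → π ≠ 1 →
    (Finset.univ.filter fun c : Ex => act false π c = c).card ≤ 9 := by decide +kernel

theorem act3 : ∀ (π : Equiv.Perm (Fin 4)), (∀ i, π (π (π i)) = i) ∨
    ∃ j, act false π (act false π (act false π (one j))) ≠ one j := by decide +kernel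

/-- The elementary group is the only one of its kind in a three-subgroup. -/
theorem uniq {P : Subgroup Y} (hP : P ≤ D.N) (hp : IsPGroup 3 ↥P) (hA : D.A ≤ P) {B : Subgroup Y}
    (hB : B ≤ P) (hBc : Nat.card ↥B = 81) (hBcomm : ∀ a ∈ B, ∀ b ∈ B, Commute a b)
    (hBexp : ∀ a ∈ B, a ^ 3 = 1) : B = D.A := by
  haveI : Fact (Nat.Prime 3) := ⟨Nat.prime_three⟩
  classical
  set S := (P.subgroupOf D.N).map D.img with hS
  have hSG : S ≤ GN := D.img_three hP hp
  set T := D.imgA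
  have hT : Nat.card ↥T = 81 := (D.inj_three D.hAN D.hAexp).trans D.card81
  have hTS : T ≤ S := map_mono fun n hn => hA hn
  have hTmem : ∀ g, g ∈ T ↔ ∃ a, g = dg a := fun g => by
    rw [D.mem_imgA]
    exact ⟨fun ⟨n, hn, e⟩ => (D.diag n hn).imp fun a ha => e.symm.trans ha, fun ⟨a, e⟩ =>
      ⟨⟨_, D.el_N a⟩, D.el_mem a, (D.img_el a).trans e.symm⟩⟩
  have hSp : IsPGroup 3 ↥S := (hp.of_equiv (subgroupOfEquivOfLe hP).symm).map D.img
  obtain ⟨n, hn⟩ := IsPGroup.iff_card.1 hSp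
  have hS243 : Nat.card ↥S ≤ 243 := by
    have h1 := D.rel_index_I hSG
    obtain ⟨m, hm⟩ := IsPGroup.iff_card.1 (hSp.to_le (inf_le_left : S ⊓ D.I ≤ S))
    have h2 : Nat.card ↥(S ⊓ D.I) ∣ 25920 := D.himg.inat.card ▸ Subgroup.card_dvd_of_le inf_le_right
    rw [hm] at h2
    have hm4 : m ≤ 4 := by
      by_contra hlt
      exact absurd ((pow_dvd_pow 3 (show 5 ≤ m by omega)).trans h2) (by norm_num)
    have := Nat.pow_le_pow_right (show 3 > 0 by norm_num) hm4
    omega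
  have hnorm : S ≤ normalizer (T : Set (Equiv.Perm W8)) := by
    by_cases hTe : T = S
    · rw [← hTe]; exact le_normalizer
    haveI := hSp.isNilpotent
    set T' := T.subgroupOf S
    have hne : T' ≠ ⊤ := fun e => hTe (le_antisymm hTS (subgroupOf_eq_top.1 e))
    have hlt : T' < normalizer (T' : Set ↥S) := by
      refine lt_of_le_of_ne le_normalizer fun e => hne ?_
      exact normalizerCondition_iff_only_full_group_self_normalizing.1
        Group.normalizerCondition_of_isNilpotent T' e.symm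
    have hTc : Nat.card ↥T' = 81 := (Nat.card_congr (subgroupOfEquivOfLe hTS).toEquiv).trans hT
    have hgt : 81 < Nat.card ↥(normalizer (T' : Set ↥S)) := by
      refine lt_of_le_of_ne (hTc ▸ Subgroup.card_le_of_le hlt.le) fun e => ?_
      exact hlt.ne (eq_of_le_of_card_ge hlt.le (by omega))
    obtain ⟨k, hk⟩ := IsPGroup.iff_card.1 (hSp.to_subgroup (normalizer (T' : Set ↥S)))
    have hk5 : 5 ≤ k := by
      by_contra hlt'
      have := Nat.pow_le_pow_right (show 3 > 0 by norm_num) (show k ≤ 4 by omega)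
      omega
    have h243 := Nat.pow_le_pow_right (show 3 > 0 by norm_num) hk5
    have htop : normalizer (T' : Set ↥S) = ⊤ := eq_top_of_le_card _ (by omega)
    intro g hg
    refine mem_normalizer_fintype fun t ht => ?_
    exact ((mem_normalizer_iff.1 (htop ▸ mem_top (⟨g, hg⟩ : ↥S))) ⟨t, hTS ht⟩).1 ht
  set U := (B.subgroupOf D.N).map D.img with hU
  have hUS : U ≤ S := map_mono fun n hn => hB hn
  have hUc : Nat.card ↥U = 81 := (D.inj_three (hB.trans hP) hBexp).trans hBc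
  have h27 : 27 ≤ Nat.card ↥(U ⊓ T) := by
    have e := ((U ⊓ T).subgroupOf U).card_mul_index
    rw [Nat.card_congr (subgroupOfEquivOfLe inf_le_left).toEquiv, hUc] at e
    have hTi : T.relIndex S ≤ 3 := by
      have e' := (T.subgroupOf S).card_mul_index
      rw [Nat.card_congr (subgroupOfEquivOfLe hTS).toEquiv, hT] at e'
      show (T.subgroupOf S).index ≤ 3
      omega
    have hi : ((U ⊓ T).subgroupOf U).index ≤ 3 := by
      rw [inf_comm, inf_subgroupOf_right]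
      exact le_trans (Subgroup.relIndex_le_of_le_right hUS Subgroup.index_ne_zero_of_finite) hTi
    nlinarith
  have hUT : U ≤ T := by
    intro b hb
    obtain ⟨hbn, hb'⟩ : b ^ 3 = 1 ∧ b ∈ D.img.range := by
      obtain ⟨m, hm, rfl⟩ := hb
      exact ⟨by rw [← map_pow, show m ^ 3 = 1 from Subtype.ext (hBexp _ hm), map_one], D.img_mem m⟩
    obtain ⟨s, π, a, e, hs⟩ := mono_of_normal D.himg hb' fun c => by
      have := (mem_normalizer_iff.1 (hnorm (hUS hb)) (dg c)).1 ((hTmem _).2 ⟨c, rfl⟩)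
      exact (hTmem _).1 this
    obtain rfl := hs.2 (hSG (hUS hb))
    have hit : ∀ c, act false π (act false π (act false π c)) = c := fun c => dg_injective (by
      rw [← mo_dg_conj false π a (act false π _), ← mo_dg_conj false π a (act false π c),
        ← mo_dg_conj false π a c, ← e]
      calc b * (b * (b * dg c * b⁻¹) * b⁻¹) * b⁻¹ = b ^ 3 * dg c * (b ^ 3)⁻¹ := by
            simp only [pow_succ, pow_zero, one_mul]; group
        _ = dg c := by rw [hbn]; simp)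
    have hπ3 := (act3 π).resolve_right fun ⟨j, hj⟩ => hj (hit _)
    by_cases hπ : π = 1
    · subst hπ
      exact (hTmem _).2 ⟨a, e.trans (mo_false_dg a)⟩
    exfalso
    have h9 := perm_nine π hπ3 hπ
    have hsub : Nat.card ↥(U ⊓ T) ≤ (Finset.univ.filter fun c : Ex => act false π c = c).card := by
      choose f hf using fun x : ↥(U ⊓ T) => (hTmem _).1 x.2.2
      have hfmem : ∀ x, f x ∈ Finset.univ.filter fun c : Ex => act false π c = c := fun x => by
        refine Finset.mem_filter.2 ⟨Finset.mem_univ _, dg_injective ?_⟩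
        rw [← mo_dg_conj false π a, ← e, ← hf x]
        obtain ⟨m, hm, em⟩ := hb
        obtain ⟨l, hl, el⟩ := x.2.1
        rw [← em, ← el, ← map_inv, ← map_mul, ← map_mul]
        congr 1
        rw [(show Commute m l from Subtype.ext (hBcomm _ hm _ hl).eq).eq, mul_inv_cancel_right]
      rw [← Nat.card_eq_finsetCard]
      exact Nat.card_le_card_of_injective (fun x => ⟨f x, hfmem x⟩) fun x y e' => Subtype.ext (by
        rw [hf x, hf y, show f x = f y from congrArg Subtype.val e'])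
    omega
  have hUe : U = T := eq_of_le_of_card_ge hUT (by omega)
  refine eq_of_le_of_card_ge (fun b hb => ?_) (by rw [hBc, D.card81])
  obtain ⟨m, hm, em⟩ := D.mem_imgA.1 (hUe ▸ mem_map_of_mem D.img
    (show (⟨b, hP (hB hb)⟩ : ↥D.N) ∈ B.subgroupOf D.N from hb) : D.img ⟨b, hP (hB hb)⟩ ∈ T)
  have hR : (m : Y)⁻¹ * b ∈ D.R := (D.ker (m⁻¹ * ⟨b, hP (hB hb)⟩)).1 (by
    rw [map_mul, map_inv, em, inv_mul_cancel])
  obtain ⟨k, hk⟩ := (IsPGroup.iff_orderOf.1 hp) ⟨_, mul_mem (inv_mem (hA hm)) (hB hb)⟩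
  rw [Subgroup.orderOf_mk] at hk
  have h2 := orderOf_dvd_of_pow_eq_one (show ((m : Y)⁻¹ * b) ^ 2 = 1 by rw [pow_two]; exact D.sq hR)
  rw [hk] at h2
  have h1 : (m : Y)⁻¹ * b = 1 := orderOf_eq_one_iff.1 (hk.trans (Nat.eq_one_of_dvd_coprimes
    (Nat.Coprime.pow_left k (by norm_num : Nat.Coprime 3 2)) dvd_rfl h2))
  rw [← inv_mul_eq_one.1 h1]
  exact hm

theorem card_map_A (g : Y) : Nat.card ↥(D.A.map (MulAut.conj g).toMonoidHom) = 81 :=
  (Nat.card_congr (equivMapOfInjective D.A _ (MulAut.conj g).injective).toEquiv).symm.trans D.card81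

theorem A_pGroup : IsPGroup 3 ↥D.A := IsPGroup.of_card (n := 4) (D.card81.trans (by norm_num))

/-- A conjugate of the elementary group in a three-subgroup above it is itself. -/
theorem norm_of_mem {P : Subgroup Y} (hP : P ≤ D.N) (hp : IsPGroup 3 ↥P) (hA : D.A ≤ P) {g : Y}
    (hg : ∀ a ∈ D.A, g * a * g⁻¹ ∈ P) : g ∈ normalizer (D.A : Set Y) := by
  have e := D.uniq hP hp hA (B := D.A.map (MulAut.conj g).toMonoidHom)
    (by rintro _ ⟨a, ha, rfl⟩; exact hg a ha) (D.card_map_A g)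
    (by rintro _ ⟨a, ha, rfl⟩ _ ⟨b, hb, rfl⟩; exact (D.hAcomm a ha b hb).map _)
    (by rintro _ ⟨a, ha, rfl⟩; rw [← map_pow, D.hAexp a ha, map_one])
  exact mem_normalizer_fintype fun a ha => by
    show g * a * g⁻¹ ∈ D.A
    rw [← e]; exact ⟨a, ha, rfl⟩

/-- A three-subgroup containing the elementary group lies in the local subgroup. -/
theorem three_le {P : Subgroup Y} (hp : IsPGroup 3 ↥P) (hA : D.A ≤ P) : P ≤ D.N := by
  haveI : Fact (Nat.Prime 3) := ⟨Nat.prime_three⟩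
  haveI := hp.isNilpotent
  have hL : D.N.subgroupOf P = ⊤ := by
    refine normalizerCondition_iff_only_full_group_self_normalizing.1 Group.normalizerCondition_of_isNilpotent _ ?_
    refine le_antisymm (fun x hx => ?_) le_normalizer
    exact D.hAnorm (D.norm_of_mem (P := P ⊓ D.N) inf_le_right (hp.to_le inf_le_left) (le_inf hA D.hAN)
      fun a ha => ⟨mul_mem (mul_mem x.2 (hA ha)) (inv_mem x.2 : (x : Y)⁻¹ ∈ P),
        ((mem_normalizer_iff.1 hx) ⟨a, hA ha⟩).1 (D.hAN ha)⟩)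
  exact subgroupOf_eq_top.1 hL

/-- Fusion in the elementary group is controlled by its normaliser. -/
theorem fusion_A {X : Set Y} (hX : X ⊆ D.A) {g : Y} (hg : ∀ x ∈ X, g * x * g⁻¹ ∈ D.A) :
    ∃ n ∈ normalizer (D.A : Set Y), ∀ x ∈ X, n * x * n⁻¹ = g * x * g⁻¹ := by
  haveI : Fact (Nat.Prime 3) := ⟨Nat.prime_three⟩
  set C := centralizer ((fun x => g * x * g⁻¹) '' X) with hC
  have hAC : D.A ≤ C := fun a ha => mem_centralizer_iff.2 (by
    rintro _ ⟨x, hx, rfl⟩
    exact D.hAcomm _ (hg x hx) a ha)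
  have hBC : D.A.map (MulAut.conj g).toMonoidHom ≤ C := by
    rintro _ ⟨a, ha, rfl⟩
    refine mem_centralizer_iff.2 ?_
    rintro _ ⟨x, hx, rfl⟩
    exact (D.hAcomm x (hX hx) a ha).map (MulAut.conj g).toMonoidHom
  have hBp : IsPGroup 3 ↥(D.A.map (MulAut.conj g).toMonoidHom) := D.A_pGroup.map _
  obtain ⟨P, hP⟩ := (D.A_pGroup.of_equiv (subgroupOfEquivOfLe hAC).symm).exists_le_sylow
  obtain ⟨Q, hQ⟩ := (hBp.of_equiv (subgroupOfEquivOfLe hBC).symm).exists_le_sylow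
  obtain ⟨c, hc⟩ := MulAction.exists_smul_eq ↥C Q P
  set P' := (P : Subgroup ↥C).map C.subtype
  have hAP : D.A ≤ P' := fun a ha => ⟨⟨a, hAC ha⟩, hP ha, rfl⟩
  have hp' : IsPGroup 3 ↥P' := P.2.map _
  refine ⟨(c : Y) * g, D.norm_of_mem (D.three_le hp' hAP) hp' hAP fun a ha => ?_, fun x hx => ?_⟩
  · have hm : c * ⟨g * a * g⁻¹, hBC ⟨a, ha, rfl⟩⟩ * c⁻¹ ∈ ((c • Q : Sylow 3 ↥C) : Subgroup ↥C) := by
      rw [Sylow.coe_subgroup_smul]
      exact ⟨_, hQ (show (⟨g * a * g⁻¹, hBC ⟨a, ha, rfl⟩⟩ : ↥C) ∈ _ from ⟨a, ha, rfl⟩), rfl⟩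
    rw [hc] at hm
    refine ⟨_, hm, ?_⟩
    simp [mul_assoc]
  · rw [show (c : Y) * g * x * ((c : Y) * g)⁻¹ = (c : Y) * (g * x * g⁻¹) * (c : Y)⁻¹ by group,
      ← mem_centralizer_iff.1 c.2 _ ⟨x, hx, rfl⟩, mul_inv_cancel_right]

end Cfg

end Cfsg.Agent.UThreeLocal.Two.Big
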