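import Cfsg.Agent.Lib.UThreeLocal.Two.Big.Semi

/-!
# The module is weakly and strongly closed in the local subgroup
-/

set_option autoImplicit false
set_option linter.unusedSectionVars false

namespace Cfsg.Agent.UThreeLocal.Two.Big

open Cfsg.Agent.ThreeTransp.U62Cent (W8 GN cols)

universe u

theorem pair_exa : ∀ a ∈ [A0.getD 12 [], A0.getD 13 []], ∃ e : Ex, ExA e ∧ cols (dgF e) = a := by
  decide +kernel

namespace Cfg

variable {Y : Type u} [Group Y] [Finite Y] (D : Cfg Y)

theorem paired : D.Paired Excl := by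
  intro t ht
  obtain ⟨y, hy, d₁, d₂, ⟨e1, e2⟩, h1, h2, h⟩ := D.himg.tv_pair_std ht
  have key : ∀ d ∈ D.I, cols (y * d * y⁻¹ : Equiv.Perm W8) ∈ [A0.getD 12 [], A0.getD 13 []] → Excl d := by
    intro d hd hc
    obtain ⟨e, he, hcols⟩ := pair_exa _ hc
    exact ⟨y, D.himg.inat.le hy, e, he, Cfsg.Agent.ThreeTransp.U62Cent.perm_ext
      (D.himg.inat.add (mul_mem (mul_mem hy hd) (inv_mem hy))) (dg_add e) hcols.symm⟩
  exact ⟨d₁, d₂, h1, h2, key d₁ h1 (e1 ▸ List.mem_cons_self),
    key d₂ h2 (e2 ▸ List.mem_cons_of_mem _ List.mem_cons_self), h⟩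

/-- The module is weakly closed in the local subgroup. -/
theorem weakly_closed : D.WeakClosed := fun h => D.weakly_closed_of D.tvFused h

/-- The module is strongly closed in the local subgroup. -/
theorem strongly_closed {x g : Y} (hx : x ∈ D.R) (hu : g * x * g⁻¹ ∈ D.N) : g * x * g⁻¹ ∈ D.R :=
  D.strongly_closed_of D.weakly_closed D.tvFused D.excluded D.paired hx hu

end Cfg

end Cfsg.Agent.UThreeLocal.Two.Big
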