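import Cfsg.Agent.Lib.PGroups.SmithTyrer.Count
import Cfsg.Agent.Lib.Involutions.BSW.Chars

/-!
# A character inverted on a subgroup of index two gives a normal subgroup missing its support

`H₀` has index two in `H ≤ D`, the character `lam` of order three of `H₀` is inverted by `H \ H₀`,
and its support is a trivial intersection set with respect to `H`. The induced virtual character of
`lam - 1` has norm three. An involution none of whose conjugates lies in `H \ H₀` lies in the
common kernel of the two other constituents.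
-/

set_option autoImplicit false
set_option linter.unusedSectionVars false
set_option linter.style.haveILetI false

namespace Cfsg.Agent.UThreeLocal.Two.Big

open Cfsg.Agent.Characters
open Cfsg.Agent.PGroups.SmithTyrer (T T_add T_congr T_norm_one T_smul)
open scoped ComplexConjugate

universe u

variable {D : Type u} [Group D] [Finite D]

private theorem dich_root (ζ : ℂ) (hζ : IsPrimitiveRoot ζ 3) (k : ZMod 3) (hk : k ≠ 0) :
    ζ ^ k.val + ζ ^ (-k).val = -1 := by
  have h0 : 1 + ζ + ζ ^ 2 = 0 := by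
    have := hζ.geom_sum_eq_zero (by norm_num : 1 < 3)
    simpa [Finset.sum_range_succ] using this
  obtain rfl | rfl : k = 1 ∨ k = 2 := by revert hk; revert k; decide
  · rw [show ((1 : ZMod 3)).val = 1 from rfl, show (-(1 : ZMod 3)).val = 2 from rfl, pow_one]
    linear_combination h0
  · rw [show ((2 : ZMod 3)).val = 2 from rfl, show (-(2 : ZMod 3)).val = 1 from rfl, pow_one]
    linear_combination h0

/-- The normal subgroup. -/
theorem dich {H H0 : Subgroup D} (hle : H0 ≤ H) {u : D} (huH : u ∈ H) (hu : u ∉ H0)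
    (hH : ∀ h ∈ H, h ∈ H0 ∨ h * u⁻¹ ∈ H0) (hnorm : ∀ y ∈ H0, u * y * u⁻¹ ∈ H0)
    (lam : ↥H0 →* Multiplicative (ZMod 3)) (hne : ∃ y, lam y ≠ 1)
    (hinv : ∀ y : ↥H0, lam ⟨u * y * u⁻¹, hnorm y y.2⟩ = (lam y)⁻¹)
    (hTI : ∀ y : ↥H0, lam y ≠ 1 → ∀ g : D, g * y * g⁻¹ ∈ H → g ∈ H) :
    ∃ K : Subgroup D, K.Normal ∧
      (∀ x : D, x * x = 1 → (∀ g : D, g * x * g⁻¹ ∈ H → g * x * g⁻¹ ∈ H0) → x ∈ K) ∧
      ∀ y : ↥H0, (y : D) ∈ K → lam y = 1 := by
  classical
  haveI := Fintype.ofFinite D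
  haveI := Fintype.ofFinite ↥H0
  obtain ⟨ζ, hζ⟩ : ∃ ζ : ℂ, IsPrimitiveRoot ζ 3 := ⟨_, Complex.isPrimitiveRoot_exp 3 (by norm_num)⟩
  let χ : ↥H0 →* ℂ :=
    { toFun := fun y => ζ ^ (Multiplicative.toAdd (lam y)).val
      map_one' := by simp
      map_mul' := fun a b => by
        rw [map_mul, toAdd_mul, ZMod.val_add, ← pow_eq_pow_mod _ hζ.pow_eq_one, pow_add] }
  have hχ1 : ∀ y, lam y = 1 → χ y = 1 := fun y h => by
    show ζ ^ (Multiplicative.toAdd (lam y)).val = 1
    simp [h]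
  have hsum2 : ∀ y, lam y ≠ 1 → χ y + χ y⁻¹ = -1 := fun y h => by
    show ζ ^ (Multiplicative.toAdd (lam y)).val + ζ ^ (Multiplicative.toAdd (lam y⁻¹)).val = -1
    rw [map_inv, toAdd_inv]
    exact dich_root ζ hζ _ (fun e => h (Multiplicative.toAdd.injective (e.trans toAdd_one.symm)))
  set θ : ↥H0 → ℂ := (fun y => χ y) - (fun _ => 1) with hθ
  have hlin : Cfsg.IsCharacter ↥H0 (fun y => χ y) := isCharacter_linear χ.toHomUnits
  have hgθ : Cfsg.IsGeneralizedCharacter ↥H0 θ :=
    isGen_sub (isGen_of_isCharacter hlin) (isGen_of_isCharacter isCharacter_one)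
  set F : D → ℂ := Cfsg.indFun H0 θ with hF
  have hgF : Cfsg.IsGeneralizedCharacter D F := isGen_indFun H0 hgθ
  have hFc : Cfsg.IsClassFunction D F := indFun_isClassFunction H0 θ
  -- the summands
  have hext : ∀ z : D, (∀ h : z ∈ H0, lam ⟨z, h⟩ = 1) → Cfsg.extendByZero H0 θ z = 0 := by
    intro z hz
    by_cases hzH : z ∈ H0
    · rw [CharTheory.IndBasic.extendByZero_of_mem H0 θ hzH]
      simp [hθ, hχ1 _ (hz hzH)]
    · exact CharTheory.IndBasic.extendByZero_of_notMem H0 θ hzH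
  have hFzero : ∀ g : D, (∀ (x : D) (h : x⁻¹ * g * x ∈ H0), lam ⟨_, h⟩ = 1) → F g = 0 := by
    intro g hg
    rw [hF]
    simp only [Cfsg.indFun]
    rw [Finset.sum_eq_zero fun x _ => hext _ (hg x), mul_zero]
  -- values on the subgroup
  have hconj0 : ∀ (y : ↥H0) (x : D) (hx : x ∈ H0) (h : x⁻¹ * y * x ∈ H0), lam ⟨_, h⟩ = lam y := by
    intro y x hx h
    rw [show (⟨x⁻¹ * y * x, h⟩ : ↥H0) = ⟨x, hx⟩⁻¹ * y * ⟨x, hx⟩ from rfl, map_mul, map_mul, map_inv,
      mul_comm, mul_inv_cancel_left]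
  have hconj1 : ∀ (y : ↥H0) (x : D), x ∈ H → x ∉ H0 → ∀ h : x⁻¹ * y * x ∈ H0,
      lam ⟨_, h⟩ = (lam y)⁻¹ := by
    intro y x hx hx0 h
    have hb : x * u⁻¹ ∈ H0 := (hH x hx).resolve_left hx0
    have hu2 := hnorm (⟨_, h⟩ : ↥H0) h
    have e := hinv ⟨_, h⟩
    have e2 : (⟨u * (x⁻¹ * y * x) * u⁻¹, hu2⟩ : ↥H0) = ⟨_, hb⟩⁻¹ * y * ⟨_, hb⟩ :=
      Subtype.ext (by push_cast; group)
    rw [e2, map_mul, map_mul, map_inv, mul_comm, mul_inv_cancel_left] at e
    rw [e, inv_inv]
  have hnormH : ∀ (y : ↥H0) (x : D), x ∈ H → x⁻¹ * y * x ∈ H0 := by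
    intro y x hx
    rcases hH x hx with h | h
    · exact mul_mem (mul_mem (inv_mem h) y.2) h
    · have h1 : (x * u⁻¹)⁻¹ * y * (x * u⁻¹) ∈ H0 := mul_mem (mul_mem (inv_mem h) y.2) h
      have hu2 : u * u ∈ H0 := by
        refine (hH _ (mul_mem huH huH)).resolve_right fun h' => hu ?_
        rwa [mul_inv_cancel_right] at h'
      have h3 := hnorm _ h1
      have h4 := mul_mem (mul_mem (inv_mem hu2) h3) hu2
      convert h4 using 1
      group
  have hFH : ∀ y : ↥H0, F y = if lam y = 1 then 0 else -3 := by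
    intro y
    by_cases hy : lam y = 1
    · rw [if_pos hy]
      refine hFzero _ fun x h => ?_
      by_contra hne'
      have hxH : x ∈ H := hTI ⟨_, h⟩ hne' x (by
        show x * (x⁻¹ * y * x) * x⁻¹ ∈ H
        convert hle y.2 using 1; group)
      by_cases hx0 : x ∈ H0
      · exact hne' ((hconj0 y x hx0 h).trans hy)
      · exact hne' ((hconj1 y x hxH hx0 h).trans (by rw [hy, inv_one]))
    rw [if_neg hy]
    have hsupp : ∀ x : D, x ∉ H → Cfsg.extendByZero H0 θ (x⁻¹ * y * x) = 0 := fun x hx =>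
      hext _ fun h => by
        by_contra hne'
        have := hTI y hy x⁻¹ (by rw [inv_inv]; exact hle h)
        exact hx (inv_mem_iff.1 this)
    have hin : ∀ x : D, x ∈ H0 → Cfsg.extendByZero H0 θ (x⁻¹ * y * x) = χ y - 1 := fun x hx => by
      have h := hnormH y x (hle hx)
      rw [CharTheory.IndBasic.extendByZero_of_mem H0 θ h]
      show ζ ^ (Multiplicative.toAdd (lam ⟨_, h⟩)).val - 1 = _
      rw [hconj0 y x hx h]
      rfl
    have hout : ∀ x : D, x ∈ H → x ∉ H0 → Cfsg.extendByZero H0 θ (x⁻¹ * y * x) = χ y⁻¹ - 1 := by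
      intro x hx hx0
      have h := hnormH y x hx
      rw [CharTheory.IndBasic.extendByZero_of_mem H0 θ h]
      show ζ ^ (Multiplicative.toAdd (lam ⟨_, h⟩)).val - 1 = _
      rw [hconj1 y x hx hx0 h, ← map_inv]
      rfl
    have hval : ∀ x : D, Cfsg.extendByZero H0 θ (x⁻¹ * y * x) =
        (if x ∈ H0 then χ y - 1 else 0) + (if x * u⁻¹ ∈ H0 then χ y⁻¹ - 1 else 0) := by
      intro x
      by_cases hxH : x ∈ H
      · by_cases hx0 : x ∈ H0
        · have : x * u⁻¹ ∉ H0 := fun h => hu (by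
            have := mul_mem (inv_mem h) hx0
            simpa using this)
          rw [hin x hx0, if_pos hx0, if_neg this, add_zero]
        · rw [hout x hxH hx0, if_neg hx0, if_pos ((hH x hxH).resolve_left hx0), zero_add]
      · have : x * u⁻¹ ∉ H0 := fun h => hxH (by simpa using mul_mem (hle h) huH)
        rw [hsupp x hxH, if_neg (fun h => hxH (hle h)), if_neg this, add_zero]
    have hc : (Finset.univ.filter fun x : D => x ∈ H0).card = Nat.card ↥H0 := by
      rw [Nat.card_eq_fintype_card, Fintype.card_subtype]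
    have hc' : (Finset.univ.filter fun x : D => x * u⁻¹ ∈ H0).card = Nat.card ↥H0 := by
      rw [← hc]
      refine Finset.card_bij (fun x _ => x * u⁻¹) (fun x hx => by simpa using hx)
        (fun a _ b _ e => mul_right_cancel e) fun b hb => ⟨b * u, by simpa using hb, by simp⟩
    have h0 : (Nat.card ↥H0 : ℂ) ≠ 0 := Nat.cast_ne_zero.2 Nat.card_pos.ne'
    rw [hF]
    simp only [Cfsg.indFun, hval, Finset.sum_add_distrib, ← Finset.sum_filter, Finset.sum_const,
      nsmul_eq_mul, hc, hc']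
    rw [← mul_add, ← mul_assoc, inv_mul_cancel₀ h0, one_mul]
    linear_combination hsum2 y hy
  -- inner products
  have hone : Cfsg.IsClassFunction D (fun _ : D => (1 : ℂ)) := fun _ _ => rfl
  have hsumχ : ∑ y : ↥H0, χ y = 0 := by
    obtain ⟨y0, hy0⟩ := hne
    have h : χ y0 * ∑ y : ↥H0, χ y = ∑ y : ↥H0, χ y := by
      rw [Finset.mul_sum]
      exact Fintype.sum_equiv (Equiv.mulLeft y0) _ _ fun y => (map_mul χ y0 y).symm
    have hne1 : χ y0 ≠ 1 := fun e => by
      have h' := hsum2 y0 hy0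
      have he : χ y0⁻¹ = 1 := by
        have h'' := map_mul χ y0⁻¹ y0
        rwa [inv_mul_cancel, map_one, e, mul_one, eq_comm] at h''
      rw [he, e] at h'
      norm_num at h'
    exact (mul_left_eq_self₀.1 h).resolve_left hne1
  have hFone : Cfsg.classInner F (fun _ : D => (1 : ℂ)) = -1 := by
    rw [hF, frobenius_reciprocity H0 θ hone, classInner_def]
    simp only [hθ, Pi.sub_apply, map_one, mul_one, Finset.sum_sub_distrib, hsumχ, Finset.sum_const,
      Finset.card_univ, ← Nat.card_eq_fintype_card, nsmul_eq_mul]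
    rw [zero_sub, mul_neg, inv_mul_cancel₀ natCard_ne_zero]
  have honeF : Cfsg.classInner (fun _ : D => (1 : ℂ)) F = -1 := by
    rw [classInner_conj_symm, hFone]; simp
  have hFF : Cfsg.classInner F F = 3 := by
    conv_lhs => arg 1; rw [hF]
    rw [frobenius_reciprocity H0 θ hFc, classInner_def]
    have e : ∀ y : ↥H0, θ y * conj (F y) = -3 * (χ y - 1) := fun y => by
      rw [hFH y]
      by_cases hy : lam y = 1
      · simp [hθ, hχ1 y hy]
      · rw [if_neg hy, map_neg, Complex.conj_ofNat, hθ, Pi.sub_apply]; ring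
    rw [Finset.sum_congr rfl fun y _ => e y, ← Finset.mul_sum, Finset.sum_sub_distrib, hsumχ,
      Finset.sum_const, Finset.card_univ, ← Nat.card_eq_fintype_card, nsmul_eq_mul]
    have h0 : (Nat.card ↥H0 : ℂ) ≠ 0 := natCard_ne_zero
    field_simp
    ring
  set one : D → ℂ := fun _ => 1 with hone'
  have h11 : Cfsg.classInner one one = 1 := classInner_isIrr_self isIrrCharacter_one
  have hg1 : Cfsg.IsGeneralizedCharacter D one := isGen_of_isCharacter isCharacter_one
  have hnorm2 : Cfsg.classInner (F + one) (F + one) = 2 := by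
    rw [classInner_add_left, classInner_add_right, classInner_add_right, hFF, hFone, honeF, h11]
    norm_num
  obtain ⟨X, Z, hX, hZ, -, hXZ⟩ := BSWAbstract.norm_two (isGen_add hgF hg1) hnorm2
  have hF1 : F 1 = 0 := hFzero 1 fun x h => by
    rw [show (⟨x⁻¹ * 1 * x, h⟩ : ↥H0) = 1 from Subtype.ext (by simp), map_one]
  obtain ⟨χX, εX, hεX, eX⟩ := hX.exists_irr
  obtain ⟨χZ, εZ, hεZ, eZ⟩ := hZ.exists_irr
  refine ⟨charKernel (χX : D → ℂ) (irr_isCharacter χX) ⊓ charKernel (χZ : D → ℂ) (irr_isCharacter χZ),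
    ?_, ?_, ?_⟩
  · haveI := charKernel_normal (irr_isCharacter χX)
    haveI := charKernel_normal (irr_isCharacter χZ)
    infer_instance
  swap
  · intro y hy
    by_contra hne'
    have h1 : X y = X 1 := by
      rw [eX, Pi.smul_apply, Pi.smul_apply, mem_charKernel.1 hy.1]
    have h2 : Z y = Z 1 := by
      rw [eZ, Pi.smul_apply, Pi.smul_apply, mem_charKernel.1 hy.2]
    have ey := congrFun hXZ (y : D)
    have e1 := congrFun hXZ 1
    simp only [Pi.add_apply, hFH y, if_neg hne', hF1, h1, h2, hone'] at ey e1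
    rw [← e1] at ey
    norm_num at ey
  intro x hx2 hfus
  -- the functional kills the induced character
  have hTF : T x F = T x (fun _ => 0) := by
    refine T_congr x fun a k => hFzero _ fun c h => ?_
    by_contra hne'
    set b := a * x * a⁻¹ with hb
    have hb2 : b * b = 1 := by
      rw [hb, show a * x * a⁻¹ * (a * x * a⁻¹) = a * (x * x) * a⁻¹ by group, hx2, mul_one,
        mul_inv_cancel]
    have hxi : x⁻¹ = x := inv_eq_of_mul_eq_one_right hx2
    have hbi : b⁻¹ = b := inv_eq_of_mul_eq_one_right hb2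
    set d := c⁻¹ * k with hd
    set x' := d * x * d⁻¹ with hx'
    have hy : c⁻¹ * (k * (x * b) * k⁻¹) * c = d * (x * b) * d⁻¹ := by rw [hd]; group
    have hinvy : x' * (c⁻¹ * (k * (x * b) * k⁻¹) * c) * x'⁻¹ =
        (c⁻¹ * (k * (x * b) * k⁻¹) * c)⁻¹ := by
      rw [hy, hx', show d * x * d⁻¹ * (d * (x * b) * d⁻¹) * (d * x * d⁻¹)⁻¹ =
        d * (x * (x * b) * x⁻¹) * d⁻¹ by group, ← mul_assoc x x b, hx2, one_mul, hxi,
        show (d * (x * b) * d⁻¹)⁻¹ = d * (b⁻¹ * x⁻¹) * d⁻¹ by group, hbi, hxi]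
    have hxH : x' ∈ H := hTI ⟨_, h⟩ hne' x' (by
      show x' * (c⁻¹ * (k * (x * b) * k⁻¹) * c) * x'⁻¹ ∈ H
      rw [hinvy]; exact hle (inv_mem h))
    have hx0 : x' ∈ H0 := hfus d hxH
    have e := hconj0 ⟨_, h⟩ x'⁻¹ (inv_mem hx0) (by
      rw [inv_inv]
      show x' * (c⁻¹ * (k * (x * b) * k⁻¹) * c) * x'⁻¹ ∈ H0
      rw [hinvy]; exact inv_mem h)
    refine hne' ?_
    have e' : (lam ⟨_, h⟩)⁻¹ = lam ⟨_, h⟩ := by
      rw [← map_inv]
      refine Eq.trans ?_ e
      congr 1
      exact Subtype.ext (by push_cast; rw [inv_inv, hinvy])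
    revert e'
    generalize lam ⟨_, h⟩ = z
    revert z
    decide
  have hT0 : T x (fun _ : D => (0 : ℂ)) = 0 := by
    have := T_smul x 0 one
    simpa [hone', Pi.zero_def] using this
  have hFx : F x = 0 := hFzero x fun c h => by
    have h2 : lam ⟨_, h⟩ * lam ⟨_, h⟩ = 1 := by
      rw [← map_mul, show (⟨c⁻¹ * x * c, h⟩ : ↥H0) * ⟨_, h⟩ = 1 from Subtype.ext (by
        push_cast
        rw [show c⁻¹ * x * c * (c⁻¹ * x * c) = c⁻¹ * (x * x) * c by group, hx2]; simp), map_one]
    revert h2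
    generalize lam ⟨_, h⟩ = z
    revert z
    decide
  have hT : T x X + T x Z = 1 := by
    rw [← T_add, ← hXZ, T_add, hTF, hT0, (T_norm_one x hg1 h11).2]
    simp [hone']
  obtain ⟨ha0, hTX⟩ := T_norm_one x hX.isGen hX.self
  obtain ⟨hb0, hTZ⟩ := T_norm_one x hZ.isGen hZ.self
  have ex := congrFun hXZ x
  have e1 := congrFun hXZ 1
  simp only [Pi.add_apply, hFx, hF1, hone', zero_add] at ex e1
  rw [hTX, hTZ, div_add_div _ _ ha0 hb0, div_eq_one_iff_eq (mul_ne_zero ha0 hb0)] at hT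
  have hsq : (X x - X 1) ^ 2 = 0 := by
    have hz : Z x = 1 - X x := by linear_combination -ex
    have hz1 : Z 1 = 1 - X 1 := by linear_combination -e1
    rw [hz, hz1] at hT
    linear_combination hT
  have hXx : X x = X 1 := sub_eq_zero.1 (pow_eq_zero_iff two_ne_zero |>.1 hsq)
  have hZx : Z x = Z 1 := by linear_combination e1 - ex - hXx
  constructor
  · rw [eX, Pi.smul_apply, Pi.smul_apply, smul_eq_mul, smul_eq_mul] at hXx
    exact mem_charKernel.2 (mul_left_cancel₀ (by rcases hεX with e | e <;> simp [e]) hXx)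
  · rw [eZ, Pi.smul_apply, Pi.smul_apply, smul_eq_mul, smul_eq_mul] at hZx
    exact mem_charKernel.2 (mul_left_cancel₀ (by rcases hεZ with e | e <;> simp [e]) hZx)

end Cfsg.Agent.UThreeLocal.Two.Big
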