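import Cfsg.Agent.Lib.UThreeLocal.Two.Big.Rules

/-!
# Monomial elements of the local subgroup and its linear involutions commuting with the pair element
-/

set_option autoImplicit false
set_option linter.unusedSectionVars false
set_option linter.style.haveILetI false

namespace Cfsg.Agent.UThreeLocal.Two.Big

open Subgroup
open Cfsg.Agent.ThreeTransp.U62Cent (W8 GN sigP)
open Cfsg.Agent.ThreeTransp.U62Cent.W8 (qe bb)

universe u

theorem d0_eq : d0 = one 2 + one 3 + one 3 := by decide +kernel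

theorem d_types : ∀ (s : Bool) (π : Equiv.Perm (Fin 4)), act s π d0 = d0 →
    s = false ∧ (π = 1 ∨ π = sw) ∨ s = true ∧ (π = sw' ∨ π = sw * sw') := by decide +kernel

theorem pair_types : ∀ (s : Bool) (π : Equiv.Perm (Fin 4)), act s π (one 2) = one 2 →
    act s π (one 3) = one 3 → s = false ∧ (π = 1 ∨ π = sw) := by decide +kernel

theorem sw_cube : act false sw (act false sw (act false sw (one 0))) ≠ one 0 := by decide +kernel

theorem sw_diff (a : Ex) : act false sw a 0 = a 1 ∧ act false sw a 1 = a 0 := by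
  constructor <;> simp [act, sgn, sw]

namespace Cfg

variable {Y : Type u} [Group Y] [Finite Y] (D : Cfg Y)

theorem img_conj_el (n : ↥D.N) {s : Bool} {π : Equiv.Perm (Fin 4)} {a : Ex} (e : D.img n = mo s π a)
    (b : Ex) : D.img (n * ⟨_, D.el_N b⟩ * n⁻¹) = dg (act s π b) := by
  rw [map_mul, map_mul, map_inv, e, D.img_el, mo_dg_conj]

/-- A monomial element normalising the elementary group moves it as its image moves exponents. -/
theorem na_act {n : ↥D.N} (hn : (n : Y) ∈ normalizer (D.A : Set Y)) {s : Bool}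
    {π : Equiv.Perm (Fin 4)} {a : Ex} (e : D.img n = mo s π a) (b : Ex) :
    (n : Y) * D.el b * (n : Y)⁻¹ = D.el (act s π b) :=
  D.A_ext ((mem_normalizer_iff.1 hn _).1 (D.el_mem b)) (D.el_mem _)
    ((D.img_conj_el n e b).trans (D.img_el _).symm)

/-- Commuting with an element of the elementary group fixes its exponents. -/
theorem act_of_commute {n : ↥D.N} {s : Bool} {π : Equiv.Perm (Fin 4)} {a : Ex}
    (e : D.img n = mo s π a) {b : Ex} (hc : Commute (n : Y) (D.el b)) : act s π b = b := by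
  refine dg_injective ?_
  rw [← D.img_conj_el n e b, show n * ⟨_, D.el_N b⟩ * n⁻¹ = ⟨_, D.el_N b⟩ from Subtype.ext (by
    push_cast
    rw [hc.eq, mul_inv_cancel_right]), D.img_el]

theorem commute_d0 {n : Y} (h2 : Commute n (D.el (one 2))) (h3 : Commute n (D.el (one 3))) :
    Commute n (D.el d0) := by
  rw [d0_eq, D.el_add, D.el_add]
  exact (h2.mul_right h3).mul_right h3

/-- An element commuting with the pair element is monomial. -/
theorem mono_d0 {n : ↥D.N} (hc : Commute (n : Y) (D.el d0)) :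
    ∃ s π a, D.img n = mo s π a ∧ (s = false ↔ D.img n ∈ GN) ∧ act s π d0 = d0 := by
  refine mono_of_d0 D.himg (D.img_mem n) ?_
  rw [← D.img_el d0]
  exact (show Commute n ⟨_, D.el_N d0⟩ from Subtype.ext hc.eq).map D.img

theorem mo_lift {M : Equiv.Perm W8} (hM : M ∈ D.img.range) {s : Bool} {π : Equiv.Perm (Fin 4)} {a : Ex}
    (e : M = mo s π a) : ∃ n : ↥D.N, (n : Y) ∈ normalizer (D.A : Set Y) ∧ D.img n = M :=
  D.norm_lift hM fun b => ⟨_, by rw [e]; exact mo_dg_conj s π a b⟩

theorem cube_one {n : ↥D.N} {π : Equiv.Perm (Fin 4)} {a : Ex} (e : D.img n = mo false π a)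
    (hπ : π = 1 ∨ π = sw) (h3 : (n : Y) ^ 3 = 1) : D.img n = dg a := by
  rcases hπ with rfl | rfl
  · rw [e, mo_false_dg]
  refine absurd (dg_injective ?_) sw_cube
  rw [← mo_dg_conj false sw a (act false sw _), ← mo_dg_conj false sw a (act false sw (one 0)),
    ← mo_dg_conj false sw a (one 0), ← e]
  calc D.img n * (D.img n * (D.img n * dg (one 0) * (D.img n)⁻¹) * (D.img n)⁻¹) * (D.img n)⁻¹
      = D.img n ^ 3 * dg (one 0) * (D.img n ^ 3)⁻¹ := by
        simp only [pow_succ, pow_zero, one_mul]; group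
    _ = _ := by rw [← map_pow, show n ^ 3 = 1 from Subtype.ext h3, map_one]; simp

theorem dg_sq_one {a : Ex} (h : dg a * dg a = 1) : a = 0 := by
  rw [← dg_mul, ← dg_zero] at h
  funext i
  have := congrFun (dg_injective h) i
  simp only [Pi.add_apply, Pi.zero_apply] at this ⊢
  revert this
  generalize a i = x
  revert x
  decide

/-- An involution of the local subgroup in the pair type's centraliser whose image is linear. -/
theorem lin_inv {j : Y} (hj : j ∈ D.N) (h2 : j * j = 1) (hd : Commute j (D.el d0))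
    (hlin : D.img ⟨j, hj⟩ ∈ GN) :
    j ∈ D.R ∨ ∃ t ∈ D.R, Commute (t * D.s1 * t⁻¹) j := by
  obtain ⟨s, π, a, e, hs, hact⟩ := D.mono_d0 (n := ⟨j, hj⟩) hd
  obtain rfl := hs.2 hlin
  have hsq : D.img ⟨j, hj⟩ * D.img ⟨j, hj⟩ = 1 := by
    rw [← map_mul, show (⟨j, hj⟩ : ↥D.N) * ⟨j, hj⟩ = 1 from Subtype.ext h2, map_one]
  rcases d_types _ _ hact with ⟨-, rfl | rfl⟩ | ⟨hf, -⟩
  · left
    rw [e, mo_false_dg] at hsq
    exact (D.ker ⟨j, hj⟩).1 (by rw [e, mo_false_dg, dg_sq_one hsq, dg_zero])
  · right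
    obtain ⟨m, hm, hme⟩ := D.mo_lift (D.img_mem ⟨j, hj⟩) e
    have hm2 : (m : Y) * m = 1 := D.na_eq_one (n := m * m) (mul_mem hm hm) (by rw [map_mul, hme, hsq])
    have hmi : (m : Y)⁻¹ = m := inv_eq_of_mul_eq_one_right hm2
    set r := j * (m : Y) with hr'
    have hr : r ∈ D.R := (D.ker (⟨j, hj⟩ * m)).1 (by rw [map_mul, hme, hsq])
    have hjr : j = r * m := by rw [hr', mul_assoc, hm2, mul_one]
    have hmd : Commute (m : Y) (D.el d0) := by
      have h := D.na_act hm (hme.trans e) d0
      rw [hact] at h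
      exact mul_inv_eq_iff_eq_mul.1 h
    have hrd : Commute (D.el d0) r := hd.symm.mul_right hmd.symm
    have hrm : Commute (m : Y) r := by
      have h := h2
      rw [hjr] at h
      have h' : (m : Y) * r * m = r := by
        calc (m : Y) * r * m = r⁻¹ * (r * (m : Y) * (r * m)) := by group
          _ = r := by rw [h, mul_one, D.inv_eq hr]
      calc (m : Y) * r = (m : Y) * r * ((m : Y) * m) := by rw [hm2, mul_one]
        _ = (m : Y) * r * m * m := by group
        _ = r * m := by rw [h']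
    set v := D.vec r
    have hv : dg d0 v = v := (D.el_fix hr).1 hrd
    have hv2 := (dg_fix.1 hv 2).resolve_left (by decide)
    have hv3 := (dg_fix.1 hv 3).resolve_left (by decide)
    have hMv : mo false sw a v = v := by rw [← hme.trans e]; exact D.fix_of_commute m hr hrm
    set w : W8 := ofPl ![v.pl 0, 0, 0, 0] with hw
    have hwl : ∀ i, ![v.pl 0, 0, 0, 0] i < 4 := fun i => by
      fin_cases i <;> simp [pl_lt]
    have hMw : mo false sw a w + w = v := by
      refine ext_pl fun i => ?_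
      rw [pl_add, mo_pl, hw, pl_ofPl hwl, pl_ofPl hwl]
      have h1 := congrArg (fun z : W8 => z.pl (1 : Fin 4)) hMv
      simp only [mo_pl] at h1
      fin_cases i
      · simp [sw, tw_zero]
      · simpa [sw] using h1
      · simp [sw, Equiv.swap_apply_def, tw_zero]; exact hv2.symm
      · simp [sw, Equiv.swap_apply_def, tw_zero]; exact hv3.symm
    refine ⟨D.lift w, D.lift_mem w, ?_⟩
    have hjt : D.lift w * m * (D.lift w)⁻¹ = j := by
      have e1 : D.lift w * (m : Y) * (D.lift w)⁻¹ = (m : Y) * r := D.conj_translate m.2 (D.lift_mem w) hr (by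
        rw [D.vec_lift, show (⟨(m : Y)⁻¹, inv_mem m.2⟩ : ↥D.N) = m from Subtype.ext hmi, hme.trans e, hMw])
      rw [e1, hrm.eq, hjr]
    have hms : Commute D.s1 (m : Y) := by
      have h := D.na_act hm (hme.trans e) fun _ => 1
      rw [show act false sw (fun _ => (1 : ZMod 3)) = fun _ => 1 from rfl] at h
      exact (mul_inv_eq_iff_eq_mul.1 h).symm
    rw [← hjt]
    exact hms.map (MulAut.conj (D.lift w)).toMonoidHom
  · exact absurd hf (by decide)

/-- Linear involutions commuting with the pair element are not fused from the module. -/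
theorem lin_not_fused {x j g : Y} (hx : x ∈ D.R) (hre : D.Reach x) (hj : j ∈ D.N) (hjR : j ∉ D.R)
    (he : g * x * g⁻¹ = j) (hd : Commute j (D.el d0)) (hlin : D.img ⟨j, hj⟩ ∈ GN) : False := by
  have h2 : j * j = 1 := by rw [← he, conj_mul, D.sq hx, mul_one, mul_inv_cancel]
  rcases D.lin_inv hj h2 hd hlin with h | ⟨t, ht, hc⟩
  · exact hjR h
  refine D.excl_rule hx hre hj hjR he
    ⟨t * D.s1 * t⁻¹, mul_mem (mul_mem (D.RN ht) (D.el_N _)) (inv_mem (D.RN ht))⟩ ?_ ?_ hc
  · refine ⟨1, one_mem _, fun _ => 1, Or.inl fun _ => one_ne_zero, ?_⟩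
    rw [one_mul, inv_one, mul_one]
    show D.img (⟨t, D.RN ht⟩ * ⟨_, D.el_N _⟩ * ⟨t, D.RN ht⟩⁻¹) = _
    rw [map_mul, map_mul, map_inv, D.img_of_R ht, D.img_el, one_mul, inv_one, mul_one]
  · show (t * D.s1 * t⁻¹) ^ 3 = 1
    rw [conj_pow, show D.s1 ^ 3 = 1 from D.el_three _, mul_one, mul_inv_cancel]

end Cfg

end Cfsg.Agent.UThreeLocal.Two.Big
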