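import Cfsg.Agent.Lib.UThreeLocal.Two.Big.Closed
import Cfsg.Agent.Lib.UThreeLocal.Two.Main

/-!
# The centraliser of two lines lies in the local subgroup, hence so does everything
-/

set_option autoImplicit false
set_option linter.unusedSectionVars false
set_option linter.style.haveILetI false

namespace Cfsg.Agent.UThreeLocal.Two.Big

open Subgroup
open Cfsg.Agent.ThreeTransp.U62Cent (W8 GN sigP)
open Cfsg.Agent.ThreeTransp.U62Cent.W8 (qe bb)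

universe u

/-- The span of the last two lines. -/
def L23 : Set W8 := {v | v.pl 0 = 0 ∧ v.pl 1 = 0}

theorem L23_ax : ∀ i : Fin 4, (i = 2 ∨ i = 3) →
    ((ax i).pl 0 = 0 ∧ (ax i).pl 1 = 0) ∧ (W8.sig (ax i)).pl 0 = 0 ∧ (W8.sig (ax i)).pl 1 = 0 := by
  decide +kernel

theorem reps_perp : (∀ v : W8, v.pl 0 = 0 → v.pl 1 = 0 → bb v (W8.mk 1) = false) ∧
    ∀ v : W8, v.pl 0 = 0 → v.pl 1 = 0 → bb v (W8.mk 5) = false := by decide +kernel

/-- Exponents with two zero entries are moved to the first two lines free. -/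
theorem two_zero : ∀ a : Ex, (∃ π : Equiv.Perm (Fin 4), act false π a 2 = 0 ∧ act false π a 3 = 0) ∨
    ∀ i j : Fin 4, i ≠ j → a i ≠ 0 ∨ a j ≠ 0 := by decide +kernel

theorem one_free : one 0 2 = 0 ∧ one 0 3 = 0 ∧ one 1 2 = 0 ∧ one 1 3 = 0 := by decide +kernel

theorem one_zero : ∀ a : Ex, (∀ i j : Fin 4, i ≠ j → a i ≠ 0 ∨ a j ≠ 0) →
    ∃ i : Fin 4, ∀ j, j ≠ i → a j ≠ 0 := by decide +kernel

namespace Cfg

variable {Y : Type u} [Group Y] [Finite Y] (D : Cfg Y)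

/-- The centraliser of the last two lines. -/
def H23 : Subgroup Y := centralizer (D.lift '' L23)

theorem R_le_H23 : D.R ≤ D.H23 := fun r hr => mem_centralizer_iff.2 (by
  rintro _ ⟨v, -, rfl⟩
  exact (D.comm (D.lift_mem v) hr).eq)

theorem el_H23 {a : Ex} (h2 : a 2 = 0) (h3 : a 3 = 0) : D.el a ∈ D.H23 := mem_centralizer_iff.2 (by
  rintro _ ⟨v, hv, rfl⟩
  refine ((D.el_fix (D.lift_mem v)).2 ?_).symm.eq
  rw [D.vec_lift, dg_fix]
  intro i
  fin_cases i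
  exacts [Or.inr hv.1, Or.inr hv.2, Or.inl h2, Or.inl h3])

theorem A_norm_H23 : D.A ≤ normalizer (D.H23 : Set Y) := fun x hx => mem_normalizer_fintype fun h hh => by
  obtain ⟨b, rfl⟩ := D.exists_el hx
  refine mem_centralizer_iff.2 ?_
  rintro _ ⟨v, hv, rfl⟩
  set t := D.lift v
  have hR : (D.el b)⁻¹ * t * D.el b ∈ D.R := by
    simpa using D.conj_R (inv_mem (D.el_N b)) (D.lift_mem v)
  have hm : (D.el b)⁻¹ * t * D.el b ∈ D.lift '' L23 := by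
    refine ⟨dg (-b) v, ?_, D.vec_ext (D.lift_mem _) hR ?_⟩
    · have hpl : ∀ i : Fin 4, v.pl i = 0 → (dg (-b) v).pl i = 0 := fun i hi => by
        show (dgF (-b) v).pl i = 0
        rw [pl_dgF, hi, tw_zero]
      exact ⟨hpl 0 hv.1, hpl 1 hv.2⟩
    · have e := D.vec_conj (⟨_, D.el_N b⟩⁻¹) (D.lift_mem v)
      rw [map_inv, D.img_el, dg_inv, D.vec_lift] at e
      simp only [Subgroup.coe_inv, inv_inv] at e
      rw [D.vec_lift, e]
  have hc := mem_centralizer_iff.1 hh _ hm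
  calc t * (D.el b * h * (D.el b)⁻¹) = D.el b * ((D.el b)⁻¹ * t * D.el b * h) * (D.el b)⁻¹ := by group
    _ = D.el b * (h * ((D.el b)⁻¹ * t * D.el b)) * (D.el b)⁻¹ := by rw [hc]
    _ = _ := by group

theorem H23_mono {n : ↥D.N} (hn : (n : Y) ∈ D.H23) :
    ∃ π a, D.img n = mo false π a ∧ D.img n ∈ GN ∧ (π = 1 ∨ π = sw) ∧ a 2 = 0 ∧ a 3 = 0 := by
  refine mono_of_fix D.himg (D.img_mem n) fun i hi => ?_
  have key : ∀ v ∈ L23, D.img n v = v := fun v hv => by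
    have := D.fix_of_commute n (D.lift_mem v) (mem_centralizer_iff.1 hn _ ⟨v, hv, rfl⟩).symm
    rwa [D.vec_lift] at this
  exact ⟨key _ (L23_ax i hi).1, key _ (L23_ax i hi).2⟩

theorem sw_not_comm {n : ↥D.N} {a : Ex} (e : D.img n = mo false sw a) :
    ¬ Commute (D.img n) (dg (one 0)) := fun h => by
  have h1 := mo_dg_conj false sw a (one 0)
  rw [← e, h.eq, mul_inv_cancel_right] at h1
  exact absurd (congrFun (dg_injective h1) 0) (by decide +kernel)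

/-- A three-subgroup of the local subgroup in the lines' centraliser lies in the elementary group. -/
theorem three_H23 {P : Subgroup Y} (hP : P ≤ D.H23) (hp : IsPGroup 3 ↥P)
    (hAP : ∀ a : Ex, a 2 = 0 → a 3 = 0 → D.el a ∈ P) {x : Y} (hx : x ∈ P) (hxN : x ∈ D.N) :
    ∃ a : Ex, a 2 = 0 ∧ a 3 = 0 ∧ x = D.el a := by
  obtain ⟨π, a, e, -, hπ, h2, h3⟩ := D.H23_mono (n := ⟨x, hxN⟩) (hP hx)
  obtain ⟨k, hk⟩ := hp ⟨x, hx⟩
  have hxk : x ^ 3 ^ k = 1 := by simpa using congrArg Subtype.val hk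
  rcases hπ with rfl | rfl
  · rw [mo_false_dg] at e
    refine ⟨a, h2, h3, ?_⟩
    have hR : x * (D.el a)⁻¹ ∈ D.R := (D.ker (⟨x, hxN⟩ * ⟨_, D.el_N a⟩⁻¹)).1 (by
      rw [map_mul, map_inv, e, D.img_el, mul_inv_cancel])
    obtain ⟨j, hj⟩ := (IsPGroup.iff_orderOf.1 hp) ⟨_, mul_mem hx (inv_mem (hAP a h2 h3))⟩
    rw [Subgroup.orderOf_mk] at hj
    have h2' := orderOf_dvd_of_pow_eq_one (show (x * (D.el a)⁻¹) ^ 2 = 1 by rw [pow_two]; exact D.sq hR)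
    rw [hj] at h2'
    exact mul_inv_eq_one.1 (orderOf_eq_one_iff.1 (hj.trans (Nat.eq_one_of_dvd_coprimes
      (Nat.Coprime.pow_left j (by norm_num : Nat.Coprime 3 2)) dvd_rfl h2')))
  exfalso
  set M := D.img ⟨x, hxN⟩ with hM
  have hsq : Commute (M ^ 2) (dg (one 0)) := by
    rw [Commute, SemiconjBy, pow_two, e, mul_assoc, mo_dg, ← mul_assoc, mo_dg,
      show act false sw (act false sw (one 0)) = one 0 by decide +kernel, mul_assoc]
  obtain ⟨j, hj⟩ : Odd (3 ^ k) := Odd.pow (by decide)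
  have hM1 : M * (M ^ 2) ^ j = 1 := by
    rw [← pow_mul, ← pow_succ', ← hj, hM, ← map_pow,
      show (⟨x, hxN⟩ : ↥D.N) ^ 3 ^ k = 1 from Subtype.ext (by simpa using hxk), map_one]
  refine D.sw_not_comm e ?_
  rw [← hM, eq_inv_of_mul_eq_one_left hM1]
  exact (hsq.pow_left j).inv_left

/-- The exponents of the first two lines form a Sylow three-subgroup. -/
theorem sylow_H23 {P : Subgroup Y} (hP : P ≤ D.H23) (hp : IsPGroup 3 ↥P)
    (hAP : ∀ a : Ex, a 2 = 0 → a 3 = 0 → D.el a ∈ P) {x : Y} (hx : x ∈ P) :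
    ∃ a : Ex, a 2 = 0 ∧ a 3 = 0 ∧ x = D.el a := by
  haveI : Fact (Nat.Prime 3) := ⟨Nat.prime_three⟩
  haveI := hp.isNilpotent
  refine D.three_H23 hP hp hAP hx ?_
  have htop : D.N.subgroupOf P = ⊤ := by
    refine normalizerCondition_iff_only_full_group_self_normalizing.1
      Group.normalizerCondition_of_isNilpotent _ ?_
    refine le_antisymm (fun g hg => ?_) le_normalizer
    have key : ∀ i : Fin 4, one i 2 = 0 → one i 3 = 0 → (g : Y) * D.el (one i) * (g : Y)⁻¹ ∈ D.A := by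
      intro i hi hi'
      have hb := hAP _ hi hi'
      obtain ⟨a, -, -, e⟩ := D.three_H23 hP hp hAP (P.mul_mem (P.mul_mem g.2 hb) (P.inv_mem g.2))
        (((mem_normalizer_iff.1 hg) ⟨_, hb⟩).1 (D.el_N _))
      rw [e]; exact D.el_mem a
    exact D.pair_strong (show (0 : Fin 4) ≠ 1 by decide) (key 0 one_free.1 one_free.2.1)
      (key 1 one_free.2.2.1 one_free.2.2.2)
  exact subgroupOf_eq_top.1 htop hx

/-- The centraliser of an exponent moved by the transposition, within the lines' centraliser. -/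
theorem el_cent_H23 {a : Ex} (ha : a 0 ≠ a 1) : D.H23 ⊓ centralizer ({D.el a} : Set Y) ≤ D.N := by
  set L := D.H23 ⊓ centralizer ({D.el a} : Set Y)
  have hAL : D.A ≤ normalizer (L : Set Y) := fun x hx => mem_normalizer_fintype fun l hl =>
    ⟨(mem_normalizer_iff.1 (D.A_norm_H23 hx) l).1 hl.1, mem_centralizer_singleton_iff.2 (by
      obtain ⟨b, rfl⟩ := D.exists_el hx
      exact (((D.el_comm a b).mul_right (mem_centralizer_singleton_iff.1 hl.2).symm).mul_right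
        (D.el_comm a b).inv_right).symm.eq)⟩
  refine le_trans (le_sup_left : L ≤ L ⊔ D.A) (D.burnside_le le_sup_right fun n hn => ?_)
  rw [← SetLike.mem_coe, coe_mul_of_right_le_normalizer_left _ _ hAL] at hn
  obtain ⟨l, hl, x, hx, elx⟩ := hn
  have hlN : l ∈ D.N := by
    rw [show l = n * x⁻¹ from eq_mul_inv_of_mul_eq elx]
    exact mul_mem n.2 (inv_mem (D.hAN hx))
  obtain ⟨π, b, e, -, hπ, -, -⟩ := D.H23_mono (n := ⟨l, hlN⟩) hl.1
  rcases hπ with rfl | rfl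
  · obtain ⟨c, hc⟩ := D.diag ⟨x, D.hAN hx⟩ hx
    refine ⟨b + c, ?_⟩
    rw [show n = ⟨l, hlN⟩ * ⟨x, D.hAN hx⟩ from Subtype.ext elx.symm, map_mul, e, mo_false_dg, hc, dg_mul]
  · exact absurd (sw_fix a (D.act_of_commute e (mem_centralizer_singleton_iff.1 hl.2))) ha

/-- Such an element is fused only by the local subgroup. -/
theorem el_strong_H23 {a b : Ex} (ha2 : a 2 = 0) (ha3 : a 3 = 0) (ha : a 0 ≠ a 1)
    {g : Y} (hg : g ∈ D.H23) (he : g * D.el a * g⁻¹ = D.el b) : g ∈ D.N := by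
  haveI : Fact (Nat.Prime 3) := ⟨Nat.prime_three⟩
  let a12 : Subgroup Y :=
    { carrier := {x | ∃ c : Ex, c 2 = 0 ∧ c 3 = 0 ∧ x = D.el c}
      one_mem' := ⟨0, rfl, rfl, D.el_zero.symm⟩
      mul_mem' := by
        rintro _ _ ⟨c, c2, c3, rfl⟩ ⟨d, d2, d3, rfl⟩
        exact ⟨c + d, by rw [Pi.add_apply, c2, d2, add_zero], by rw [Pi.add_apply, c3, d3, add_zero],
          (D.el_add c d).symm⟩
      inv_mem' := by
        rintro _ ⟨c, c2, c3, rfl⟩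
        exact ⟨-c, by rw [Pi.neg_apply, c2, neg_zero], by rw [Pi.neg_apply, c3, neg_zero], (D.el_neg c).symm⟩ }
  set C := D.H23 ⊓ centralizer ({D.el b} : Set Y) with hC
  have haH : D.el a ∈ D.H23 := D.el_H23 ha2 ha3
  have hbH : D.el b ∈ D.H23 := he ▸ mul_mem (mul_mem hg haH) (inv_mem hg)
  have hAC : a12 ≤ C := by
    rintro _ ⟨c, c2, c3, rfl⟩
    exact ⟨D.el_H23 c2 c3, mem_centralizer_singleton_iff.2 (D.el_comm c b).eq⟩
  have hBC : a12.map (MulAut.conj g).toMonoidHom ≤ C := by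
    rintro _ ⟨_, ⟨c, c2, c3, rfl⟩, rfl⟩
    refine ⟨D.H23.mul_mem (D.H23.mul_mem hg (D.el_H23 c2 c3)) (D.H23.inv_mem hg), mem_centralizer_singleton_iff.2 ?_⟩
    rw [← he]
    exact ((D.el_comm c a).map (MulAut.conj g).toMonoidHom).eq
  have hp : IsPGroup 3 ↥a12 := D.A_pGroup.to_le (by rintro _ ⟨c, -, -, rfl⟩; exact D.el_mem c)
  obtain ⟨P, hP⟩ := (hp.of_equiv (subgroupOfEquivOfLe hAC).symm).exists_le_sylow
  obtain ⟨Q, hQ⟩ := ((hp.map (MulAut.conj g).toMonoidHom).of_equiv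
    (subgroupOfEquivOfLe hBC).symm).exists_le_sylow
  obtain ⟨h, hh⟩ := MulAction.exists_smul_eq ↥C Q P
  set P' := (P : Subgroup ↥C).map C.subtype
  have hAP : ∀ c : Ex, c 2 = 0 → c 3 = 0 → D.el c ∈ P' := fun c c2 c3 =>
    ⟨⟨_, hAC ⟨c, c2, c3, rfl⟩⟩, hP (show (⟨_, hAC ⟨c, c2, c3, rfl⟩⟩ : ↥C) ∈ a12.subgroupOf C from
      ⟨c, c2, c3, rfl⟩), rfl⟩
  have hP'le : P' ≤ D.H23 := (map_subtype_le _).trans inf_le_left
  set k := (h : Y) * g with hk
  have key : ∀ i : Fin 4, one i 2 = 0 → one i 3 = 0 → k * D.el (one i) * k⁻¹ ∈ D.A := by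
    intro i hi hi'
    have hx : g * D.el (one i) * g⁻¹ ∈ C := hBC ⟨_, ⟨_, hi, hi', rfl⟩, rfl⟩
    have hm : h * ⟨_, hx⟩ * h⁻¹ ∈ ((h • Q : Sylow 3 ↥C) : Subgroup ↥C) := by
      rw [Sylow.coe_subgroup_smul]
      exact ⟨_, hQ (show (⟨_, hx⟩ : ↥C) ∈ _ from ⟨_, ⟨_, hi, hi', rfl⟩, rfl⟩), rfl⟩
    rw [hh] at hm
    obtain ⟨c, -, -, ec⟩ := D.sylow_H23 hP'le (P.2.map _) hAP (x := k * D.el (one i) * k⁻¹)
      ⟨_, hm, by simp [hk, mul_assoc]⟩
    rw [ec]; exact D.el_mem c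
  have hkN : k ∈ D.N := D.pair_strong (show (0 : Fin 4) ≠ 1 by decide) (key 0 one_free.1 one_free.2.1)
    (key 1 one_free.2.2.1 one_free.2.2.2)
  have hh' : g⁻¹ * (h : Y) * g ∈ D.N := by
    refine D.el_cent_H23 ha ⟨D.H23.mul_mem (D.H23.mul_mem (D.H23.inv_mem hg) h.2.1) hg, mem_centralizer_singleton_iff.2 ?_⟩
    calc g⁻¹ * (h : Y) * g * D.el a = g⁻¹ * ((h : Y) * (g * D.el a * g⁻¹)) * g := by group
      _ = g⁻¹ * ((g * D.el a * g⁻¹) * h) * g := by rw [he, mem_centralizer_singleton_iff.1 h.2.2]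
      _ = _ := by group
  have := mul_mem hkN (inv_mem hh')
  rwa [hk, show (h : Y) * g * (g⁻¹ * (h : Y) * g)⁻¹ = g by group] at this

/-- The subgroup of the lines' centraliser in the local subgroup with diagonal image. -/
def H23d : Subgroup Y := ((D.imgA.comap D.img).map D.N.subtype) ⊓ D.H23

theorem mem_H23d {g : Y} :
    g ∈ D.H23d ↔ ∃ hg : g ∈ D.N, g ∈ D.H23 ∧ ∃ a, D.img ⟨g, hg⟩ = dg a := by
  constructor
  · rintro ⟨⟨n, hn, rfl⟩, hC⟩
    obtain ⟨m, hm, e⟩ := D.mem_imgA.1 hn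
    obtain ⟨a, ha⟩ := D.diag m hm
    exact ⟨n.2, hC, a, e.symm.trans ha⟩
  · rintro ⟨hg, hC, a, ha⟩
    exact ⟨⟨⟨g, hg⟩, D.mem_imgA.2 ⟨⟨_, D.el_N a⟩, D.el_mem a, (D.img_el a).trans ha.symm⟩, rfl⟩, hC⟩

theorem H23d_zero {y : Y} (hy : y ∈ D.H23) (hyN : y ∈ D.N) {a : Ex} (e : D.img ⟨y, hyN⟩ = dg a) :
    a 2 = 0 ∧ a 3 = 0 := by
  have key : ∀ i : Fin 4, i = 2 ∨ i = 3 → a i = 0 := fun i hi => by
    have h := D.fix_of_commute ⟨y, hyN⟩ (D.lift_mem (ax i))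
      (mem_centralizer_iff.1 hy _ ⟨_, (L23_ax i hi).1, rfl⟩).symm
    rw [D.vec_lift, e] at h
    exact (dg_fix.1 h i).resolve_right (by rw [pl_ax, if_pos rfl]; decide)
  exact ⟨key 2 (Or.inl rfl), key 3 (Or.inr rfl)⟩

set_option maxHeartbeats 800000 in
/-- The centraliser of two lines lies in the local subgroup. -/
theorem H23_le : D.H23 ≤ D.N := by
  classical
  set C := D.H23 with hC
  set H : Subgroup ↥C := D.N.subgroupOf C with hH
  set H0 : Subgroup ↥C := D.H23d.subgroupOf C with hH0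
  have hle : H0 ≤ H := fun y hy => (D.mem_H23d.1 hy).1
  obtain ⟨w, -, hwi⟩ := D.mo_lift (D.GN_le (mo_GN sw 0)) (s := false) (π := sw) (a := 0) rfl
  have hwC : (w : Y) ∈ C := mem_centralizer_iff.2 (by
    rintro _ ⟨v, hv, rfl⟩
    refine (D.commute_of_fix w (D.lift_mem v) ?_).symm.eq
    rw [D.vec_lift, hwi]
    refine ext_pl fun i => ?_
    rw [mo_pl]
    fin_cases i <;> simp [sw, Equiv.swap_apply_def, tw, hv.1, hv.2])
  let u : ↥C := ⟨w, hwC⟩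
  choose hN a ha using fun y : ↥H0 => (fun h : _ ∧ _ => h) ⟨(D.mem_H23d.1 y.2).1, (D.mem_H23d.1 y.2).2.2⟩
  have huH0 : u ∉ H0 := fun h => by
    obtain ⟨hh, -, b, hb⟩ := D.mem_H23d.1 h
    refine D.sw_not_comm hwi ?_
    rw [show D.img w = dg b from hb]
    exact dg_comm b _
  have hH' : ∀ h ∈ H, h ∈ H0 ∨ h * u⁻¹ ∈ H0 := by
    intro h hh
    obtain ⟨π, c, e, -, hπ, -, -⟩ := D.H23_mono (n := ⟨(h : Y), hh⟩) h.2
    rcases hπ with rfl | rfl
    · exact Or.inl (D.mem_H23d.2 ⟨hh, h.2, c, e.trans (mo_false_dg c)⟩)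
    · refine Or.inr (D.mem_H23d.2 ⟨mul_mem hh (inv_mem w.2), (h * u⁻¹).2, act false sw c, ?_⟩)
      show D.img (⟨(h : Y), hh⟩ * w⁻¹) = _
      rw [map_mul, map_inv, e, hwi, ← pp_conj]
      show pp sw * dg c * (pp sw * dg 0)⁻¹ = _
      rw [dg_zero, mul_one]
  have hnorm : ∀ y ∈ H0, u * y * u⁻¹ ∈ H0 := fun y hy => by
    obtain ⟨hyN', -, b, hb'⟩ := D.mem_H23d.1 hy
    have hyN : (y : Y) ∈ D.N := hyN'
    refine D.mem_H23d.2 ⟨mul_mem (mul_mem w.2 hyN) (inv_mem w.2), (u * y * u⁻¹).2, act false sw b, ?_⟩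
    show D.img (w * ⟨(y : Y), hyN⟩ * w⁻¹) = _
    rw [map_mul, map_mul, map_inv, hwi, show D.img ⟨(y : Y), hyN⟩ = dg b from hb', mo_dg_conj]
  have haeq : ∀ (y : ↥H0) (h : ((y : ↥C) : Y) ∈ D.N) (b : Ex), D.img ⟨_, h⟩ = dg b → a y = b :=
    fun y h b hb => dg_injective ((ha y).symm.trans hb)
  let lam : ↥H0 →* Multiplicative (ZMod 3) := MonoidHom.mk' (fun y => Multiplicative.ofAdd (a y 0 - a y 1))
    fun y z => by
      have e : a (y * z) = a y + a z := haeq _ (hN (y * z)) _ (by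
        rw [show (⟨(((y * z : ↥H0) : ↥C) : Y), hN (y * z)⟩ : ↥D.N) = ⟨_, hN y⟩ * ⟨_, hN z⟩ from rfl,
          map_mul, ha, ha, dg_mul])
      rw [← ofAdd_add]
      congr 1
      rw [e, Pi.add_apply, Pi.add_apply]
      ring
  have lam_ne : ∀ y, lam y ≠ 1 ↔ a y 0 ≠ a y 1 := fun y => by
    rw [not_iff_not]
    show Multiplicative.ofAdd (a y 0 - a y 1) = 1 ↔ _
    rw [← ofAdd_zero, Multiplicative.ofAdd.injective.eq_iff, sub_eq_zero]
  have hone : D.el (one 0) ∈ C := D.el_H23 (by decide) (by decide)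
  have e0H0 : (⟨D.el (one 0), hone⟩ : ↥C) ∈ H0 := D.mem_H23d.2 ⟨D.el_N _, hone, _, D.img_el _⟩
  have hne : ∃ y, lam y ≠ 1 := ⟨⟨_, e0H0⟩, (lam_ne _).2 (by
    rw [haeq ⟨_, e0H0⟩ (D.el_N _) _ (D.img_el _)]; decide +kernel)⟩
  have hinv : ∀ y : ↥H0, lam ⟨u * y * u⁻¹, hnorm y y.2⟩ = (lam y)⁻¹ := fun y => by
    show Multiplicative.ofAdd (a _ 0 - a _ 1) = (Multiplicative.ofAdd (a y 0 - a y 1))⁻¹
    rw [← ofAdd_neg]
    congr 1
    rw [haeq ⟨u * y * u⁻¹, hnorm y y.2⟩ (mul_mem (mul_mem w.2 (hN y)) (inv_mem w.2)) (act false sw (a y)) (by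
      show D.img (w * ⟨_, hN y⟩ * w⁻¹) = _
      rw [map_mul, map_mul, map_inv, hwi, ha, mo_dg_conj]), (sw_diff _).1, (sw_diff _).2]
    ring
  have hTI : ∀ y : ↥H0, lam y ≠ 1 → ∀ c : ↥C, c * y * c⁻¹ ∈ H → c ∈ H := by
    intro y hy c hc
    set yn : ↥D.N := ⟨_, hN y⟩ with hyn
    have hy6 : ((yn : Y) ^ 4) ^ 3 = 1 := by
      have hR : (yn : Y) ^ 3 ∈ D.R := (D.ker (yn ^ 3)).1 (by rw [map_pow, ha, dg_pow_three])
      rw [← pow_mul, show 4 * 3 = 3 * 4 from rfl, pow_mul]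
      have h2 := D.sq hR
      calc ((yn : Y) ^ 3) ^ 4 = ((yn : Y) ^ 3 * (yn : Y) ^ 3) ^ 2 := by group
        _ = 1 := by rw [h2, one_pow]
    have hy4 : D.img ⟨(yn : Y) ^ 4, pow_mem yn.2 4⟩ = dg (a y) := by
      rw [show (⟨(yn : Y) ^ 4, pow_mem yn.2 4⟩ : ↥D.N) = yn ^ 4 from rfl, map_pow, ha, pow_succ, dg_pow_three,
        one_mul]
    obtain ⟨a2, a3⟩ := D.H23d_zero (y : ↥C).2 (hN y) (ha y)
    obtain ⟨t, -, hte, htS⟩ := D.to_el (pow_mem yn.2 4) hy6 hy4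
    have htC : t ∈ C := htS C (pow_mem (y : ↥C).2 4) (D.el_H23 a2 a3)
    set n' : ↥D.N := ⟨_, pow_mem (show (c : Y) * (y : ↥C) * (c : Y)⁻¹ ∈ D.N from hc) 4⟩
    have hn'C : (n' : Y) ∈ C := pow_mem (mul_mem (mul_mem c.2 (y : ↥C).2) (inv_mem c.2)) 4
    have hn'3 : (n' : Y) ^ 3 = 1 := by
      show (((c : Y) * (y : ↥C) * (c : Y)⁻¹) ^ 4) ^ 3 = 1
      rw [conj_pow, conj_pow, show (((y : ↥C) : Y) ^ 4) ^ 3 = 1 from hy6, mul_one, mul_inv_cancel]
    obtain ⟨π, b, e, -, hπ, b2, b3⟩ := D.H23_mono hn'C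
    obtain ⟨t', -, hte', htS'⟩ := D.to_el n'.2 hn'3 (D.cube_one e hπ hn'3)
    have ht'C : t' ∈ C := htS' C hn'C (D.el_H23 b2 b3)
    set g' := t' * c * t⁻¹ with hg'
    have hg'a : g' * D.el (a y) * g'⁻¹ = D.el b := by
      rw [← hte, ← hte']
      show _ = t' * ((c : Y) * (y : ↥C) * (c : Y)⁻¹) ^ 4 * t'⁻¹
      rw [conj_pow, hg', hyn]
      group
      rfl
    have hg'N := D.el_strong_H23 a2 a3 ((lam_ne y).1 hy)
      (mul_mem (mul_mem ht'C c.2) (inv_mem htC)) hg'a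
    have htN : t ∈ D.N := htS D.N (pow_mem yn.2 4) (D.el_N _)
    have ht'N : t' ∈ D.N := htS' D.N n'.2 (D.el_N _)
    show (c : Y) ∈ D.N
    rw [show (c : Y) = t'⁻¹ * g' * t by rw [hg']; group]
    exact mul_mem (mul_mem (inv_mem ht'N) hg'N) htN
  obtain ⟨K, hKn, hKx, hKl⟩ := dich hle (u := u) w.2 huH0 hH' hnorm lam hne hinv hTI
  -- the conjugates of the module
  set S : Set Y := {x | ∃ g ∈ C, ∃ r ∈ D.R, x = g * r * g⁻¹} with hS
  set M := closure S with hM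
  have hSK : ∀ x ∈ S, ∃ k ∈ K, (k : Y) = x := by
    rintro _ ⟨g, hg, r, hr, rfl⟩
    refine ⟨⟨g, hg⟩ * ⟨r, D.R_le_H23 hr⟩ * ⟨g, hg⟩⁻¹, hKn.conj_mem _ (hKx _ (Subtype.ext (D.sq hr))
      fun c hc => D.mem_H23d.2 ⟨hc, (c * ⟨r, D.R_le_H23 hr⟩ * c⁻¹).2, 0, ?_⟩) _, rfl⟩
    exact (D.img_of_R (D.strongly_closed hr hc)).trans dg_zero.symm
  have hMK : M ≤ K.map C.subtype := (closure_le _).2 fun x hx => by
    obtain ⟨k, hk, rfl⟩ := hSK x hx
    exact ⟨k, hk, rfl⟩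
  have hconjS : ∀ q : Y, (∀ g ∈ C, q * g * q⁻¹ ∈ C) → (∀ r ∈ D.R, q * r * q⁻¹ ∈ D.R) →
      ∀ x ∈ M, q * x * q⁻¹ ∈ M := by
    intro q hq hqR x hx
    refine (show M ≤ M.comap (MulAut.conj q).toMonoidHom from (closure_le _).2 ?_) hx
    rintro _ ⟨g, hg, r, hr, rfl⟩
    refine subset_closure ⟨q * g * q⁻¹, hq g hg, q * r * q⁻¹, hqR r hr, ?_⟩
    show q * (g * r * g⁻¹) * q⁻¹ = _
    group
  have hAM : D.A ≤ normalizer (M : Set Y) := fun x hx => mem_normalizer_fintype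
    (hconjS x (fun g hg => (mem_normalizer_iff.1 (D.A_norm_H23 hx) g).1 hg) fun r hr => D.conj_R (D.hAN hx) hr)
  have hMC : M ≤ C := hMK.trans (map_subtype_le _)
  have hMconj : ∀ g ∈ C, ∀ x ∈ M, g * x * g⁻¹ ∈ M := fun g hg x hx => by
    refine (show M ≤ M.comap (MulAut.conj g).toMonoidHom from (closure_le _).2 ?_) hx
    rintro _ ⟨g', hg', r, hr, rfl⟩
    refine subset_closure ⟨g * g', mul_mem hg hg', r, hr, ?_⟩
    show g * (g' * r * g'⁻¹) * g⁻¹ = _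
    group
  have hMN : M ≤ D.N := by
    refine le_trans (le_sup_left : M ≤ M ⊔ D.A) (D.burnside_le le_sup_right fun n hn => ?_)
    rw [← SetLike.mem_coe, coe_mul_of_right_le_normalizer_left _ _ hAM] at hn
    obtain ⟨l, hl, x, hx, elx⟩ := hn
    have hlN : l ∈ D.N := by
      rw [show l = n * x⁻¹ from eq_mul_inv_of_mul_eq elx]
      exact mul_mem n.2 (inv_mem (D.hAN hx))
    obtain ⟨π, b, e, -, hπ, -, -⟩ := D.H23_mono (n := ⟨l, hlN⟩) (hMC hl)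
    rcases hπ with rfl | rfl
    · obtain ⟨c, hc⟩ := D.diag ⟨x, D.hAN hx⟩ hx
      refine ⟨b + c, ?_⟩
      rw [show n = ⟨l, hlN⟩ * ⟨x, D.hAN hx⟩ from Subtype.ext elx.symm, map_mul, e, mo_false_dg, hc, dg_mul]
    exfalso
    set q := l * D.el (one 0) * l⁻¹ * (D.el (one 0))⁻¹ with hq
    have hqM : q ∈ M := by
      rw [hq, show l * D.el (one 0) * l⁻¹ * (D.el (one 0))⁻¹ =
        l * (D.el (one 0) * l⁻¹ * (D.el (one 0))⁻¹) by group]
      exact mul_mem hl (hMconj _ hone _ (inv_mem hl))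
    have hqN : q ∈ D.N := mul_mem (mul_mem (mul_mem hlN (D.el_N _)) (inv_mem hlN)) (inv_mem (D.el_N _))
    have hqi : D.img ⟨q, hqN⟩ = dg (act false sw (one 0) + -one 0) := by
      show D.img (⟨l, hlN⟩ * ⟨_, D.el_N _⟩ * ⟨l, hlN⟩⁻¹ * ⟨_, D.el_N (one 0)⟩⁻¹) = _
      rw [map_mul, D.img_conj_el _ e, map_inv, D.img_el, dg_inv, ← dg_mul]
    obtain ⟨k, hk, hkq⟩ := hMK hqM
    have hkN : (k : Y) ∈ D.N := by rw [show (k : Y) = q from hkq]; exact hqN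
    have hq0 : k ∈ H0 := D.mem_H23d.2 ⟨hkN, k.2, _,
      (congrArg D.img (Subtype.ext hkq)).trans hqi⟩
    refine (lam_ne ⟨k, hq0⟩).2 ?_ (hKl ⟨k, hq0⟩ hk)
    rw [haeq ⟨k, hq0⟩ hkN _ ((congrArg D.img (Subtype.ext hkq)).trans hqi)]
    decide +kernel
  intro g hg
  rw [← D.norm]
  refine mem_normalizer_fintype fun r hr => ?_
  exact D.strongly_closed hr (hMN (subset_closure ⟨g, hg, r, hr, rfl⟩))

/-- The local subgroup moves centralisers in it. -/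
theorem cent_move (n : ↥D.N) {J : Set W8} (h : centralizer (D.lift '' J) ≤ D.N) :
    centralizer (D.lift '' (D.img n '' J)) ≤ D.N := by
  intro c hc
  have hm : (n : Y)⁻¹ * c * n ∈ D.N := h (mem_centralizer_iff.2 (by
    rintro _ ⟨v, hv, rfl⟩
    have e : D.lift (D.img n v) = (n : Y) * D.lift v * (n : Y)⁻¹ :=
      D.vec_ext (D.lift_mem _) (D.conj_R n.2 (D.lift_mem v))
        (by rw [D.vec_lift, D.vec_conj n (D.lift_mem v), D.vec_lift])
    have hc' := mem_centralizer_iff.1 hc _ ⟨_, ⟨v, hv, rfl⟩, rfl⟩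
    rw [e] at hc'
    calc D.lift v * ((n : Y)⁻¹ * c * n) = (n : Y)⁻¹ * ((n : Y) * D.lift v * (n : Y)⁻¹ * c) * n := by group
      _ = (n : Y)⁻¹ * (c * ((n : Y) * D.lift v * (n : Y)⁻¹)) * n := by rw [hc']
      _ = _ := by group))
  have := mul_mem (mul_mem n.2 hm) (inv_mem n.2)
  rwa [show (n : Y) * ((n : Y)⁻¹ * c * n) * (n : Y)⁻¹ = c by group] at this

/-- A subgroup of hyperplane type has its centraliser in the local subgroup. -/
theorem cent_hyp {v : W8} (hv : v ≠ 0) :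
    ∃ T : Set Y, T ⊆ D.R ∧ (∀ x ∈ T, bb (D.vec x) v = false) ∧ centralizer T ≤ D.N := by
  obtain ⟨g, hg, e⟩ := D.himg.trans hv
  obtain ⟨n, rfl⟩ := D.himg.le hg
  refine ⟨D.lift '' (D.img n '' L23), ?_, ?_, D.cent_move n D.H23_le⟩
  · rintro _ ⟨z, -, rfl⟩
    exact D.lift_mem z
  · rintro _ ⟨_, ⟨z, hz, rfl⟩, rfl⟩
    rw [D.vec_lift, ← e, Cfsg.Agent.ThreeTransp.U62Cent.W8.IsIso.bb (D.himg.iso _ (D.img_mem n))]
    split
    · exact reps_perp.1 z hz.1 hz.2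
    · exact reps_perp.2 z hz.1 hz.2

/-- A subgroup fixed pointwise by a reflection has its centraliser in the local subgroup. -/
theorem cent_ref {S : Subgroup Y} (hS : S ≤ D.R) (hSc : Nat.card ↥S = 64) {t : Equiv.Perm W8}
    (ht : t ∈ D.img.range) (ht3 : t ^ 3 = 1) (ht1 : t ≠ 1) (hts : ∀ s ∈ S, t (D.vec s) = D.vec s) :
    centralizer (S : Set Y) ≤ D.N := by
  have hG := D.himg.lin_of_pow_three ht ht3
  have hin : 64 ≤ {v : W8 | t v = v}.ncard := by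
    rw [← hSc, ← Nat.card_coe_set_eq]
    exact Nat.card_le_card_of_injective (fun s : ↥S => (⟨D.vec s, hts s s.2⟩ : {v : W8 | t v = v}))
      fun a b e => Subtype.ext (D.vec_ext (hS a.2) (hS b.2) (congrArg Subtype.val e))
  obtain h16 | ⟨h64, -⟩ := D.himg.fix_ref ht hG ht3 ht1
  · omega
  have hFix : ∀ v, t v = v → D.lift v ∈ S := fun v hv => by
    have e : D.vec '' (S : Set Y) = {v : W8 | t v = v} :=
      Set.eq_of_subset_of_ncard_le (by rintro _ ⟨s, hs, rfl⟩; exact hts s hs) (by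
        rw [h64, Set.ncard_image_of_injOn fun a ha b hb e => D.vec_ext (hS ha) (hS hb) e,
          ← Nat.card_coe_set_eq]
        exact hSc.ge) (Set.toFinite _)
    obtain ⟨s, hs, es⟩ : v ∈ D.vec '' (S : Set Y) := by rw [e]; exact hv
    rwa [D.vec_ext (D.lift_mem v) (hS hs) (by rw [D.vec_lift, es])]
  obtain ⟨y, hy, hyA⟩ := D.himg.conj_three hG ht3
  obtain ⟨a, ha⟩ := (inA_dg (mul_mem (mul_mem (D.himg.inat.add hy) hG.add) (inv_mem (D.himg.inat.add hy)))).1 hyA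
  rcases two_zero a with ⟨π, h2, h3⟩ | hno
  swap
  · exfalso
    obtain ⟨i, hi⟩ := one_zero a hno
    have hle : {v : W8 | dg a v = v}.ncard ≤ 4 := by
      refine le_trans (Set.ncard_le_ncard (fun v hv => ?_) (Set.toFinite _)) (zt_fix i)
      refine dg_fix.2 fun j => ?_
      by_cases hj : j = i
      · exact Or.inl (by simp [zt, hj])
      · exact Or.inr ((dg_fix.1 hv j).resolve_left (hi j hj))
    rw [← ha, ncard_fix_conj] at hle
    omega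
  set y' := pp π * y with hy'
  obtain ⟨m, hm⟩ := D.GN_le (mul_mem (pp_GN π) (D.himg.inat.le hy))
  refine le_trans (centralizer_le ?_) (D.cent_move m⁻¹ D.H23_le)
  rintro _ ⟨_, ⟨z, hz, rfl⟩, rfl⟩
  refine hFix _ ?_
  have hfix : (y' * t * y'⁻¹ : Equiv.Perm W8) z = z := by
    rw [show y' * t * y'⁻¹ = pp π * (y * t * y⁻¹) * (pp π)⁻¹ by rw [hy']; group, ha, pp_conj, dg_fix]
    intro i
    fin_cases i
    exacts [Or.inr hz.1, Or.inr hz.2, Or.inl h2, Or.inl h3]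
  rw [map_inv, show D.img m = y' from hm]
  have := congrArg (y'⁻¹ : Equiv.Perm W8) hfix
  simpa only [← Equiv.Perm.mul_apply, mul_assoc, inv_mul_cancel_left] using this

theorem control : D.Control :=
  ⟨D.weakly_closed, fun hx hu => D.strongly_closed hx hu, fun hv => D.cent_hyp hv,
    fun hS hSc _ ht ht3 ht1 hts => D.cent_ref hS hSc ht ht3 ht1 hts⟩

/-- The local subgroup is everything. -/
theorem eq_top : D.N = ⊤ := D.eq_top_of D.control

end Cfg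

end Cfsg.Agent.UThreeLocal.Two.Big
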