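import Cfsg.Agent.Lib.UThreeLocal.Two.Orbits

/-!
# Monomial maps of the natural module on four orthogonal nonsingular lines
-/

set_option autoImplicit false
set_option maxRecDepth 100000
set_option synthInstance.maxSize 4096
set_option synthInstance.maxHeartbeats 200000

namespace Cfsg.Agent.UThreeLocal.Two.Big

open Cfsg.Agent.ThreeTransp.U62Cent
open Cfsg.Agent.ThreeTransp.U62Cent.W8

/-- Exponents of the scalar on the four lines. -/
abbrev Ex : Type := Fin 4 → ZMod 3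

/-- the conjugation of one coordinate -/
def cjp (p : ℕ) : ℕ := if p = 2 then 3 else if p = 3 then 2 else p

/-- a vector from its four coordinates -/
def ofPl (f : Fin 4 → ℕ) : W8 := W8.mk (f 0 ||| (f 1 <<< 2) ||| (f 2 <<< 4) ||| (f 3 <<< 6))

theorem ofPl_pl : ∀ v : W8, ofPl (fun i => v.pl i) = v := by decide +kernel

theorem pl_ofPl_four : ∀ a b c d : Fin 4,
    (ofPl ![a.val, b.val, c.val, d.val]).pl 0 = a.val ∧ (ofPl ![a.val, b.val, c.val, d.val]).pl 1 = b.val ∧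
    (ofPl ![a.val, b.val, c.val, d.val]).pl 2 = c.val ∧ (ofPl ![a.val, b.val, c.val, d.val]).pl 3 = d.val := by
  decide +kernel

theorem pl_lt (v : W8) (i : ℕ) : v.pl i < 4 := Nat.lt_succ_of_le Nat.and_le_right

theorem pl_ofPl {f : Fin 4 → ℕ} (h : ∀ i, f i < 4) (i : Fin 4) : (ofPl f).pl i = f i := by
  have hk := pl_ofPl_four ⟨f 0, h 0⟩ ⟨f 1, h 1⟩ ⟨f 2, h 2⟩ ⟨f 3, h 3⟩
  have he : ofPl ![f 0, f 1, f 2, f 3] = ofPl f := rfl
  simp only [he] at hk
  fin_cases i
  exacts [hk.1, hk.2.1, hk.2.2.1, hk.2.2.2]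

theorem ext_pl {v w : W8} (h : ∀ i : Fin 4, v.pl i = w.pl i) : v = w := by
  rw [← ofPl_pl v, ← ofPl_pl w]
  exact congrArg ofPl (funext h)

theorem pl_add (v w : W8) (i : ℕ) : (v + w).pl i = v.pl i ^^^ w.pl i := by
  simp only [W8.pl, code_add, Nat.shiftRight_xor_distrib, Nat.and_xor_distrib_right]

theorem pl_sig : ∀ (v : W8) (i : Fin 4), (W8.sig v).pl i = rot (v.pl i) := by decide +kernel

theorem qe_pl (v : W8) : qe true v =
    xor (xor (decide (v.pl 0 ≠ 0)) (decide (v.pl 1 ≠ 0))) (xor (decide (v.pl 2 ≠ 0)) (decide (v.pl 3 ≠ 0))) :=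
  rfl

/-- the scalar on one coordinate -/
def tw (k : ZMod 3) (p : ℕ) : ℕ := rot^[k.val] p

theorem tw_props : ∀ (k l : ZMod 3) (p : Fin 4), tw k p.val < 4 ∧ tw 0 p.val = p.val ∧
    tw k (tw l p.val) = tw (k + l) p.val ∧ tw k (rot p.val) = rot (tw k p.val) ∧
    (tw k p.val = 0 ↔ p.val = 0) ∧ tw 1 p.val = rot p.val ∧ cjp (tw k p.val) = tw (-k) (cjp p.val) := by
  decide +kernel

theorem tw_xor : ∀ (k : ZMod 3) (p q : Fin 4),
    tw k (p.val ^^^ q.val) = tw k p.val ^^^ tw k q.val := by decide +kernel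

theorem cjp_props : ∀ p q : Fin 4, cjp p.val < 4 ∧ cjp (cjp p.val) = p.val ∧
    cjp (rot p.val) = rot (rot (cjp p.val)) ∧ (cjp p.val = 0 ↔ p.val = 0) ∧
    cjp (p.val ^^^ q.val) = cjp p.val ^^^ cjp q.val := by decide +kernel

/-- the diagonal map -/
def dgF (a : Ex) (v : W8) : W8 := ofPl fun i => tw (a i) (v.pl i)

/-- the conjugation of the coordinates -/
def cjF (v : W8) : W8 := ofPl fun i => cjp (v.pl i)

/-- a permutation of the coordinates -/
def ppF (π : Equiv.Perm (Fin 4)) (v : W8) : W8 := ofPl fun j => v.pl (π.symm j : Fin 4)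

theorem pl_dgF (a : Ex) (v : W8) (i : Fin 4) : (dgF a v).pl i = tw (a i) (v.pl i) :=
  pl_ofPl (fun j => (tw_props (a j) 0 ⟨_, pl_lt v j⟩).1) i

theorem pl_cjF (v : W8) (i : Fin 4) : (cjF v).pl i = cjp (v.pl i) :=
  pl_ofPl (fun j => (cjp_props ⟨_, pl_lt v j⟩ 0).1) i

theorem pl_ppF (π : Equiv.Perm (Fin 4)) (v : W8) (i : Fin 4) : (ppF π v).pl i = v.pl (π.symm i : Fin 4) :=
  pl_ofPl (fun j => pl_lt v _) i

theorem dgF_dgF (a b : Ex) (v : W8) : dgF a (dgF b v) = dgF (a + b) v :=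
  ext_pl fun i => by
    rw [pl_dgF, pl_dgF, pl_dgF]
    exact (tw_props (a i) (b i) ⟨_, pl_lt v i⟩).2.2.1

theorem dgF_zero (v : W8) : dgF 0 v = v :=
  ext_pl fun i => by rw [pl_dgF]; exact (tw_props 0 0 ⟨_, pl_lt v i⟩).2.1

theorem cjF_inv (v : W8) : cjF (cjF v) = v :=
  ext_pl fun i => by rw [pl_cjF, pl_cjF]; exact (cjp_props ⟨_, pl_lt v i⟩ 0).2.1

theorem ppF_inv (π : Equiv.Perm (Fin 4)) (v : W8) : ppF π.symm (ppF π v) = v :=
  ext_pl fun i => by rw [pl_ppF, pl_ppF]; simp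

/-- the diagonal permutation -/
def dg (a : Ex) : Equiv.Perm W8 where
  toFun := dgF a
  invFun := dgF (-a)
  left_inv v := by rw [dgF_dgF, neg_add_cancel, dgF_zero]
  right_inv v := by rw [dgF_dgF, add_neg_cancel, dgF_zero]

/-- the field automorphism -/
def cj : Equiv.Perm W8 where
  toFun := cjF
  invFun := cjF
  left_inv := cjF_inv
  right_inv := cjF_inv

/-- the permutation of the lines -/
def pp (π : Equiv.Perm (Fin 4)) : Equiv.Perm W8 where
  toFun := ppF π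
  invFun := ppF π.symm
  left_inv := ppF_inv π
  right_inv := fun v => ppF_inv π.symm v

/-- the monomial map, semilinear if `s` -/
def mo (s : Bool) (π : Equiv.Perm (Fin 4)) (a : Ex) : Equiv.Perm W8 :=
  if s then pp π * dg a * cj else pp π * dg a

/-- the sign of a monomial map -/
def sgn (s : Bool) (x : ZMod 3) : ZMod 3 := if s then -x else x

/-- the action on exponents -/
def act (s : Bool) (π : Equiv.Perm (Fin 4)) (b : Ex) : Ex := fun i => sgn s (b (π.symm i))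

theorem dg_GN (a : Ex) : dg a ∈ GN := by
  refine ⟨fun v w => ext_pl fun i => ?_, fun v => ?_, fun _ v => ext_pl fun i => ?_⟩
  · show (dgF a (v + w)).pl i = (dgF a v + dgF a w).pl i
    rw [pl_dgF, pl_add, pl_add, pl_dgF, pl_dgF]
    exact tw_xor (a i) ⟨_, pl_lt v i⟩ ⟨_, pl_lt w i⟩
  · show qe true (dgF a v) = qe true v
    have h : ∀ i : Fin 4, decide ((dgF a v).pl i ≠ 0) = decide (v.pl i ≠ 0) := fun i => by
      rw [pl_dgF]; exact decide_eq_decide.2 (not_congr (tw_props (a i) 0 ⟨_, pl_lt v i⟩).2.2.2.2.1)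
    rw [qe_pl, qe_pl]
    exact congrArg₂ xor (congrArg₂ xor (h 0) (h 1)) (congrArg₂ xor (h 2) (h 3))
  · show (dgF a (W8.sig v)).pl i = (W8.sig (dgF a v)).pl i
    rw [pl_dgF, pl_sig, pl_sig, pl_dgF]
    exact (tw_props (a i) 0 ⟨_, pl_lt v i⟩).2.2.2.1

theorem perm_four : ∀ (π : Equiv.Perm (Fin 4)) (x : Fin 4 → Bool),
    xor (xor (x (π 0)) (x (π 1))) (xor (x (π 2)) (x (π 3))) = xor (xor (x 0) (x 1)) (xor (x 2) (x 3)) := by
  decide +kernel

theorem pp_GN (π : Equiv.Perm (Fin 4)) : pp π ∈ GN := by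
  refine ⟨fun v w => ext_pl fun i => ?_, fun v => ?_, fun _ v => ext_pl fun i => ?_⟩
  · show (ppF π (v + w)).pl i = (ppF π v + ppF π w).pl i
    rw [pl_ppF, pl_add, pl_add, pl_ppF, pl_ppF]
  · show qe true (ppF π v) = qe true v
    have h : ∀ i : Fin 4, decide ((ppF π v).pl i ≠ 0) = decide (v.pl (π.symm i : Fin 4) ≠ 0) := fun i => by
      rw [pl_ppF]
    rw [qe_pl, qe_pl]
    exact (congrArg₂ xor (congrArg₂ xor (h 0) (h 1)) (congrArg₂ xor (h 2) (h 3))).trans
      (perm_four π.symm fun j => decide (v.pl j ≠ 0))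
  · show (ppF π (W8.sig v)).pl i = (W8.sig (ppF π v)).pl i
    rw [pl_ppF, pl_sig, pl_sig, pl_ppF]

theorem cj_add : cj ∈ addPerm := fun v w => ext_pl fun i => by
  show (cjF (v + w)).pl i = (cjF v + cjF w).pl i
  rw [pl_cjF, pl_add, pl_add, pl_cjF, pl_cjF]
  exact (cjp_props ⟨_, pl_lt v i⟩ ⟨_, pl_lt w i⟩).2.2.2.2

theorem cj_semi (v : W8) : cj (W8.sig v) = W8.sig (W8.sig (cj v)) := ext_pl fun i => by
  show (cjF (W8.sig v)).pl i = (W8.sig (W8.sig (cjF v))).pl i
  rw [pl_cjF, pl_sig, pl_sig, pl_sig, pl_cjF]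
  exact (cjp_props ⟨_, pl_lt v i⟩ 0).2.2.1

theorem dg_add (a : Ex) : dg a ∈ addPerm := (dg_GN a).add

theorem pp_add (π : Equiv.Perm (Fin 4)) : pp π ∈ addPerm := (pp_GN π).add

theorem mo_add (s : Bool) (π : Equiv.Perm (Fin 4)) (a : Ex) : mo s π a ∈ addPerm := by
  cases s
  · exact mul_mem (pp_add π) (dg_add a)
  · exact mul_mem (mul_mem (pp_add π) (dg_add a)) cj_add

theorem mo_GN (π : Equiv.Perm (Fin 4)) (a : Ex) : mo false π a ∈ GN := mul_mem (pp_GN π) (dg_GN a)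

theorem dg_mul (a b : Ex) : dg (a + b) = dg a * dg b := Equiv.ext fun v => (dgF_dgF a b v).symm

theorem dg_zero : dg 0 = 1 := Equiv.ext dgF_zero

theorem dg_inv (a : Ex) : (dg a)⁻¹ = dg (-a) :=
  inv_eq_of_mul_eq_one_right (by rw [← dg_mul, add_neg_cancel, dg_zero])

theorem pp_one : pp 1 = 1 := Equiv.ext fun v => ext_pl fun i => pl_ppF 1 v i

theorem mo_false_dg (a : Ex) : mo false 1 a = dg a := by
  show pp 1 * dg a = dg a
  rw [pp_one, one_mul]

theorem pp_dg (π : Equiv.Perm (Fin 4)) (b : Ex) : pp π * dg b = dg (act false π b) * pp π :=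
  Equiv.ext fun v => ext_pl fun i => by
    show (ppF π (dgF b v)).pl i = (dgF (act false π b) (ppF π v)).pl i
    rw [pl_ppF, pl_dgF, pl_dgF, pl_ppF]
    rfl

theorem cj_dg (b : Ex) : cj * dg b = dg (-b) * cj :=
  Equiv.ext fun v => ext_pl fun i => by
    show (cjF (dgF b v)).pl i = (dgF (-b) (cjF v)).pl i
    rw [pl_cjF, pl_dgF, pl_dgF, pl_cjF]
    exact (tw_props (b i) 0 ⟨_, pl_lt v i⟩).2.2.2.2.2.2

theorem act_true (π : Equiv.Perm (Fin 4)) (b : Ex) : act true π b = act false π (-b) := by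
  funext i; simp [act, sgn]

/-- A monomial map moves the diagonal maps by its action on exponents. -/
theorem mo_dg (s : Bool) (π : Equiv.Perm (Fin 4)) (a b : Ex) :
    mo s π a * dg b = dg (act s π b) * mo s π a := by
  have h : ∀ c, pp π * dg a * dg c = dg (act false π c) * (pp π * dg a) := fun c => by
    rw [mul_assoc, ← dg_mul, add_comm, dg_mul, ← mul_assoc, pp_dg, mul_assoc]
  cases s
  · exact h b
  · show pp π * dg a * cj * dg b = dg (act true π b) * (pp π * dg a * cj)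
    rw [act_true, mul_assoc, cj_dg, ← mul_assoc, h, mul_assoc]

theorem mo_dg_conj (s : Bool) (π : Equiv.Perm (Fin 4)) (a b : Ex) :
    mo s π a * dg b * (mo s π a)⁻¹ = dg (act s π b) := by rw [mo_dg, mul_inv_cancel_right]

theorem tw_inj : ∀ k l : ZMod 3, tw k 1 = tw l 1 → k = l := by decide +kernel

theorem dg_injective : Function.Injective dg := fun a b e => funext fun i => tw_inj _ _ (by
  have h := congrArg (fun g : Equiv.Perm W8 => (g (ofPl fun _ => 1)).pl i) e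
  have hp : (ofPl fun _ => 1).pl i = 1 := pl_ofPl (fun _ => by norm_num) i
  simp only [show ∀ c v, (dg c) v = dgF c v from fun _ _ => rfl, pl_dgF, hp] at h
  exact h)

theorem sigP_eq : sigP = dg fun _ => 1 :=
  Equiv.ext fun v => ext_pl fun i => by
    show (W8.sig v).pl i = (dgF (fun _ => 1) v).pl i
    rw [pl_sig, pl_dgF]
    exact (tw_props 0 0 ⟨_, pl_lt v i⟩).2.2.2.2.2.1.symm

theorem dg_pow_three (a : Ex) : dg a ^ 3 = 1 := by
  rw [pow_succ, pow_two, ← dg_mul, ← dg_mul, show a + a + a = 0 from funext fun i => by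
    show a i + a i + a i = 0
    generalize a i = x; revert x; decide, dg_zero]

theorem dg_comm (a b : Ex) : Commute (dg a) (dg b) := by
  rw [Commute, SemiconjBy, ← dg_mul, add_comm, dg_mul]

end Cfsg.Agent.UThreeLocal.Two.Big
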