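import Cfsg.Agent.Lib.UThreeLocal.Two.Big.Lin
import Cfsg.Agent.Lib.UThreeLocal.Two.Big.Dich

/-!
# The centraliser of a pair of reflections lies in the local subgroup
-/

set_option autoImplicit false
set_option linter.unusedSectionVars false
set_option linter.style.haveILetI false

namespace Cfsg.Agent.UThreeLocal.Two.Big

open Subgroup
open Cfsg.Agent.ThreeTransp.U62Cent (W8 GN sigP)
open Cfsg.Agent.ThreeTransp.U62Cent.W8 (qe bb)

universe u

theorem sw_fix : ∀ a : Ex, act false sw a = a → a 0 = a 1 := fun a h => by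
  have := congrFun h 0
  rw [(sw_diff a).1] at this
  exact this.symm

theorem qe_lines : ∀ v : W8, v.pl 2 = 0 → v.pl 3 = 0 → qe true v = true →
    (v.pl 0 ≠ 0 ∧ v.pl 1 = 0) ∨ (v.pl 0 = 0 ∧ v.pl 1 ≠ 0) := by decide +kernel

theorem line_sum : ∀ v : W8, v.pl 2 = 0 → v.pl 3 = 0 → qe true v = true →
    (v + ax 0 = 0 ∨ qe true (v + ax 0) = true) → v.pl 1 = 0 := by decide +kernel

theorem onLine_sum : ∀ v : W8, v.pl 1 = 0 → v.pl 2 = 0 → v.pl 3 = 0 →
    v + ax 0 = 0 ∨ qe true (v + ax 0) = true := by decide +kernel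

/-- a permutation moving the last two lines to given ones -/
theorem perm_pair : ∀ i j : Fin 4, i ≠ j → ∃ π : Equiv.Perm (Fin 4), π 2 = i ∧ π 3 = j := by
  decide +kernel

namespace Cfg

variable {Y : Type u} [Group Y] [Finite Y] (D : Cfg Y)

/-- The centraliser of the pair. -/
def C2 : Subgroup Y := centralizer ({D.el (one 2), D.el (one 3)} : Set Y)

theorem mem_C2 {g : Y} : g ∈ D.C2 ↔ Commute g (D.el (one 2)) ∧ Commute g (D.el (one 3)) := by
  rw [C2, mem_centralizer_iff]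
  constructor
  · exact fun h => ⟨(h _ (Or.inl rfl)).symm, (h _ (Or.inr rfl)).symm⟩
  · rintro ⟨h2, h3⟩ y (rfl | rfl)
    · exact h2.symm.eq
    · exact h3.symm.eq

theorem el_C2 (a : Ex) : D.el a ∈ D.C2 := D.mem_C2.2 ⟨D.el_comm a _, D.el_comm a _⟩

theorem A_le_C2 : D.A ≤ D.C2 := fun x hx => by
  obtain ⟨a, rfl⟩ := D.exists_el hx
  exact D.el_C2 a

theorem C2_mono {n : ↥D.N} (hn : (n : Y) ∈ D.C2) :
    ∃ π a, D.img n = mo false π a ∧ D.img n ∈ GN ∧ (π = 1 ∨ π = sw) := by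
  obtain ⟨h2, h3⟩ := D.mem_C2.1 hn
  obtain ⟨s, π, a, e, hs, -⟩ := D.mono_d0 (n := n) (commute_d0 D h2 h3)
  obtain ⟨rfl, hπ⟩ := pair_types s π (D.act_of_commute e h2) (D.act_of_commute e h3)
  exact ⟨π, a, e, hs.1 rfl, hπ⟩

/-- The subgroup of the pair's centraliser in the local subgroup with diagonal image. -/
def C2d : Subgroup Y := ((D.imgA.comap D.img).map D.N.subtype) ⊓ D.C2

theorem mem_C2d {g : Y} : g ∈ D.C2d ↔ ∃ hg : g ∈ D.N, g ∈ D.C2 ∧ ∃ a, D.img ⟨g, hg⟩ = dg a := by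
  constructor
  · rintro ⟨⟨n, hn, rfl⟩, hC⟩
    obtain ⟨m, hm, e⟩ := D.mem_imgA.1 hn
    obtain ⟨a, ha⟩ := D.diag m hm
    exact ⟨n.2, hC, a, e.symm.trans ha⟩
  · rintro ⟨hg, hC, a, ha⟩
    exact ⟨⟨⟨g, hg⟩, D.mem_imgA.2 ⟨⟨_, D.el_N a⟩, D.el_mem a, (D.img_el a).trans ha.symm⟩, rfl⟩, hC⟩

theorem triple_le {a : Ex} (ha : a 0 ≠ a 1) :
    centralizer ({D.el (one 2), D.el (one 3), D.el a} : Set Y) ≤ D.N := by
  refine D.burnside_le (fun x hx => ?_) fun n hn => ?_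
  · obtain ⟨b, rfl⟩ := D.exists_el hx
    refine mem_centralizer_iff.2 ?_
    rintro y (rfl | rfl | rfl) <;> exact D.el_comm _ _
  · have hc := fun y hy => (mem_centralizer_iff.1 hn y hy)
    obtain ⟨π, c, e, -, rfl | rfl⟩ := D.C2_mono (n := n)
      (D.mem_C2.2 ⟨(hc _ (Or.inl rfl)).symm, (hc _ (Or.inr (Or.inl rfl))).symm⟩)
    · exact ⟨c, e.trans (mo_false_dg c)⟩
    · exact absurd (sw_fix a (D.act_of_commute e (hc _ (Or.inr (Or.inr rfl))).symm)) ha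

theorem dg_swap (a : Ex) : pp sw * dg a * (pp sw)⁻¹ = dg (act false sw a) := pp_conj sw a

set_option maxHeartbeats 800000 in
/-- Every conjugate of the first axis vector in the pair's centraliser lies in the module. -/
theorem pair_axis {g : Y} (hg : g ∈ D.C2) : g * D.lift (ax 0) * g⁻¹ ∈ D.R := by
  classical
  set x0 := D.lift (ax 0) with hx0
  have hx0R : x0 ∈ D.R := D.lift_mem _
  have hre : D.Reach x0 := D.reach_axis hx0R (D.vec_lift _)
  have hx0C : x0 ∈ D.C2 := by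
    have h : ∀ i : Fin 4, i ≠ 0 → Commute (D.el (one i)) x0 := fun i hi => (D.el_fix hx0R).2 (by
      rw [D.vec_lift, dg_fix]
      intro j
      by_cases hj : j = 0
      · exact Or.inl (by subst hj; simp [one, Ne.symm hi])
      · exact Or.inr (by rw [pl_ax, if_neg hj]))
    exact D.mem_C2.2 ⟨(h 2 (by decide)).symm, (h 3 (by decide)).symm⟩
  set C := D.C2 with hC
  set H : Subgroup ↥C := D.N.subgroupOf C with hH
  set H0 : Subgroup ↥C := D.C2d.subgroupOf C with hH0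
  have hle : H0 ≤ H := fun y hy => (D.mem_C2d.1 hy).1
  obtain ⟨w, hw, hwi⟩ := D.mo_lift (D.GN_le (pp_GN sw)) (s := false) (π := sw) (a := 0)
    (by show pp sw = pp sw * dg 0; rw [dg_zero, mul_one])
  have hwe : D.img w = mo false sw 0 := by rw [hwi]; show pp sw = pp sw * dg 0; rw [dg_zero, mul_one]
  have hwC : (w : Y) ∈ C := by
    have h : ∀ i : Fin 4, act false sw (one i) = one i → Commute (w : Y) (D.el (one i)) := fun i hi => by
      have := D.na_act hw hwe (one i)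
      rw [hi] at this
      exact mul_inv_eq_iff_eq_mul.1 this
    exact D.mem_C2.2 ⟨h 2 (by decide +kernel), h 3 (by decide +kernel)⟩
  let u : ↥C := ⟨w, hwC⟩
  choose hN a ha using fun y : ↥H0 => (fun h : _ ∧ _ => h) ⟨(D.mem_C2d.1 y.2).1, (D.mem_C2d.1 y.2).2.2⟩
  have huH0 : u ∉ H0 := fun h => by
    obtain ⟨hh, -, b, hb⟩ := D.mem_C2d.1 h
    have h1 := D.img_conj_el w hwe (one 0)
    rw [map_mul, map_mul, map_inv, show D.img w = dg b from hb, D.img_el, (dg_comm b _).eq,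
      mul_inv_cancel_right] at h1
    exact absurd (congrFun (dg_injective h1) 0) (by decide +kernel)
  have hH' : ∀ h ∈ H, h ∈ H0 ∨ h * u⁻¹ ∈ H0 := by
    intro h hh
    obtain ⟨π, c, e, -, rfl | rfl⟩ := D.C2_mono (n := ⟨(h : Y), hh⟩) h.2
    · exact Or.inl (D.mem_C2d.2 ⟨hh, h.2, c, e.trans (mo_false_dg c)⟩)
    · refine Or.inr (D.mem_C2d.2 ⟨mul_mem hh (inv_mem w.2), (h * u⁻¹).2, act false sw c, ?_⟩)
      show D.img (⟨(h : Y), hh⟩ * w⁻¹) = _
      rw [map_mul, map_inv, e, hwi, ← dg_swap]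
      rfl
  have hnorm : ∀ y ∈ H0, u * y * u⁻¹ ∈ H0 := fun y hy => by
    obtain ⟨hyN', -, b, hb'⟩ := D.mem_C2d.1 hy
    have hyN : (y : Y) ∈ D.N := hyN'
    have hb : D.img ⟨(y : Y), hyN⟩ = dg b := hb'
    refine D.mem_C2d.2 ⟨mul_mem (mul_mem w.2 hyN) (inv_mem w.2), (u * y * u⁻¹).2, act false sw b, ?_⟩
    show D.img (w * ⟨(y : Y), hyN⟩ * w⁻¹) = _
    rw [map_mul, map_mul, map_inv, hwi, hb, dg_swap]
  have haeq : ∀ (y : ↥H0) (h : ((y : ↥C) : Y) ∈ D.N) (b : Ex), D.img ⟨_, h⟩ = dg b → a y = b :=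
    fun y h b hb => dg_injective ((ha y).symm.trans hb)
  let lam : ↥H0 →* Multiplicative (ZMod 3) := MonoidHom.mk' (fun y => Multiplicative.ofAdd (a y 0 - a y 1))
    fun y z => by
      have e : a (y * z) = a y + a z := haeq _ (hN (y * z)) _ (by
        rw [show (⟨(((y * z : ↥H0) : ↥C) : Y), hN (y * z)⟩ : ↥D.N) = ⟨_, hN y⟩ * ⟨_, hN z⟩ from rfl,
          map_mul, ha, ha, dg_mul])
      rw [← ofAdd_add]
      congr 1
      rw [e, Pi.add_apply, Pi.add_apply]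
      ring
  have lam_ne : ∀ y, lam y ≠ 1 ↔ a y 0 ≠ a y 1 := fun y => by
    rw [not_iff_not]
    show Multiplicative.ofAdd (a y 0 - a y 1) = 1 ↔ _
    rw [← ofAdd_zero, Multiplicative.ofAdd.injective.eq_iff, sub_eq_zero]
  have e0H0 : (⟨D.el (one 0), D.el_C2 _⟩ : ↥C) ∈ H0 :=
    D.mem_C2d.2 ⟨D.el_N _, D.el_C2 _, _, D.img_el _⟩
  have hne : ∃ y, lam y ≠ 1 := ⟨⟨_, e0H0⟩, (lam_ne _).2 (by
    rw [haeq ⟨_, e0H0⟩ (D.el_N _) _ (D.img_el _)]; decide +kernel)⟩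
  have hinv : ∀ y : ↥H0, lam ⟨u * y * u⁻¹, hnorm y y.2⟩ = (lam y)⁻¹ := fun y => by
    show Multiplicative.ofAdd (a _ 0 - a _ 1) = (Multiplicative.ofAdd (a y 0 - a y 1))⁻¹
    rw [← ofAdd_neg]
    congr 1
    rw [haeq ⟨u * y * u⁻¹, hnorm y y.2⟩ (mul_mem (mul_mem w.2 (hN y)) (inv_mem w.2)) (act false sw (a y)) (by
      show D.img (w * ⟨_, hN y⟩ * w⁻¹) = _
      rw [map_mul, map_mul, map_inv, hwi, ha, dg_swap]), (sw_diff _).1, (sw_diff _).2]
    ring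
  have hTI : ∀ y : ↥H0, lam y ≠ 1 → ∀ c : ↥C, c * y * c⁻¹ ∈ H → c ∈ H := by
    intro y hy c hc
    set yn : ↥D.N := ⟨_, hN y⟩ with hyn
    have hy6 : ((yn : Y) ^ 4) ^ 3 = 1 := by
      have hR : (yn : Y) ^ 3 ∈ D.R := (D.ker (yn ^ 3)).1 (by rw [map_pow, ha, dg_pow_three])
      rw [← pow_mul, show 4 * 3 = 3 * 4 from rfl, pow_mul]
      have h2 := D.sq hR
      calc ((yn : Y) ^ 3) ^ 4 = ((yn : Y) ^ 3 * (yn : Y) ^ 3) ^ 2 := by group
        _ = 1 := by rw [h2, one_pow]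
    have hy4 : D.img ⟨(yn : Y) ^ 4, pow_mem yn.2 4⟩ = dg (a y) := by
      rw [show (⟨(yn : Y) ^ 4, pow_mem yn.2 4⟩ : ↥D.N) = yn ^ 4 from rfl, map_pow, ha, pow_succ, dg_pow_three,
        one_mul]
    obtain ⟨t, -, hte, htS⟩ := D.to_el (pow_mem yn.2 4) hy6 hy4
    have htC : t ∈ C := htS C (pow_mem (y : ↥C).2 4) (D.el_C2 _)
    set n' : ↥D.N := ⟨_, pow_mem (show (c : Y) * (y : ↥C) * (c : Y)⁻¹ ∈ D.N from hc) 4⟩
    have hn'C : (n' : Y) ∈ C := pow_mem (mul_mem (mul_mem c.2 (y : ↥C).2) (inv_mem c.2)) 4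
    have hn'3 : (n' : Y) ^ 3 = 1 := by
      show (((c : Y) * (y : ↥C) * (c : Y)⁻¹) ^ 4) ^ 3 = 1
      rw [conj_pow, conj_pow, show (((y : ↥C) : Y) ^ 4) ^ 3 = 1 from hy6, mul_one, mul_inv_cancel]
    obtain ⟨π, b, e, -, hπ⟩ := D.C2_mono hn'C
    obtain ⟨t', -, hte', htS'⟩ := D.to_el n'.2 hn'3 (D.cube_one e hπ hn'3)
    have ht'C : t' ∈ C := htS' C hn'C (D.el_C2 _)
    set g' := t' * c * t⁻¹ with hg'
    have hg'C : g' ∈ C := mul_mem (mul_mem ht'C c.2) (inv_mem htC)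
    have hg'a : g' * D.el (a y) * g'⁻¹ = D.el b := by
      rw [← hte, ← hte']
      show _ = t' * ((c : Y) * (y : ↥C) * (c : Y)⁻¹) ^ 4 * t'⁻¹
      rw [conj_pow, hg', hyn]
      group
      rfl
    obtain ⟨hg2, hg3⟩ := D.mem_C2.1 hg'C
    have hfix : ∀ z, Commute g' z → g' * z * g'⁻¹ = z := fun z hz => by rw [hz.eq, mul_inv_cancel_right]
    obtain ⟨n, hn, hnX⟩ := D.fusion_A (X := {D.el (one 2), D.el (one 3), D.el (a y)})
      (by rintro _ (rfl | rfl | rfl) <;> exact D.el_mem _) (g := g')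
      (by
        rintro _ (rfl | rfl | rfl)
        · rw [hfix _ hg2]; exact D.el_mem _
        · rw [hfix _ hg3]; exact D.el_mem _
        · rw [hg'a]; exact D.el_mem _)
    have hmC : n⁻¹ * g' ∈ centralizer ({D.el (one 2), D.el (one 3), D.el (a y)} : Set Y) :=
      mem_centralizer_iff.2 fun z hz => by
        have h := hnX z hz
        calc z * (n⁻¹ * g') = n⁻¹ * (n * z * n⁻¹) * g' := by group
          _ = n⁻¹ * (g' * z * g'⁻¹) * g' := by rw [h]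
          _ = _ := by group
    have hg'N : g' ∈ D.N := by
      simpa using mul_mem (D.hAnorm hn) (D.triple_le ((lam_ne y).1 hy) hmC)
    have htN : t ∈ D.N := htS D.N (pow_mem yn.2 4) (D.el_N _)
    have ht'N : t' ∈ D.N := htS' D.N n'.2 (D.el_N _)
    show (c : Y) ∈ D.N
    rw [show (c : Y) = t'⁻¹ * g' * t by rw [hg']; group]
    exact mul_mem (mul_mem (inv_mem ht'N) hg'N) htN
  obtain ⟨K, hKn, hKx, hKl⟩ := dich hle (u := u) w.2 huH0 hH' hnorm lam hne hinv hTI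
  have hfus : ∀ c : ↥C, c * ⟨x0, hx0C⟩ * c⁻¹ ∈ H → c * ⟨x0, hx0C⟩ * c⁻¹ ∈ H0 := by
    intro c hc
    set j := (c : Y) * x0 * (c : Y)⁻¹ with hjdef
    have hjN : j ∈ D.N := hc
    have hjC : j ∈ C := mul_mem (mul_mem c.2 hx0C) (inv_mem c.2)
    obtain ⟨π, b, e, hG, hπ⟩ := D.C2_mono (n := ⟨j, hjN⟩) hjC
    refine D.mem_C2d.2 ⟨hjN, hjC, ?_⟩
    by_cases hjR : j ∈ D.R
    · exact ⟨0, (D.img_of_R hjR).trans dg_zero.symm⟩
    · exact (D.lin_not_fused hx0R hre hjN hjR rfl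
        (commute_d0 D (D.mem_C2.1 hjC).1 (D.mem_C2.1 hjC).2) hG).elim
  have hKN : ∀ k ∈ K, (k : Y) ∈ D.N := by
    set K' := K.map C.subtype
    have hAK : D.A ≤ normalizer (K' : Set Y) := fun x hx => mem_normalizer_fintype (by
      rintro _ ⟨k, hk, rfl⟩
      have h' := mem_map_of_mem C.subtype (hKn.conj_mem k hk (⟨x, D.A_le_C2 hx⟩ : ↥C))
      simpa only [Subgroup.coe_subtype, Subgroup.coe_mul, Subgroup.coe_inv, SetLike.mem_coe] using h')
    have hKA : K' ⊔ D.A ≤ D.N := by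
      refine D.burnside_le le_sup_right fun n hn => ?_
      rw [← SetLike.mem_coe, coe_mul_of_right_le_normalizer_left _ _ hAK] at hn
      obtain ⟨_, ⟨k, hk, rfl⟩, x, hx, ekx⟩ := hn
      have hkN : (k : Y) ∈ D.N := by
        rw [show (k : Y) = n * x⁻¹ from eq_mul_inv_of_mul_eq ekx]
        exact mul_mem n.2 (inv_mem (D.hAN hx))
      obtain ⟨π, b, e, -, rfl | rfl⟩ := D.C2_mono (n := ⟨(k : Y), hkN⟩) k.2
      · obtain ⟨c, hc⟩ := D.diag ⟨x, D.hAN hx⟩ hx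
        refine ⟨b + c, ?_⟩
        rw [show n = ⟨(k : Y), hkN⟩ * ⟨x, D.hAN hx⟩ from Subtype.ext ekx.symm, map_mul, e, mo_false_dg, hc,
          dg_mul]
      exfalso
      let q : ↥C := k * ⟨_, D.el_C2 (one 0)⟩ * k⁻¹ * ⟨_, D.el_C2 (one 0)⟩⁻¹
      have hqK : q ∈ K := by
        have : q = k * (⟨_, D.el_C2 (one 0)⟩ * k⁻¹ * ⟨_, D.el_C2 (one 0)⟩⁻¹) := by
          show k * _ * k⁻¹ * _ = _
          group
        rw [this]
        exact mul_mem hk (hKn.conj_mem _ (inv_mem hk) _)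
      have hqN : (q : Y) ∈ D.N :=
        mul_mem (mul_mem (mul_mem hkN (D.el_N _)) (inv_mem hkN)) (inv_mem (D.el_N _))
      have hqi : D.img ⟨(q : Y), hqN⟩ = dg (act false sw (one 0) + -one 0) := by
        show D.img (⟨(k : Y), hkN⟩ * ⟨_, D.el_N _⟩ * ⟨(k : Y), hkN⟩⁻¹ * ⟨_, D.el_N (one 0)⟩⁻¹) = _
        rw [map_mul, D.img_conj_el _ e, map_inv, D.img_el, dg_inv, ← dg_mul]
      have hq0 : q ∈ H0 := D.mem_C2d.2 ⟨hqN, q.2, _, hqi⟩
      refine (lam_ne ⟨q, hq0⟩).2 ?_ (hKl ⟨q, hq0⟩ hqK)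
      rw [haeq ⟨q, hq0⟩ hqN _ hqi]
      decide +kernel
    exact fun k hk => hKA (mem_sup_left ⟨k, hk, rfl⟩)
  let gC : ↥C := ⟨g, hg⟩
  have hxK : (⟨x0, hx0C⟩ : ↥C) ∈ K := hKx _ (Subtype.ext (D.sq hx0R)) hfus
  have hj : gC * ⟨x0, hx0C⟩ * gC⁻¹ ∈ K := hKn.conj_mem _ hxK gC
  obtain ⟨hjN, -, b, hb⟩ := D.mem_C2d.1 (hfus gC (hKN _ hj))
  refine (D.ker ⟨_, hjN⟩).1 ?_
  have h2 : dg b * dg b = 1 := by
    rw [← hb, ← map_mul, show (⟨_, hjN⟩ : ↥D.N) * ⟨_, hjN⟩ = 1 from Subtype.ext (by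
      show g * x0 * g⁻¹ * (g * x0 * g⁻¹) = 1
      rw [conj_mul, D.sq hx0R, mul_one, mul_inv_cancel]), map_one]
  rw [hb, dg_sq_one h2, dg_zero]

/-- The centraliser of the pair lies in the local subgroup. -/
theorem C2_le : D.C2 ≤ D.N := by
  intro g hg
  set x0 := D.lift (ax 0) with hx0
  have hx0R : x0 ∈ D.R := D.lift_mem _
  have key : ∀ c ∈ D.C2, c * x0 * c⁻¹ ∈ D.R ∧ (D.vec (c * x0 * c⁻¹)).pl 2 = 0 ∧
      (D.vec (c * x0 * c⁻¹)).pl 3 = 0 ∧ qe true (D.vec (c * x0 * c⁻¹)) = true := by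
    intro c hc
    have hR := D.pair_axis hc
    obtain ⟨h2, h3⟩ := D.mem_C2.1 hc
    have hfix : ∀ i : Fin 4, i ≠ 0 → Commute c (D.el (one i)) → (D.vec (c * x0 * c⁻¹)).pl i = 0 := by
      intro i hi hci
      have h : Commute (D.el (one i)) x0 := (D.el_fix hx0R).2 (by
        rw [D.vec_lift, dg_fix]
        intro j
        by_cases hj : j = 0
        · exact Or.inl (by subst hj; simp [one, Ne.symm hi])
        · exact Or.inr (by rw [pl_ax, if_neg hj]))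
      have h' : Commute (D.el (one i)) (c * x0 * c⁻¹) :=
        ((hci.symm.mul_right h).mul_right hci.symm.inv_right)
      exact (dg_fix.1 ((D.el_fix hR).1 h') i).resolve_left (by simp [one])
    refine ⟨hR, hfix 2 (by decide) h2, hfix 3 (by decide) h3, ?_⟩
    rw [← D.hqe hx0R hR rfl, D.vec_lift, qe_ax]
  -- move the image of the axis back
  obtain ⟨h, hhN, hhC, hhx⟩ : ∃ h ∈ D.N, h ∈ D.C2 ∧ h * x0 * h⁻¹ = g * x0 * g⁻¹ := by
    obtain ⟨hR, h2, h3, hq⟩ := key g hg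
    set v := D.vec (g * x0 * g⁻¹)
    have hv0 : v ≠ 0 := fun e => by
      rw [e, Cfsg.Agent.ThreeTransp.U62Cent.W8.qe_zero] at hq
      exact absurd hq (by decide)
    have mk : ∀ n : ↥D.N, (n : Y) ∈ D.C2 → D.img n (ax 0) = v →
        ∃ h ∈ D.N, h ∈ D.C2 ∧ h * x0 * h⁻¹ = g * x0 * g⁻¹ := fun n hn e =>
      ⟨n, n.2, hn, D.vec_ext (D.conj_R n.2 hx0R) hR (by rw [D.vec_conj n hx0R, D.vec_lift, e])⟩
    rcases qe_lines v h2 h3 hq with ⟨-, h1⟩ | ⟨h0, -⟩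
    · obtain ⟨k, hk⟩ := line_eq (i := 0) (v := v) (fun j hj => by
        fin_cases j
        exacts [absurd rfl hj, h1, h2, h3]) hv0
      exact mk ⟨_, D.el_N _⟩ (D.el_C2 fun _ => k) (by rw [D.img_el]; exact hk.symm)
    · obtain ⟨k, hk⟩ := line_eq (i := 1) (v := v) (fun j hj => by
        fin_cases j
        exacts [h0, absurd rfl hj, h2, h3]) hv0
      obtain ⟨w, hw, hwi⟩ := D.mo_lift (D.GN_le (mo_GN sw 0)) (s := false) (π := sw) (a := 0) rfl
      have hwC : (w : Y) ∈ D.C2 := by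
        have h : ∀ i : Fin 4, act false sw (one i) = one i → Commute (w : Y) (D.el (one i)) := fun i hi => by
          have := D.na_act hw hwi (one i)
          rw [hi] at this
          exact mul_inv_eq_iff_eq_mul.1 this
        exact D.mem_C2.2 ⟨h 2 (by decide +kernel), h 3 (by decide +kernel)⟩
      refine mk (⟨_, D.el_N fun _ => k⟩ * w) (mul_mem (D.el_C2 _) hwC) ?_
      rw [map_mul, Equiv.Perm.mul_apply, D.img_el, hwi, mo_ax, hk]
      congr 1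
  suffices h' : h⁻¹ * g ∈ D.N by simpa using mul_mem hhN h'
  set g' := h⁻¹ * g with hg'
  have hg'C : g' ∈ D.C2 := mul_mem (inv_mem hhC) hg
  have hg'x : g' * x0 * g'⁻¹ = x0 := by
    rw [hg', show h⁻¹ * g * x0 * (h⁻¹ * g)⁻¹ = h⁻¹ * (g * x0 * g⁻¹) * h by group, ← hhx]
    group
  -- the first line is invariant
  set T : Set Y := {r | r ∈ D.R ∧ (D.vec r).pl 1 = 0 ∧ (D.vec r).pl 2 = 0 ∧ (D.vec r).pl 3 = 0} with hT
  have hTinv : ∀ c ∈ D.C2, c * x0 * c⁻¹ = x0 → ∀ r ∈ T, c * r * c⁻¹ ∈ T := by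
    intro c hc hcx r ⟨hr, r1, r2, r3⟩
    by_cases hr0 : D.vec r = 0
    · rw [D.vec_inj hr hr0, mul_one, mul_inv_cancel]
      exact ⟨D.R.one_mem, by rw [D.vec_one]; exact zero_pl 1, by rw [D.vec_one]; exact zero_pl 2,
        by rw [D.vec_one]; exact zero_pl 3⟩
    have hline : OnLine 0 (D.vec r) := fun j hj => by
      fin_cases j
      exacts [absurd rfl hj, r1, r2, r3]
    obtain ⟨k, hk⟩ := line_eq hline hr0
    have e : D.el (fun _ => k) * x0 * (D.el fun _ => k)⁻¹ = r :=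
      D.vec_ext (D.conj_R (D.el_N _) hx0R) hr (by
        rw [D.vec_conj ⟨_, D.el_N _⟩ hx0R, D.vec_lift, D.img_el, hk])
    have e' : c * D.el (fun _ => k) * x0 * (c * D.el fun _ => k)⁻¹ = c * r * c⁻¹ := by rw [← e]; group
    obtain ⟨hR, h2, h3, hq⟩ := key _ (mul_mem hc (D.el_C2 fun _ => k))
    rw [e'] at hR h2 h3 hq
    refine ⟨hR, line_sum _ h2 h3 hq ?_, h2, h3⟩
    have hrx := mul_mem hr hx0R
    have hprod : c * (r * x0) * c⁻¹ = c * r * c⁻¹ * x0 := by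
      conv_rhs => rw [← hcx]
      group
    have hsum : D.vec (c * r * c⁻¹ * x0) = D.vec (c * r * c⁻¹) + ax 0 := by
      rw [D.vec_mul hR hx0R, D.vec_lift]
    rcases onLine_sum _ r1 r2 r3 with h0 | hq'
    · left
      have : r = x0 := D.vec_ext hr hx0R (by
        rw [D.vec_lift]; exact Cfsg.Agent.ThreeTransp.U62Cent.W8.eq_of_add h0)
      rw [this, hcx, D.vec_lift, Cfsg.Agent.ThreeTransp.U62Cent.W8.add_self]
    · right
      rw [← hsum, ← D.hqe hrx (mul_mem hR hx0R) hprod, D.vec_mul hr hx0R, D.vec_lift]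
      exact hq'
  set L := D.C2 ⊓ centralizer T with hL
  have hLN : L ≤ D.N := by
    have hAL : D.A ≤ normalizer (L : Set Y) := fun x hx => mem_normalizer_fintype fun l hl => by
      obtain ⟨b, rfl⟩ := D.exists_el hx
      refine ⟨D.C2.mul_mem (D.C2.mul_mem (D.el_C2 b) hl.1) (D.C2.inv_mem (D.el_C2 b)), mem_centralizer_iff.2 fun r hr => ?_⟩
      have hr' : (D.el b)⁻¹ * r * D.el b ∈ T := by
        obtain ⟨hrR, h1⟩ := hr
        have hR' : (D.el b)⁻¹ * r * D.el b ∈ D.R := by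
          simpa using D.conj_R (inv_mem (D.el_N b)) hrR
        have hv := D.vec_conj (⟨_, D.el_N b⟩⁻¹) hrR
        rw [map_inv, D.img_el, dg_inv] at hv
        simp only [Subgroup.coe_inv, inv_inv] at hv
        refine ⟨hR', ?_⟩
        rw [hv]
        have hpl : ∀ i : Fin 4, (D.vec r).pl i = 0 → (dg (-b) (D.vec r)).pl i = 0 := fun i hi => by
          show (dgF (-b) (D.vec r)).pl i = 0
          rw [pl_dgF, hi, tw_zero]
        exact ⟨hpl 1 h1.1, hpl 2 h1.2.1, hpl 3 h1.2.2⟩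
      have hc := mem_centralizer_iff.1 hl.2 _ hr'
      calc r * (D.el b * l * (D.el b)⁻¹) = D.el b * ((D.el b)⁻¹ * r * D.el b * l) * (D.el b)⁻¹ := by group
        _ = D.el b * (l * ((D.el b)⁻¹ * r * D.el b)) * (D.el b)⁻¹ := by rw [hc]
        _ = _ := by group
    refine le_trans (le_sup_left : L ≤ L ⊔ D.A) (D.burnside_le le_sup_right fun n hn => ?_)
    rw [← SetLike.mem_coe, coe_mul_of_right_le_normalizer_left _ _ hAL] at hn
    obtain ⟨l, hl, x, hx, elx⟩ := hn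
    have hlN : l ∈ D.N := by
      rw [show l = n * x⁻¹ from eq_mul_inv_of_mul_eq elx]
      exact mul_mem n.2 (inv_mem (D.hAN hx))
    obtain ⟨π, b, e, -, hπ⟩ := D.C2_mono (n := ⟨l, hlN⟩) hl.1
    have hxT : x0 ∈ T := ⟨hx0R, by rw [D.vec_lift]; exact pl_ax 0 1, by rw [D.vec_lift]; exact pl_ax 0 2,
      by rw [D.vec_lift]; exact pl_ax 0 3⟩
    have hfix := D.fix_of_commute ⟨l, hlN⟩ hx0R (mem_centralizer_iff.1 hl.2 _ hxT).symm
    rw [D.vec_lift, e] at hfix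
    have hπ0 := (mo_fix hfix).1
    rcases hπ with rfl | rfl
    · obtain ⟨c, hc⟩ := D.diag ⟨x, D.hAN hx⟩ hx
      refine ⟨b + c, ?_⟩
      rw [show n = ⟨l, hlN⟩ * ⟨x, D.hAN hx⟩ from Subtype.ext elx.symm, map_mul, e, mo_false_dg, hc, dg_mul]
    · exact absurd hπ0 (by decide)
  refine D.strong_z ⟨0, Or.inl rfl⟩ (hLN ⟨D.C2.mul_mem (D.C2.mul_mem hg'C (D.el_C2 _)) (D.C2.inv_mem hg'C), ?_⟩)
  refine mem_centralizer_iff.2 fun r hr => ?_
  have hr' : g'⁻¹ * r * g'⁻¹⁻¹ ∈ T := hTinv _ (inv_mem hg'C) (by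
    rw [inv_inv]
    nth_rw 1 [← hg'x]
    group) r hr
  rw [inv_inv] at hr'
  have hz : Commute (D.el (zt 0)) (g'⁻¹ * r * g') := (D.el_fix hr'.1).2 (dg_fix.2 fun j => by
    by_cases hj : j = 0
    · exact Or.inl (by simp [zt, hj])
    · right
      fin_cases j
      exacts [absurd rfl hj, hr'.2.1, hr'.2.2.1, hr'.2.2.2])
  calc r * (g' * D.el (zt 0) * g'⁻¹) = g' * (g'⁻¹ * r * g' * D.el (zt 0)) * g'⁻¹ := by group
    _ = g' * (D.el (zt 0) * (g'⁻¹ * r * g')) * g'⁻¹ := by rw [hz.eq]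
    _ = _ := by group

/-- The centraliser of any two reflections lies in the local subgroup. -/
theorem pair_cent {i j : Fin 4} (hij : i ≠ j) :
    centralizer ({D.el (one i), D.el (one j)} : Set Y) ≤ D.N := by
  obtain ⟨π, hi, hj⟩ := perm_pair i j hij
  obtain ⟨n, hn, hni⟩ := D.mo_lift (D.GN_le (mo_GN π 0)) (s := false) (π := π) (a := 0) rfl
  have hone : ∀ (π : Equiv.Perm (Fin 4)) (k : Fin 4), act false π (one k) = one (π k) := fun π k => by
    funext l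
    show one k (π.symm l) = one (π k) l
    simp [one, Equiv.symm_apply_eq]
  intro c hc
  have hc' := fun y hy => mem_centralizer_iff.1 hc y hy
  have key : ∀ k, D.el (one (π k)) * c = c * D.el (one (π k)) →
      Commute ((n : Y)⁻¹ * c * n) (D.el (one k)) := fun k hk => by
    rw [← hone π k, ← D.na_act hn hni (one k)] at hk
    have := (show Commute ((n : Y) * D.el (one k) * (n : Y)⁻¹) c from hk).symm.map
      (MulAut.conj (n : Y)⁻¹).toMonoidHom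
    simp only [MulEquiv.coe_toMonoidHom, MulAut.conj_apply, inv_inv] at this
    rwa [show (n : Y)⁻¹ * ((n : Y) * D.el (one k) * (n : Y)⁻¹) * n = D.el (one k) by group] at this
  have h := D.C2_le (D.mem_C2.2 ⟨key 2 (hi.symm ▸ hc' _ (Or.inl rfl)), key 3 (hj.symm ▸ hc' _ (Or.inr rfl))⟩)
  have := mul_mem (mul_mem n.2 h) (inv_mem n.2)
  simpa [mul_assoc] using this

/-- Two reflections are fused only by the local subgroup. -/
theorem pair_strong {i j : Fin 4} (hij : i ≠ j) {g : Y} (hi : g * D.el (one i) * g⁻¹ ∈ D.A)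
    (hj : g * D.el (one j) * g⁻¹ ∈ D.A) : g ∈ D.N := by
  obtain ⟨n, hn, hnX⟩ := D.fusion_A (X := {D.el (one i), D.el (one j)})
    (by rintro _ (rfl | rfl) <;> exact D.el_mem _) (g := g) (by rintro _ (rfl | rfl) <;> assumption)
  have h : n⁻¹ * g ∈ centralizer ({D.el (one i), D.el (one j)} : Set Y) :=
    mem_centralizer_iff.2 fun z hz => by
      calc z * (n⁻¹ * g) = n⁻¹ * (n * z * n⁻¹) * g := by group
        _ = n⁻¹ * (g * z * g⁻¹) * g := by rw [hnX z hz]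
        _ = _ := by group
  simpa using mul_mem (D.hAnorm hn) (D.pair_cent hij h)

end Cfg

end Cfsg.Agent.UThreeLocal.Two.Big
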