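import Cfsg.Agent.Lib.UThreeLocal.Two.Big.Basic
import Cfsg.Agent.Lib.UThreeLocal.Two.Closed
import Cfsg.Agent.Lib.Transfer.NormalPComplement

/-!
# Centralisers in the local subgroup and elements of order three commuting with no fused involution
-/

set_option autoImplicit false
set_option linter.unusedSectionVars false
set_option linter.style.haveILetI false

namespace Cfsg.Agent.UThreeLocal.Two.Big

open Subgroup
open Cfsg.Agent.ThreeTransp.U62Cent (W8 GN sigP)
open Cfsg.Agent.ThreeTransp.U62Cent.W8 (qe bb)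

universe u

/-- Exponents fixing exactly one line with equal entries elsewhere. -/
def IsZ (b : Ex) : Prop := ∃ i, b = zt i ∨ b = -zt i

instance (b : Ex) : Decidable (IsZ b) := inferInstanceAs (Decidable (∃ i, _))

/-- Exponents without fixed line, or fixing exactly one line with equal entries elsewhere. -/
def ExA (b : Ex) : Prop := (∀ i, b i ≠ 0) ∨ IsZ b

instance (b : Ex) : Decidable (ExA b) := inferInstanceAs (Decidable ((∀ i, b i ≠ 0) ∨ _))

/-- The maps conjugate to such a diagonal map. -/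
def Excl (d : Equiv.Perm W8) : Prop := ∃ y ∈ GN, ∃ b, ExA b ∧ y * d * y⁻¹ = dg b

namespace Cfg

variable {Y : Type u} [Group Y] [Finite Y] (D : Cfg Y)

theorem pp_conj (π : Equiv.Perm (Fin 4)) (b : Ex) : pp π * dg b * (pp π)⁻¹ = dg (act false π b) := by
  rw [pp_dg, mul_inv_cancel_right]

theorem zt_perm : ∀ i : Fin 4, act false (Equiv.swap 0 i) (zt 0) = zt i := by decide +kernel

/-- The centraliser of an element fixing four vectors with equal entries. -/
theorem cent_z {b : Ex} (hb : IsZ b) : centralizer ({D.el b} : Set Y) ≤ D.N := by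
  obtain ⟨i, hi⟩ := hb
  have key : centralizer ({D.el (zt i)} : Set Y) ≤ D.N := by
    obtain ⟨n, hn, hni⟩ := D.norm_lift (D.GN_le (pp_GN (Equiv.swap 0 i)))
      fun c => ⟨_, pp_conj _ c⟩
    have e : (n : Y) * D.el (zt 0) * (n : Y)⁻¹ = D.el (zt i) := by
      refine D.A_ext ((mem_normalizer_iff.1 hn _).1 (D.el_mem _)) (D.el_mem _) ?_
      show D.img (n * ⟨_, D.el_N _⟩ * n⁻¹) = _
      rw [map_mul, map_mul, map_inv, hni, D.img_el, pp_conj, zt_perm, D.img_el]
    intro c hc
    rw [mem_centralizer_singleton_iff] at hc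
    have h := D.hz ⟨_, D.el_N (zt 0)⟩ (D.el_mem _) (D.img_el _)
      (mem_centralizer_singleton_iff.2 (show (n : Y)⁻¹ * c * n * D.el (zt 0) =
        D.el (zt 0) * ((n : Y)⁻¹ * c * n) by
          rw [show D.el (zt 0) = (n : Y)⁻¹ * D.el (zt i) * n by rw [← e]; group]
          calc (n : Y)⁻¹ * c * n * ((n : Y)⁻¹ * D.el (zt i) * n) = (n : Y)⁻¹ * (c * D.el (zt i)) * n := by group
            _ = (n : Y)⁻¹ * (D.el (zt i) * c) * n := by rw [hc]
            _ = _ := by group))
    have := mul_mem (mul_mem n.2 h) (inv_mem n.2)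
    simpa [mul_assoc] using this
  rcases hi with rfl | rfl
  · exact key
  · refine le_trans (fun c hc => ?_) key
    rw [mem_centralizer_singleton_iff] at hc ⊢
    rw [D.el_neg] at hc
    exact (Commute.inv_right_iff.1 (show Commute c (D.el (zt i))⁻¹ from hc)).eq

/-- An element of the `z`-type is strongly closed. -/
theorem strong_z {b : Ex} (hb : IsZ b) {g : Y} (hg : g * D.el b * g⁻¹ ∈ D.N) : g ∈ D.N := by
  obtain ⟨n, hn, hna⟩ := D.conj_three hg (by rw [conj_pow, D.el_three, mul_one, mul_inv_cancel])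
  obtain ⟨m, hm, hmx⟩ := D.fusion_A (X := {D.el b}) (by simp [D.el_mem]) (g := n * g)
    (by
      intro x hx
      rw [Set.mem_singleton_iff] at hx
      subst hx
      convert hna using 1
      group)
  have e := hmx _ rfl
  have h : m⁻¹ * (n * g) ∈ centralizer ({D.el b} : Set Y) := mem_centralizer_singleton_iff.2 (by
    calc m⁻¹ * (n * g) * D.el b = m⁻¹ * (n * g * D.el b * (n * g)⁻¹) * (n * g) := by group
      _ = m⁻¹ * (m * D.el b * m⁻¹) * (n * g) := by rw [e]
      _ = _ := by group)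
  have := mul_mem (inv_mem hn) (mul_mem (D.hAnorm hm) (D.cent_z hb h))
  simpa [mul_assoc] using this

/-- A three-subgroup containing an element of the `z`-type lies in the local subgroup. -/
theorem z_group {P : Subgroup Y} (hp : IsPGroup 3 ↥P) {b : Ex} (hb : IsZ b) (hbP : D.el b ∈ P) :
    P ≤ D.N := by
  haveI : Fact (Nat.Prime 3) := ⟨Nat.prime_three⟩
  haveI := hp.isNilpotent
  have hL : D.N.subgroupOf P = ⊤ := by
    refine normalizerCondition_iff_only_full_group_self_normalizing.1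
      Group.normalizerCondition_of_isNilpotent _ ?_
    exact le_antisymm (fun x hx => D.strong_z hb
      (((mem_normalizer_iff.1 hx) ⟨_, hbP⟩).1 (D.el_N b))) le_normalizer
  exact subgroupOf_eq_top.1 hL

/-- A subgroup above the elementary group meeting the local subgroup in diagonal elements only lies
in the local subgroup. -/
theorem burnside_le {C : Subgroup Y} (hAC : D.A ≤ C)
    (h : ∀ n : ↥D.N, (n : Y) ∈ C → ∃ a, D.img n = dg a) : C ≤ D.N := by
  haveI : Fact (Nat.Prime 3) := ⟨Nat.prime_three⟩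
  obtain ⟨P, hP⟩ := (D.A_pGroup.of_equiv (subgroupOfEquivOfLe hAC).symm).exists_le_sylow
  set P' := (P : Subgroup ↥C).map C.subtype with hP'
  have hAP : D.A ≤ P' := fun a ha => ⟨⟨a, hAC ha⟩, hP ha, rfl⟩
  have hp' : IsPGroup 3 ↥P' := P.2.map _
  have hPN := D.three_le hp' hAP
  have hPA : P' = D.A := by
    refine le_antisymm (fun x hx => ?_) hAP
    obtain ⟨a, ha⟩ := h ⟨x, hPN hx⟩ (map_subtype_le _ hx)
    have hR : x * (D.el a)⁻¹ ∈ D.R := (D.ker (⟨x, hPN hx⟩ * ⟨_, D.el_N a⟩⁻¹)).1 (by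
      rw [map_mul, map_inv, ha, D.img_el, mul_inv_cancel])
    obtain ⟨k, hk⟩ := (IsPGroup.iff_orderOf.1 hp') ⟨_, mul_mem hx (inv_mem (hAP (D.el_mem a)))⟩
    rw [Subgroup.orderOf_mk] at hk
    have h2 := orderOf_dvd_of_pow_eq_one (show (x * (D.el a)⁻¹) ^ 2 = 1 by rw [pow_two]; exact D.sq hR)
    rw [hk] at h2
    have h1 := orderOf_eq_one_iff.1 (hk.trans (Nat.eq_one_of_dvd_coprimes
      (Nat.Coprime.pow_left k (by norm_num : Nat.Coprime 3 2)) dvd_rfl h2))
    rw [mul_inv_eq_one.1 h1]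
    exact D.el_mem a
  have hPmem : ∀ y : ↥C, y ∈ (P : Subgroup ↥C) ↔ (y : Y) ∈ D.A := fun y => by
    rw [← hPA]
    exact (mem_map_iff_mem C.subtype_injective).symm
  have hNC : normalizer ((P : Subgroup ↥C) : Set ↥C) ≤ centralizer ((P : Subgroup ↥C) : Set ↥C) := by
    intro g hg
    refine mem_centralizer_iff.2 fun y hy => ?_
    obtain ⟨b, hb⟩ := D.exists_el ((hPmem y).1 hy)
    have hgn : (g : Y) ∈ normalizer (D.A : Set Y) := mem_normalizer_fintype fun a ha =>
      (hPmem (g * ⟨a, hAC ha⟩ * g⁻¹)).1 (((mem_normalizer_iff.1 hg) ⟨a, hAC ha⟩).1 ((hPmem _).2 ha))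
    obtain ⟨a, ha⟩ := h ⟨g, D.hAnorm hgn⟩ g.2
    have e : (g : Y) * D.el b * (g : Y)⁻¹ = D.el b := by
      refine D.A_ext ((mem_normalizer_iff.1 hgn _).1 (D.el_mem _)) (D.el_mem _) ?_
      show D.img (⟨(g : Y), D.hAnorm hgn⟩ * ⟨_, D.el_N b⟩ * ⟨(g : Y), D.hAnorm hgn⟩⁻¹) = _
      rw [map_mul, map_mul, map_inv, ha, D.img_el, (dg_comm a b).eq, mul_inv_cancel_right]
    refine Subtype.ext ?_
    show (y : Y) * g = g * y
    rw [hb]
    exact (mul_inv_eq_iff_eq_mul.1 e).symm
  have hcompl := MonoidHom.ker_transferSylow_isComplement' P hNC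
  set K0 := (MonoidHom.transferSylow P hNC).ker
  have hK0n : K0.Normal := MonoidHom.normal_ker _
  have hK : K0.map C.subtype ≤ D.R := by
    refine D.sig _ ?_ ?_
    · rw [← Nat.card_congr (equivMapOfInjective K0 _ C.subtype_injective).toEquiv,
        ← hcompl.index_eq_card]
      exact (Nat.prime_three.coprime_iff_not_dvd.2 P.not_dvd_index).symm
    · intro a ha
      refine mem_normalizer_fintype ?_
      rintro _ ⟨k, hk, rfl⟩
      have hk' := hK0n.conj_mem k hk (⟨a, hAC ha⟩ : ↥C)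
      have h' := mem_map_of_mem C.subtype hk'
      simpa only [Subgroup.coe_subtype, Subgroup.coe_mul, Subgroup.coe_inv, SetLike.mem_coe] using h'
  intro c hc
  obtain ⟨⟨k, p⟩, e⟩ := hcompl.2 ⟨c, hc⟩
  rw [show c = ((k : ↥C) : Y) * (p : ↥C) from (congrArg Subtype.val e).symm]
  exact mul_mem (D.RN (hK ⟨k, k.2, rfl⟩)) (D.hAN ((hPmem _).1 p.2))

/-- An element of order three centralising `x` is conjugate into the local subgroup by the
centraliser of `x`. -/
def Reach (x : Y) : Prop := ∀ d : Y, d ^ 3 = 1 → Commute d x → ∃ c, Commute c x ∧ c * d * c⁻¹ ∈ D.N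

theorem reach_of_sylow {x : Y} (P : Sylow 3 ↥(centralizer ({x} : Set Y)))
    (hP : ∀ y ∈ (P : Subgroup ↥(centralizer ({x} : Set Y))), (y : Y) ∈ D.N) : D.Reach x := by
  haveI : Fact (Nat.Prime 3) := ⟨Nat.prime_three⟩
  intro d h3 hdx
  let d' : ↥(centralizer ({x} : Set Y)) := ⟨d, mem_centralizer_singleton_iff.2 hdx.eq⟩
  obtain ⟨i, -, hi⟩ := (Nat.dvd_prime_pow Nat.prime_three).1
    (show orderOf d' ∣ 3 ^ 1 by rw [pow_one]; exact orderOf_dvd_of_pow_eq_one (Subtype.ext h3))
  obtain ⟨Q, hQ⟩ := (IsPGroup.of_card (n := i) (show Nat.card ↥(zpowers d') = 3 ^ i by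
    rw [Nat.card_zpowers, hi])).exists_le_sylow
  obtain ⟨c, hc⟩ := MulAction.exists_smul_eq ↥(centralizer ({x} : Set Y)) Q P
  refine ⟨c, mem_centralizer_singleton_iff.1 c.2, ?_⟩
  have hm : c * d' * c⁻¹ ∈ ((c • Q : Sylow 3 ↥(centralizer ({x} : Set Y))) : Subgroup ↥(centralizer ({x} : Set Y))) := by
    rw [Sylow.coe_subgroup_smul]
    exact ⟨d', hQ (mem_zpowers _), rfl⟩
  rw [hc] at hm
  exact hP _ hm

theorem reach_conj {x : Y} (h : D.Reach x) {n : Y} (hn : n ∈ D.N) : D.Reach (n * x * n⁻¹) := by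
  intro d h3 hdx
  have hc : Commute (n⁻¹ * d * n) x := by
    have := hdx.map (MulAut.conj n⁻¹).toMonoidHom
    simp only [MulEquiv.coe_toMonoidHom, MulAut.conj_apply, inv_inv] at this
    rwa [show n⁻¹ * (n * x * n⁻¹) * n = x by group] at this
  obtain ⟨c, hcx, hcN⟩ := h (n⁻¹ * d * n) (by
    have := conj_pow (a := n⁻¹) (b := d) (i := 3)
    rw [inv_inv] at this
    rw [this, h3, mul_one, inv_mul_cancel]) hc
  refine ⟨n * c * n⁻¹, hcx.map (MulAut.conj n).toMonoidHom, ?_⟩
  have := mul_mem (mul_mem hn hcN) (inv_mem hn)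
  convert this using 1
  group

theorem reach_axis {x : Y} (hx : x ∈ D.R) (hv : D.vec x = ax 0) : D.Reach x := by
  haveI : Fact (Nat.Prime 3) := ⟨Nat.prime_three⟩
  set C := centralizer ({x} : Set Y) with hC
  have hz : Commute (D.el (zt 0)) x := (D.el_fix hx).2 (by
    rw [hv, dg_fix]
    intro j
    by_cases hj : j = 0
    · exact Or.inl (by simp [zt, hj])
    · exact Or.inr (by rw [pl_ax, if_neg hj]))
  let z' : ↥C := ⟨_, mem_centralizer_singleton_iff.2 hz.eq⟩
  obtain ⟨P, hP⟩ := (IsPGroup.of_card (p := 3) (n := 1) (show Nat.card ↥(zpowers z') = 3 ^ 1 by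
    rw [Nat.card_zpowers, ← Subgroup.orderOf_coe, pow_one]
    exact Frame.orderOf_eq_three (D.el_three _) (D.el_ne (by decide)))).exists_le_sylow
  exact D.reach_of_sylow P fun y hy => D.z_group (P := (P : Subgroup ↥C).map C.subtype) (P.2.map _)
    ⟨0, Or.inl rfl⟩ ⟨z', hP (mem_zpowers _), rfl⟩ ⟨y, hy, rfl⟩

/-- Every nonsingular element of the module is reached. -/
theorem reach_nonsing {x : Y} (hx : x ∈ D.R) (hq : qe true (D.vec x) = true) : D.Reach x := by
  have hx0 : D.vec x ≠ 0 := fun e => by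
    rw [e, Cfsg.Agent.ThreeTransp.U62Cent.W8.qe_zero] at hq
    exact absurd hq (by decide)
  obtain ⟨g, hg, e⟩ := D.himg.trans hx0
  rw [if_pos hq] at e
  obtain ⟨n, hn⟩ := D.himg.le hg
  have h1 := D.reach_axis (D.lift_mem _) (D.vec_lift (ax 0))
  have e' : (n : Y) * D.lift (ax 0) * (n : Y)⁻¹ = x := D.vec_ext (D.conj_R n.2 (D.lift_mem _)) hx (by
    rw [D.vec_conj n (D.lift_mem _), D.vec_lift, hn]
    exact e)
  exact e' ▸ D.reach_conj h1 n.2

theorem act_nonzero : ∀ (s : Bool) (π : Equiv.Perm (Fin 4)) (b : Ex), (∀ i, b i ≠ 0) →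
    ∀ i, act s π b i ≠ 0 := fun s π b hb i => by
  cases s <;> simp [act, sgn, hb]

theorem excl_el {x u g : Y} (hx : x ∈ D.R) (hre : D.Reach x) (huR : u ∉ D.R) (he : g * x * g⁻¹ = u)
    {b : Ex} (hb : ExA b) : ¬ Commute (D.el b) u := by
  intro hc
  have hdx : Commute (g⁻¹ * D.el b * g) x := by
    have := hc.map (MulAut.conj g⁻¹).toMonoidHom
    simp only [MulEquiv.coe_toMonoidHom, MulAut.conj_apply, inv_inv] at this
    rwa [show g⁻¹ * u * g = x by rw [← he]; group] at this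
  obtain ⟨c, hcx, hcN⟩ := hre _ (by
    have := conj_pow (a := g⁻¹) (b := D.el b) (i := 3)
    rw [inv_inv] at this
    rw [this, D.el_three, mul_one, inv_mul_cancel]) hdx
  set h := c * g⁻¹ with hh
  have hd : h * D.el b * h⁻¹ ∈ D.N := by
    convert hcN using 1
    rw [hh]; group
  have hhu : h * u * h⁻¹ = x := by
    rw [hh, ← he, show c * g⁻¹ * (g * x * g⁻¹) * (c * g⁻¹)⁻¹ = c * x * c⁻¹ by group, hcx.eq,
      mul_inv_cancel_right]
  rcases hb with hb | hb
  · obtain ⟨n, hn, hna⟩ := D.conj_three hd (by rw [conj_pow, D.el_three, mul_one, mul_inv_cancel])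
    obtain ⟨m, hm, hmx⟩ := D.fusion_A (X := {D.el b}) (by simp [D.el_mem]) (g := n * h)
      (by
        intro y hy
        rw [Set.mem_singleton_iff] at hy
        subst hy
        convert hna using 1
        group)
    obtain ⟨s, π, a, -, -, hma⟩ := D.na_mono hm
    have hxn : n * x * n⁻¹ ∈ D.R := D.conj_R hn hx
    have hcomm : Commute (D.el (act s π b)) (n * x * n⁻¹) := by
      rw [← hma, hmx _ rfl, ← hhu, show n * (h * u * h⁻¹) * n⁻¹ = n * h * u * (n * h)⁻¹ by group]
      exact hc.map (MulAut.conj (n * h)).toMonoidHom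
    have h1 := D.fpf_eq_one (act_nonzero s π b hb) hxn hcomm
    rw [conj_eq_one_iff] at h1
    exact huR (by rw [← he, h1, mul_one, mul_inv_cancel]; exact one_mem _)
  · have hhN := D.strong_z hb hd
    refine huR ?_
    have := D.conj_R (inv_mem hhN) hx
    rwa [← hhu, inv_inv, show h⁻¹ * (h * u * h⁻¹) * h = u by group] at this

/-- An element of order three of the excluded kind commutes with no element fused into the local
subgroup from the module. -/
theorem excl_rule {x u g : Y} (hx : x ∈ D.R) (hre : D.Reach x) (hu : u ∈ D.N) (huR : u ∉ D.R)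
    (he : g * x * g⁻¹ = u) (n : ↥D.N) (hX : Excl (D.img n)) (h3 : (n : Y) ^ 3 = 1) :
    ¬ Commute (n : Y) u := by
  intro hc
  obtain ⟨y, hy, b, hb, e⟩ := hX
  obtain ⟨m, hm⟩ := D.GN_le hy
  obtain ⟨t, ht, hte, -⟩ := D.to_el (d := (m : Y) * n * (m : Y)⁻¹)
    (mul_mem (mul_mem m.2 n.2) (inv_mem m.2)) (by rw [conj_pow, h3, mul_one, mul_inv_cancel])
    (show D.img (m * n * m⁻¹) = dg b by rw [map_mul, map_mul, map_inv, hm, e])
  set q := t * m with hq
  have hqN : q ∈ D.N := mul_mem (D.RN ht) m.2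
  refine D.excl_el hx hre (u := q * u * q⁻¹) (g := q * g)
    (fun h => huR ?_) (by rw [← he]; group) hb ?_
  · have := D.conj_R (inv_mem hqN) h
    rwa [inv_inv, show q⁻¹ * (q * u * q⁻¹) * q = u by group] at this
  · rw [← hte, show t * ((m : Y) * n * (m : Y)⁻¹) * t⁻¹ = q * n * q⁻¹ by rw [hq]; group]
    exact hc.map (MulAut.conj q).toMonoidHom

/-- A fused element with full commutator space commutes with no map of the excluded kind. -/
theorem excl_im {x u g : Y} (hx : x ∈ D.R) (hre : D.Reach x) (hu : u ∈ D.N) (huR : u ∉ D.R)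
    (he : g * x * g⁻¹ = u) (him : ∀ v, D.img ⟨u, hu⟩ v = v → ∃ w, D.img ⟨u, hu⟩ w + w = v)
    {d : Equiv.Perm W8} (hd : d ∈ D.img.range) (hX : Excl d) (h3 : d ^ 3 = 1) (h1 : d ≠ 1) :
    ¬ Commute d (D.img ⟨u, hu⟩) := by
  intro hc
  have h2 : u * u = 1 := by rw [← he, conj_mul, D.sq hx, mul_one, mul_inv_cancel]
  obtain ⟨s, n, hs, hus, hn, hn3, -, hns⟩ := D.exists_translate hu h2 rfl hd h3 h1 hc
  obtain ⟨w, hw⟩ := him (D.vec s) (D.fix_of_commute ⟨u, hu⟩ hs hus)
  have hW := D.lift_mem w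
  have e : D.lift w * u * (D.lift w)⁻¹ = u * s := D.conj_translate hu hW hs (by
    rw [D.vec_lift, ← hw]
    congr 2
    exact congrArg D.img (Subtype.ext (inv_eq_of_mul_eq_one_right h2).symm))
  refine D.excl_rule hx hre (u := u * s) (g := D.lift w * g) (mul_mem hu (D.RN hs))
    (fun h => huR (by simpa using mul_mem h (inv_mem hs))) ?_ n (hn ▸ hX) hn3 hns
  rw [← e, ← he]; group

end Cfg

end Cfsg.Agent.UThreeLocal.Two.Big
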