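import Cfsg.Agent.Lib.UThreeLocal.Two.Big.Smith

/-!
# Only transvections are fused from the module
-/

set_option autoImplicit false
set_option linter.unusedSectionVars false
set_option linter.style.haveILetI false

namespace Cfsg.Agent.UThreeLocal.Two.Big

open Subgroup
open Cfsg.Agent.ThreeTransp.U62Cent (W8 GN sigP)
open Cfsg.Agent.ThreeTransp.U62Cent.W8 (qe bb)

universe u

/-- exponents without fixed line commuting with the double transposition -/
def cEx : Ex := ![1, 2, 1, 2]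

theorem cEx_fix : act true (sw * sw') cEx = cEx ∧ ∀ i, cEx i ≠ 0 := by decide +kernel

theorem sw_comm : sw * sw' = sw' * sw ∧ sw' * sw' = 1 ∧ (∀ b, act true sw' (act true sw' b) = b) ∧
    act false sw d0 = d0 ∧ act true sw' d0 = d0 := by decide +kernel

theorem conj_ex : ∀ a : Ex, a 2 = a 3 →
    act true sw' ![-a 0, -a 1, a 2, 0] - ![-a 0, -a 1, a 2, 0] = -a := by decide +kernel

theorem three_types : ∀ a : Ex, a 0 + a 1 + a 2 + a 3 = 0 →
    a = 0 ∨ ExA a ∨ ∃ π : Equiv.Perm (Fin 4), act false π a = d0 := by decide +kernel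

theorem cjp_half : ∀ p : Fin 4, cjp p.val = p.val → cjp (Cfsg.Agent.ThreeTransp.U62Cent.W8.rot p.val) ^^^
    Cfsg.Agent.ThreeTransp.U62Cent.W8.rot p.val = p.val := by decide +kernel

theorem mo_true_eq (π : Equiv.Perm (Fin 4)) (a : Ex) : mo true π a = mo true π 0 * dg (-a) := by
  show pp π * dg a * cj = pp π * dg 0 * cj * dg (-a)
  rw [dg_zero, mul_one, mul_assoc, mul_assoc, cj_dg, neg_neg]

namespace Cfg

variable {Y : Type u} [Group Y] [Finite Y] (D : Cfg Y)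

/-- An element of the local subgroup outside the module fused into the module. -/
def Fusd (u : Y) : Prop := u ∈ D.N ∧ u ∉ D.R ∧ ∃ x ∈ D.R, ∃ g : Y, g * x * g⁻¹ = u

theorem fusd_two {u : Y} (h : D.Fusd u) : u * u = 1 := by
  obtain ⟨-, -, x, hx, g, rfl⟩ := h
  rw [conj_mul, D.sq hx, mul_one, mul_inv_cancel]

theorem fusd_conj {u q : Y} (h : D.Fusd u) (hq : q ∈ D.N) : D.Fusd (q * u * q⁻¹) := by
  obtain ⟨hu, huR, x, hx, g, he⟩ := h
  refine ⟨mul_mem (mul_mem hq hu) (inv_mem hq), fun h' => huR ?_, x, hx, q * g, by rw [← he]; group⟩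
  have := D.conj_R (inv_mem hq) h'
  rwa [inv_inv, show q⁻¹ * (q * u * q⁻¹) * q = u by group] at this

theorem fusd_im {u : Y} (h : D.Fusd u) (hG : D.img ⟨u, h.1⟩ ∉ GN) :
    (∃ d ∈ D.I, d ^ 3 = 1 ∧ d ≠ 1 ∧ Commute d (D.img ⟨u, h.1⟩)) ∧
      ∀ v, D.img ⟨u, h.1⟩ v = v → ∃ w, D.img ⟨u, h.1⟩ w + w = v := by
  rcases D.himg.inv_cases (D.img_mem ⟨u, h.1⟩) (by
      rw [← map_mul, show (⟨u, h.1⟩ : ↥D.N) * ⟨u, h.1⟩ = 1 from Subtype.ext (D.fusd_two h), map_one])
      (fun e => hG (by rw [e]; exact one_mem _)) with ⟨htI, -⟩ | h'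
  · exact absurd (D.himg.inat.le htI) hG
  · exact h'

/-- A fused semilinear element commuting with the pair element swaps the last two lines only. -/
theorem semi_cd {u : Y} (h : D.Fusd u) (hd : Commute u (D.el d0)) (hG : D.img ⟨u, h.1⟩ ∉ GN) :
    ∃ a, D.img ⟨u, h.1⟩ = mo true sw' a := by
  obtain ⟨s, π, a, e, hs, hact⟩ := D.mono_d0 (n := ⟨u, h.1⟩) hd
  rcases d_types s π hact with ⟨rfl, -⟩ | ⟨rfl, rfl | rfl⟩
  · exact absurd (hs.1 rfl) hG
  · exact ⟨a, e⟩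
  exfalso
  obtain ⟨hu, huR, x, hx, g, he⟩ := h
  refine D.excl_im hx (D.reach hx (D.ne_one_of_fused huR he)) hu huR he (D.fusd_im ⟨hu, huR, x, hx, g, he⟩ hG).2
    (D.dg_range cEx) ⟨1, one_mem _, cEx, Or.inl cEx_fix.2, by rw [one_mul, inv_one, mul_one]⟩
    (dg_pow_three _) (fun e' => ?_) ?_
  · exact cEx_fix.2 0 (congrFun (dg_injective (e'.trans dg_zero.symm)) 0)
  · rw [e, Commute, SemiconjBy, mo_dg, cEx_fix.1]

/-- Such an element is conjugate to the standard one. -/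
theorem norm_U0 {u : Y} (hu : u ∈ D.N) (h2 : u * u = 1) (hd : Commute u (D.el d0)) {a : Ex}
    (e : D.img ⟨u, hu⟩ = mo true sw' a) :
    ∃ U : ↥D.N, (U : Y) ∈ normalizer (D.A : Set Y) ∧ D.img U = mo true sw' 0 ∧
      ∃ q ∈ D.N, Commute q (D.el d0) ∧ q * u * q⁻¹ = U := by
  set M := mo true sw' a with hM
  have hsq : M * M = 1 := by
    rw [← e, ← map_mul, show (⟨u, hu⟩ : ↥D.N) * ⟨u, hu⟩ = 1 from Subtype.ext h2, map_one]
  have ha : a 2 = a 3 := by
    have h := congrArg (fun g : Equiv.Perm W8 => g (ax 2)) hsq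
    simp only [Equiv.Perm.mul_apply, Equiv.Perm.one_apply] at h
    rw [hM, mo_ax, ← Equiv.Perm.mul_apply, mo_dg, Equiv.Perm.mul_apply,
      show sw' 2 = 3 from Equiv.swap_apply_left 2 3, mo_ax,
      show sw' 3 = 2 from Equiv.swap_apply_right 2 3, ← Equiv.Perm.mul_apply, ← dg_mul] at h
    have h' := (dg_fix.1 h 2).resolve_right (by decide +kernel)
    simp only [Pi.add_apply, act, sgn, if_true] at h'
    exact eq_of_sub_eq_zero (by linear_combination -h')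
  set b : Ex := ![-a 0, -a 1, a 2, 0] with hb
  have hU : dg (-b) * M * (dg (-b))⁻¹ = mo true sw' 0 := by
    have h := mo_dg true sw' 0 (act true sw' b)
    rw [sw_comm.2.2.1] at h
    have hM' : M = dg b * mo true sw' 0 * dg (-b) := by
      rw [← h, mul_assoc, ← dg_mul, hM, mo_true_eq, ← sub_eq_add_neg, conj_ex a ha]
    rw [hM', dg_inv, neg_neg]
    simp only [← mul_assoc]
    rw [← dg_mul, neg_add_cancel, dg_zero, one_mul, mul_assoc, ← dg_mul, neg_add_cancel, dg_zero, mul_one]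
  set u1 := D.el (-b) * u * (D.el (-b))⁻¹ with hu1
  have hu1N : u1 ∈ D.N := mul_mem (mul_mem (D.el_N _) hu) (inv_mem (D.el_N _))
  have hu1i : D.img ⟨u1, hu1N⟩ = mo true sw' 0 := by
    show D.img (⟨_, D.el_N _⟩ * ⟨u, hu⟩ * ⟨_, D.el_N (-b)⟩⁻¹) = _
    rw [map_mul, map_mul, map_inv, e, D.img_el, hU]
  obtain ⟨U, hUn, hUi⟩ := D.mo_lift (D.img_mem ⟨u1, hu1N⟩) hu1i
  replace hUi : D.img U = mo true sw' 0 := hUi.trans hu1i
  have hsqU : D.img U * D.img U = 1 := by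
    have h11 : D.img ⟨u1, hu1N⟩ * D.img ⟨u1, hu1N⟩ = 1 := by
      rw [← map_mul, show (⟨u1, hu1N⟩ : ↥D.N) * ⟨u1, hu1N⟩ = 1 from Subtype.ext (by
        show u1 * u1 = 1
        rw [hu1, conj_mul, h2, mul_one, mul_inv_cancel]), map_one]
    rw [hUi, ← hu1i]; exact h11
  have hU2 : (U : Y) * U = 1 := D.na_eq_one (n := U * U) (mul_mem hUn hUn) (by rw [map_mul, hsqU])
  have hUd : Commute (U : Y) (D.el d0) := by
    have h := D.na_act hUn hUi d0
    rw [sw_comm.2.2.2.2] at h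
    exact mul_inv_eq_iff_eq_mul.1 h
  set r := u1 * (U : Y) with hr'
  have hr : r ∈ D.R := (D.ker (⟨u1, hu1N⟩ * U)).1 (by rw [map_mul, hu1i, ← hUi, hsqU])
  have hu1r : u1 = r * U := by rw [hr', mul_assoc, hU2, mul_one]
  have hu1d : Commute u1 (D.el d0) :=
    ((D.el_comm (-b) d0).mul_left hd).mul_left (D.el_comm (-b) d0).inv_left
  have hrd : Commute (D.el d0) r := hu1d.symm.mul_right hUd.symm
  have hrU : Commute (U : Y) r := by
    have h : r * (U : Y) * (r * U) = 1 := by rw [← hu1r, hu1, conj_mul, h2, mul_one, mul_inv_cancel]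
    have h' : (U : Y) * r * U = r := by
      calc (U : Y) * r * U = r⁻¹ * (r * (U : Y) * (r * U)) := by group
        _ = r := by rw [h, mul_one, D.inv_eq hr]
    calc (U : Y) * r = (U : Y) * r * ((U : Y) * U) := by rw [hU2, mul_one]
      _ = (U : Y) * r * U * U := by group
      _ = r * U := by rw [h']
  set v := D.vec r
  have hv : dg d0 v = v := (D.el_fix hr).1 hrd
  have hv2 := (dg_fix.1 hv 2).resolve_left (by decide)
  have hv3 := (dg_fix.1 hv 3).resolve_left (by decide)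
  have hMv : mo true sw' 0 v = v := by rw [← hUi]; exact D.fix_of_commute U hr hrU
  set w : W8 := ofPl ![Cfsg.Agent.ThreeTransp.U62Cent.W8.rot (v.pl 0),
    Cfsg.Agent.ThreeTransp.U62Cent.W8.rot (v.pl 1), 0, 0] with hw
  have hrot : ∀ p : Fin 4, Cfsg.Agent.ThreeTransp.U62Cent.W8.rot p.val < 4 := by decide +kernel
  have hwl : ∀ i, ![Cfsg.Agent.ThreeTransp.U62Cent.W8.rot (v.pl 0),
      Cfsg.Agent.ThreeTransp.U62Cent.W8.rot (v.pl 1), 0, 0] i < 4 := fun i => by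
    fin_cases i
    exacts [hrot ⟨_, pl_lt v 0⟩, hrot ⟨_, pl_lt v 1⟩, by norm_num, by norm_num]
  have hUw : mo true sw' 0 w + w = v := by
    refine ext_pl fun i => ?_
    rw [pl_add, mo_pl, hw, pl_ofPl hwl, pl_ofPl hwl]
    have h1 := congrArg (fun z : W8 => z.pl i) hMv
    simp only [mo_pl] at h1
    have htw : ∀ p : ℕ, tw 0 p = p := fun p => by simp [tw]
    fin_cases i
    · simp [sw', Equiv.swap_apply_def, htw] at h1 ⊢
      exact cjp_half ⟨_, pl_lt v 0⟩ h1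
    · simp [sw', Equiv.swap_apply_def, htw] at h1 ⊢
      exact cjp_half ⟨_, pl_lt v 1⟩ h1
    · simp [sw', Equiv.swap_apply_def, htw, cjp]; exact hv2.symm
    · simp [sw', Equiv.swap_apply_def, htw, cjp]; exact hv3.symm
  set t := D.lift w
  have ht : t ∈ D.R := D.lift_mem w
  have htd : Commute t (D.el d0) := ((D.el_fix ht).2 (by
    rw [D.vec_lift, dg_fix]
    intro j
    fin_cases j
    · exact Or.inl rfl
    · exact Or.inl rfl
    · exact Or.inr (pl_ofPl hwl 2)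
    · exact Or.inr (pl_ofPl hwl 3))).symm
  have hUi' : (U : Y)⁻¹ = U := inv_eq_of_mul_eq_one_right hU2
  have e1 : t * (U : Y) * t⁻¹ = (U : Y) * r := D.conj_translate U.2 ht hr (by
    rw [D.vec_lift, show (⟨(U : Y)⁻¹, inv_mem U.2⟩ : ↥D.N) = U from Subtype.ext hUi', hUi, hUw])
  refine ⟨U, hUn, hUi, t⁻¹ * D.el (-b), mul_mem (inv_mem (D.RN ht)) (D.el_N _),
    htd.inv_left.mul_left (D.el_comm _ _), ?_⟩
  have e2 : t * (U : Y) * t⁻¹ = u1 := by rw [e1, hrU.eq, hu1r]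
  rw [show t⁻¹ * D.el (-b) * u * (t⁻¹ * D.el (-b))⁻¹ = t⁻¹ * u1 * t by rw [hu1]; group, ← e2]
  group

theorem d_lines {x : Y} (hx : x ∈ D.R) (hc : Commute (D.el d0) x) :
    (D.vec x).pl 2 = 0 ∧ (D.vec x).pl 3 = 0 :=
  ⟨(dg_fix.1 ((D.el_fix hx).1 hc) (2 : Fin 4)).resolve_left (by decide),
    (dg_fix.1 ((D.el_fix hx).1 hc) (3 : Fin 4)).resolve_left (by decide)⟩

/-- The nonsingular elements centralising the pair element are conjugate to the axis. -/
theorem to_axis {x : Y} (hx : x ∈ D.R) (hc : Commute (D.el d0) x) (hq : qe true (D.vec x) = true) :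
    ∃ h ∈ D.N, Commute h (D.el d0) ∧ h * D.lift (ax 0) * h⁻¹ = x := by
  set v := D.vec x with hv
  obtain ⟨h2, h3⟩ := D.d_lines hx hc
  have hv0 : v ≠ 0 := fun e => by
    rw [e, Cfsg.Agent.ThreeTransp.U62Cent.W8.qe_zero] at hq
    exact absurd hq (by decide)
  have mk : ∀ n : ↥D.N, Commute (n : Y) (D.el d0) → D.img n (ax 0) = v →
      ∃ h ∈ D.N, Commute h (D.el d0) ∧ h * D.lift (ax 0) * h⁻¹ = x := fun n hn e =>
    ⟨n, n.2, hn, D.vec_ext (D.conj_R n.2 (D.lift_mem _)) hx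
      (by rw [D.vec_conj n (D.lift_mem _), D.vec_lift, e])⟩
  rcases qe_lines v h2 h3 hq with ⟨-, h1⟩ | ⟨h0, -⟩
  · obtain ⟨k, hk⟩ := line_eq (i := 0) (v := v) (fun j hj => by
      fin_cases j
      exacts [absurd rfl hj, h1, h2, h3]) hv0
    exact mk ⟨_, D.el_N _⟩ (D.el_comm (fun _ => k) d0) (by rw [D.img_el]; exact hk.symm)
  · obtain ⟨k, hk⟩ := line_eq (i := 1) (v := v) (fun j hj => by
      fin_cases j
      exacts [h0, absurd rfl hj, h2, h3]) hv0
    obtain ⟨w, hw, hwi⟩ := D.mo_lift (D.GN_le (mo_GN sw 0)) (s := false) (π := sw) (a := 0) rfl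
    have hwd : Commute (w : Y) (D.el d0) := by
      have := D.na_act hw hwi d0
      rw [sw_comm.2.2.2.1] at this
      exact mul_inv_eq_iff_eq_mul.1 this
    refine mk (⟨_, D.el_N fun _ => k⟩ * w) ((D.el_comm _ _).mul_left hwd) ?_
    rw [map_mul, Equiv.Perm.mul_apply, D.img_el, hwi, mo_ax, hk]
    congr 1

set_option maxHeartbeats 800000 in
/-- The standard semilinear involution is not fused from the module. -/
theorem U0_not_fused {U : ↥D.N} (hUn : (U : Y) ∈ normalizer (D.A : Set Y))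
    (hUi : D.img U = mo true sw' 0) : ¬ D.Fusd (U : Y) := by
  rintro ⟨-, hUR, x, hx, g, he⟩
  haveI : Fact (Nat.Prime 2) := ⟨Nat.prime_two⟩
  have hUG : D.img U ∉ GN := fun hG => by
    have h := hG.sig rfl (ax 0)
    rw [hUi, mo_sig, if_pos rfl, mo_ax] at h
    have hdec : dgF (fun _ => (0 : Ex) 0) (ax (sw' 0)) |> fun v =>
        W8.sig (W8.sig v) ≠ W8.sig v := by decide +kernel
    exact hdec h
  have hU2 : (U : Y) * U = 1 := by rw [← he, conj_mul, D.sq hx, mul_one, mul_inv_cancel]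
  have hUd : Commute (U : Y) (D.el d0) := by
    have h := D.na_act hUn hUi d0
    rw [sw_comm.2.2.2.2] at h
    exact mul_inv_eq_iff_eq_mul.1 h
  -- move it into the module by the centraliser of the pair element
  obtain ⟨k, x', hkd, hx', hkU⟩ : ∃ k x', Commute k (D.el d0) ∧ x' ∈ D.R ∧ k * (U : Y) * k⁻¹ = x' := by
    have hdx : Commute (g⁻¹ * D.el d0 * g) x := by
      have := hUd.symm.map (MulAut.conj g⁻¹).toMonoidHom
      simp only [MulEquiv.coe_toMonoidHom, MulAut.conj_apply, inv_inv] at this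
      rwa [show g⁻¹ * (U : Y) * g = x by rw [← he]; group] at this
    obtain ⟨c, hcx, hcN⟩ := D.reach hx (D.ne_one_of_fused hUR he) _ (by
      have := conj_pow (a := g⁻¹) (b := D.el d0) (i := 3)
      rw [inv_inv] at this
      rw [this, D.el_three, mul_one, inv_mul_cancel]) hdx
    obtain ⟨n, hn, hna⟩ := D.conj_three hcN (by
      rw [conj_pow, show (g⁻¹ * D.el d0 * g) ^ 3 = 1 by
        have := conj_pow (a := g⁻¹) (b := D.el d0) (i := 3)
        rw [inv_inv] at this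
        rw [this, D.el_three, mul_one, inv_mul_cancel], mul_one, mul_inv_cancel])
    obtain ⟨m, hm, hmx⟩ := D.fusion_A (X := {D.el d0}) (by simp [D.el_mem]) (g := n * c * g⁻¹)
      (by
        intro y hy
        rw [Set.mem_singleton_iff] at hy
        subst hy
        convert hna using 1
        group)
    refine ⟨m⁻¹ * (n * c * g⁻¹), m⁻¹ * n * x * (m⁻¹ * n)⁻¹, ?_,
      D.conj_R (mul_mem (inv_mem (D.hAnorm hm)) hn) hx, ?_⟩
    · have e := hmx _ rfl
      calc m⁻¹ * (n * c * g⁻¹) * D.el d0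
          = m⁻¹ * (n * c * g⁻¹ * D.el d0 * (n * c * g⁻¹)⁻¹) * (n * c * g⁻¹) := by group
        _ = m⁻¹ * (m * D.el d0 * m⁻¹) * (n * c * g⁻¹) := by rw [e]
        _ = _ := by group
    · rw [← he]
      calc m⁻¹ * (n * c * g⁻¹) * (g * x * g⁻¹) * (m⁻¹ * (n * c * g⁻¹))⁻¹
          = m⁻¹ * n * (c * x * c⁻¹) * (m⁻¹ * n)⁻¹ := by group
        _ = _ := by rw [hcx.eq, mul_inv_cancel_right]
  have hx'd : Commute (D.el d0) x' := by
    rw [← hkU]
    exact (hkd.symm.mul_right hUd.symm).mul_right hkd.symm.inv_right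
  have hx'1 : x' ≠ 1 := fun e => hUR (by
    have : (U : Y) = k⁻¹ * x' * k := by rw [← hkU]; group
    rw [this, e, mul_one, inv_mul_cancel]; exact one_mem _)
  set x1 := D.lift (ax 0) with hx1
  have hx1R : x1 ∈ D.R := D.lift_mem _
  have hx1d : Commute (D.el d0) x1 := (D.el_fix hx1R).2 (by
    rw [D.vec_lift, dg_fix]
    intro j
    by_cases hj : j = 0
    · exact Or.inl (hj ▸ rfl)
    · exact Or.inr (by rw [pl_ax, if_neg hj]))
  obtain ⟨w, hw, hwi⟩ := D.mo_lift (D.GN_le (mo_GN sw 0)) (s := false) (π := sw) (a := 0) rfl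
  have hwd : Commute (w : Y) (D.el d0) := by
    have := D.na_act hw hwi d0
    rw [sw_comm.2.2.2.1] at this
    exact mul_inv_eq_iff_eq_mul.1 this
  have hwR : (w : Y) ∉ D.R := fun h => by
    have := D.na_eq_one hw ((D.ker w).2 h)
    have h' := congrArg (fun z : Equiv.Perm W8 => z (ax 0)) hwi
    rw [show w = 1 from Subtype.ext this, map_one] at h'
    simp only [Equiv.Perm.one_apply, mo_ax] at h'
    exact absurd h' (by decide +kernel)
  have hw2 : (w : Y) * w = 1 := D.na_eq_one (n := w * w) (mul_mem hw hw) (by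
    rw [map_mul, hwi]
    show pp sw * dg 0 * (pp sw * dg 0) = 1
    rw [dg_zero, mul_one, pp_mul, show sw * sw = 1 by decide, pp_one])
  have hwU : Commute (w : Y) (U : Y) :=
    congrArg Subtype.val (D.na_ext (m := w * U) (n := U * w) (mul_mem hw hUn) (mul_mem hUn hw) (by
      rw [map_mul, map_mul, hwi, hUi]
      show pp sw * dg 0 * (pp sw' * dg 0 * cj) = pp sw' * dg 0 * cj * (pp sw * dg 0)
      rw [dg_zero, mul_one, mul_one, ← mul_assoc, pp_mul, sw_comm.1, ← pp_mul, mul_assoc, pp_cj,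
        mul_assoc]))
  cases hq : qe true (D.vec x')
  swap
  · -- a nonsingular image
    obtain ⟨h, hh, hhd, hhx⟩ := D.to_axis hx' hx'd hq
    set k' := h⁻¹ * k with hk'
    have hk'd : Commute k' (D.el d0) := hhd.inv_left.mul_left hkd
    have hk'U : k' * (U : Y) * k'⁻¹ = x1 := by
      rw [hk', show h⁻¹ * k * (U : Y) * (h⁻¹ * k)⁻¹ = h⁻¹ * (k * U * k⁻¹) * h by group, hkU, ← hhx, ← hx1]
      group
    set j := k' * (w : Y) * k'⁻¹ with hj
    have hjd : Commute j (D.el d0) := (hk'd.mul_left hwd).mul_left hk'd.inv_left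
    have hjx : Commute j x1 := by rw [hj, ← hk'U]; exact hwU.map (MulAut.conj k').toMonoidHom
    have hjC : j ∈ D.C1 := D.mem_C1.2 ⟨hjd, hjx⟩
    have hjN := D.C1_le hjC
    have hj2 : j * j = 1 := by rw [hj, conj_mul, hw2, mul_one, mul_inv_cancel]
    have hwG : D.img ⟨(w : Y), w.2⟩ ∈ GN := by rw [hwi]; exact mo_GN sw 0
    obtain ⟨s, π, a, e, -, -, ⟨rfl, rfl⟩ | ⟨rfl, rfl⟩⟩ := D.C1_mono (n := ⟨j, hjN⟩) hjC
    · have hjR : j ∈ D.R := (D.ker ⟨j, hjN⟩).1 (by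
        have hsq : D.img ⟨j, hjN⟩ * D.img ⟨j, hjN⟩ = 1 := by
          rw [← map_mul, show (⟨j, hjN⟩ : ↥D.N) * ⟨j, hjN⟩ = 1 from Subtype.ext hj2, map_one]
        rw [e, mo_false_dg] at hsq ⊢
        rw [dg_sq_one hsq, dg_zero])
      have he' : k'⁻¹ * j * k'⁻¹⁻¹ = (w : Y) := by rw [hj]; group
      exact D.lin_not_fused hjR (D.reach hjR (D.ne_one_of_fused hwR he')) w.2 hwR he' hwd hwG
    · obtain ⟨U', hUn', hUi', q, -, -, hqj⟩ := D.norm_U0 hjN hj2 hjd e
      obtain rfl : U = U' := (D.na_ext hUn' hUn (hUi'.trans hUi.symm)).symm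
      have he' : k'⁻¹ * q⁻¹ * k'⁻¹ * x1 * (k'⁻¹ * q⁻¹ * k'⁻¹)⁻¹ = (w : Y) := by
        rw [show k'⁻¹ * q⁻¹ * k'⁻¹ * x1 * (k'⁻¹ * q⁻¹ * k'⁻¹)⁻¹ =
          k'⁻¹ * (q⁻¹ * (k'⁻¹ * x1 * k') * q) * k' by group,
          show k'⁻¹ * x1 * k' = (U : Y) by rw [← hk'U]; group, ← hqj, hj]
        group
      exact D.lin_not_fused hx1R (D.reach_axis hx1R (D.vec_lift _)) w.2 hwR he' hwd hwG
  -- a singular image
  have hq1 : qe true (D.vec x1) = true := by rw [D.vec_lift, qe_ax]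
  have back : ∀ c, Commute c (D.el d0) → c * x1 * c⁻¹ ∈ D.N → c ∈ D.N := by
    intro c hcd hcN
    set j := c * x1 * c⁻¹ with hj
    have hjd : Commute j (D.el d0) := (hcd.mul_left hx1d.symm).mul_left hcd.inv_left
    have hjR : j ∈ D.R := by
      by_contra hjR
      have hF : D.Fusd j := ⟨hcN, hjR, x1, hx1R, c, rfl⟩
      by_cases hG : D.img ⟨j, hcN⟩ ∈ GN
      · exact D.lin_not_fused hx1R (D.reach_axis hx1R (D.vec_lift _)) hcN hjR rfl hjd hG
      · obtain ⟨a, ha⟩ := D.semi_cd hF hjd hG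
        obtain ⟨U', hUn', hUi', q, -, -, hqj⟩ := D.norm_U0 hcN (D.fusd_two hF) hjd ha
        obtain rfl : U = U' := (D.na_ext hUn' hUn (hUi'.trans hUi.symm)).symm
        have := D.hqe (g := k * q * c) hx1R hx' (by
          rw [show k * q * c * x1 * (k * q * c)⁻¹ = k * (q * (c * x1 * c⁻¹) * q⁻¹) * k⁻¹ by group, ← hj, hqj,
            hkU])
        rw [hq1, hq] at this
        exact absurd this (by decide)
    obtain ⟨h, hh, hhd, hhx⟩ := D.to_axis hjR hjd.symm (by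
      rw [← D.hqe hx1R hjR (g := c) rfl]; exact hq1)
    have hm : h⁻¹ * c ∈ D.C1 := D.mem_C1.2 ⟨hhd.inv_left.mul_left hcd, by
      have : h⁻¹ * c * x1 * (h⁻¹ * c)⁻¹ = x1 := by
        rw [show h⁻¹ * c * x1 * (h⁻¹ * c)⁻¹ = h⁻¹ * (c * x1 * c⁻¹) * h by group, ← hj, ← hhx, ← hx1]
        group
      exact mul_inv_eq_iff_eq_mul.1 this⟩
    simpa using mul_mem hh (D.C1_le hm)
  set C := centralizer ({D.el d0, x'} : Set Y) with hC
  have hmemC : ∀ y : Y, y ∈ C ↔ Commute y (D.el d0) ∧ Commute y x' := fun y => by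
    rw [hC, mem_centralizer_iff]
    constructor
    · exact fun h => ⟨(h _ (Or.inl rfl)).symm, (h _ (Or.inr rfl)).symm⟩
    · rintro ⟨h2, h3⟩ z (rfl | rfl)
      · exact h2.symm.eq
      · exact h3.symm.eq
  have hx1C : x1 ∈ C := (hmemC _).2 ⟨hx1d.symm, D.comm hx1R hx'⟩
  have hUx1 : Commute (U : Y) x1 := D.commute_of_fix U hx1R (by
    rw [D.vec_lift, hUi, mo_ax, show sw' 0 = 0 by decide]
    exact dg_fix.2 fun _ => Or.inl rfl)
  have hkx : k * x1 * k⁻¹ ∈ C := (hmemC _).2 ⟨(hkd.mul_left hx1d.symm).mul_left hkd.inv_left, by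
    rw [← hkU]; exact hUx1.symm.map (MulAut.conj k).toMonoidHom⟩
  have hpow : ∀ z : ↥C, z * z = 1 → IsPGroup 2 ↥(zpowers z) := fun z hz => by
    obtain ⟨i, -, hi⟩ := (Nat.dvd_prime_pow Nat.prime_two).1
      (show orderOf z ∣ 2 ^ 1 by rw [pow_one]; exact orderOf_dvd_of_pow_eq_one (by rw [pow_two, hz]))
    exact IsPGroup.of_card (n := i) (by rw [Nat.card_zpowers, hi])
  obtain ⟨T, hT⟩ := (hpow ⟨x1, hx1C⟩ (Subtype.ext (D.sq hx1R))).exists_le_sylow
  obtain ⟨Q, hQ⟩ := (hpow ⟨k * x1 * k⁻¹, hkx⟩ (Subtype.ext (by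
    show k * x1 * k⁻¹ * (k * x1 * k⁻¹) = 1
    rw [conj_mul, D.sq hx1R, mul_one, mul_inv_cancel]))).exists_le_sylow
  haveI := T.2.isNilpotent
  have hTN : (D.N.comap C.subtype).comap (T : Subgroup ↥C).subtype = ⊤ := by
    refine normalizerCondition_iff_only_full_group_self_normalizing.1
      Group.normalizerCondition_of_isNilpotent _ ?_
    refine le_antisymm (fun y hy => ?_) le_normalizer
    exact back ((y : ↥C) : Y) ((hmemC _).1 (y : ↥C).2).1
      (((mem_normalizer_iff.1 hy) ⟨⟨x1, hx1C⟩, hT (mem_zpowers _)⟩).1 (D.RN hx1R))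
  obtain ⟨c, hc⟩ := MulAction.exists_smul_eq ↥C Q T
  have hm : c * ⟨k * x1 * k⁻¹, hkx⟩ * c⁻¹ ∈ ((c • Q : Sylow 2 ↥C) : Subgroup ↥C) := by
    rw [Sylow.coe_subgroup_smul]
    exact ⟨_, hQ (mem_zpowers _), rfl⟩
  rw [hc] at hm
  have hN' : ((c : Y) * k) * x1 * ((c : Y) * k)⁻¹ ∈ D.N := by
    have := (hTN ▸ mem_top _ : (⟨_, hm⟩ : ↥(T : Subgroup ↥C)) ∈ (D.N.comap C.subtype).comap _)
    have := mem_comap.1 (mem_comap.1 this)
    convert this using 1
    simp [mul_assoc]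
  obtain ⟨hcd, hcx'⟩ := (hmemC _).1 c.2
  have hck := back _ (hcd.mul_left hkd) hN'
  refine hUR ?_
  have e : (c : Y) * k * (U : Y) * ((c : Y) * k)⁻¹ = x' := by
    rw [show (c : Y) * k * (U : Y) * ((c : Y) * k)⁻¹ = (c : Y) * (k * U * k⁻¹) * (c : Y)⁻¹ by group, hkU,
      hcx'.eq, mul_inv_cancel_right]
  have := D.conj_R (inv_mem hck) hx'
  rw [← e] at this
  convert this using 1
  group

/-- Only transvections are fused from the module. -/
theorem tvFused : D.TvFused := by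
  intro x u g hx hu huR he
  have hF : D.Fusd u := ⟨hu, huR, x, hx, g, he⟩
  have h2 := D.fusd_two hF
  set t := D.img ⟨u, hu⟩ with ht
  have ht2 : t * t = 1 := by
    rw [ht, ← map_mul, show (⟨u, hu⟩ : ↥D.N) * ⟨u, hu⟩ = 1 from Subtype.ext h2, map_one]
  rcases D.himg.inv_cases (D.img_mem _) ht2 (fun e => huR ((D.ker _).1 e)) with h | ⟨⟨d, hd, h3, h1, hc⟩, him⟩
  · exact h
  exfalso
  have hre := D.reach hx (D.ne_one_of_fused huR he)
  by_cases hG : t ∈ GN
  · refine D.excl_im hx hre hu huR he him (sigP_eq ▸ D.dg_range _ : sigP ∈ D.img.range)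
      ⟨1, one_mem _, fun _ => 1, Or.inl fun _ => one_ne_zero, by rw [one_mul, inv_one, mul_one, sigP_eq]⟩
      Cfsg.Agent.ThreeTransp.U62Cent.sigP_pow_three (fun e => one_ne_zero (α := ZMod 3) ?_) ?_
    · exact congrFun (dg_injective ((sigP_eq.symm.trans e).trans dg_zero.symm)) 0
    · exact (Equiv.ext fun v => (hG.sig rfl v) : t * sigP = sigP * t).symm
  obtain ⟨y, hy, hyA⟩ := D.himg.conj_three_inner hd h3
  obtain ⟨a, hsum, ha⟩ := A0_ex _ hyA
  have hyd : y * d * y⁻¹ = dg a := Cfsg.Agent.ThreeTransp.U62Cent.perm_ext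
    (D.himg.inat.add (mul_mem (mul_mem hy hd) (inv_mem hy))) (dg_add a) ha.symm
  rcases three_types a hsum with rfl | hX | ⟨π, hπ⟩
  · rw [dg_zero, conj_eq_one_iff] at hyd
    exact h1 hyd
  · exact D.excl_im hx hre hu huR he him (D.himg.le hd) ⟨y, D.himg.inat.le hy, a, hX, hyd⟩ h3 h1 hc
  set y' := pp π * y
  have hy' : y' ∈ GN := mul_mem (pp_GN π) (D.himg.inat.le hy)
  obtain ⟨m, hm⟩ := D.GN_le hy'
  obtain ⟨s, n, hs, hus, hn, hn3, -, hns⟩ := D.exists_translate hu h2 rfl (D.himg.le hd) h3 h1 hc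
  obtain ⟨w, hw⟩ := him (D.vec s) (D.fix_of_commute ⟨u, hu⟩ hs hus)
  have hW := D.lift_mem w
  have e1 : D.lift w * u * (D.lift w)⁻¹ = u * s := D.conj_translate hu hW hs (by
    rw [D.vec_lift, ← hw]
    congr 2
    exact congrArg D.img (Subtype.ext (inv_eq_of_mul_eq_one_right h2).symm))
  obtain ⟨r, hr, hre', -⟩ := D.to_el (d := (m : Y) * n * (m : Y)⁻¹)
    (mul_mem (mul_mem m.2 n.2) (inv_mem m.2)) (by rw [conj_pow, hn3, mul_one, mul_inv_cancel])
    (show D.img (m * n * m⁻¹) = dg d0 by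
      rw [map_mul, map_mul, map_inv, hm, hn, show y' * d * y'⁻¹ = pp π * (y * d * y⁻¹) * (pp π)⁻¹ by
        simp [y', mul_assoc], hyd, pp_conj, hπ])
  set q := r * m * D.lift w with hq
  have hqN : q ∈ D.N := mul_mem (mul_mem (D.RN hr) m.2) (D.RN hW)
  have hF' := D.fusd_conj hF hqN
  have hd' : Commute (q * u * q⁻¹) (D.el d0) := by
    rw [← hre', hq, show r * (m : Y) * D.lift w * u * (r * m * D.lift w)⁻¹ =
      r * ((m : Y) * (D.lift w * u * (D.lift w)⁻¹) * (m : Y)⁻¹) * r⁻¹ by group, e1]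
    exact (hns.symm.map (MulAut.conj (m : Y)).toMonoidHom).map (MulAut.conj r).toMonoidHom
  have hG' : D.img ⟨q * u * q⁻¹, hF'.1⟩ ∉ GN := fun h => hG (by
    have e : D.img ⟨q * u * q⁻¹, hF'.1⟩ = y' * t * y'⁻¹ := by
      show D.img (⟨r, D.RN hr⟩ * m * ⟨D.lift w, D.RN hW⟩ * ⟨u, hu⟩ *
        (⟨r, D.RN hr⟩ * m * ⟨D.lift w, D.RN hW⟩)⁻¹) = _
      rw [map_mul, map_inv, map_mul, map_mul, map_mul, D.img_of_R hr, D.img_of_R hW, hm, one_mul, mul_one]
    rw [e] at h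
    have := mul_mem (mul_mem (inv_mem hy') h) hy'
    simpa [mul_assoc] using this)
  obtain ⟨b, hb⟩ := D.semi_cd hF' hd' hG'
  obtain ⟨U, hUn, hUi, q', hq', -, hqU⟩ := D.norm_U0 hF'.1 (D.fusd_two hF') hd' hb
  exact D.U0_not_fused hUn hUi (hqU ▸ D.fusd_conj hF' hq')

end Cfg

end Cfsg.Agent.UThreeLocal.Two.Big
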