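import Cfsg.Agent.Lib.UThreeLocal.Two.Big.Pair

/-!
# Every element of the module is reached
-/

set_option autoImplicit false
set_option linter.unusedSectionVars false
set_option linter.style.haveILetI false

namespace Cfsg.Agent.UThreeLocal.Two.Big

open Subgroup
open Cfsg.Agent.ThreeTransp.U62Cent (W8 GN sigP)
open Cfsg.Agent.ThreeTransp.U62Cent.W8 (qe bb additive_zero)

universe u

theorem mk_five : W8.mk 5 = ax 0 + ax 1 ∧ (∀ j : Fin 4, (j = 2 ∨ j = 3) → (W8.mk 5).pl j = 0) := by
  decide +kernel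

/-- the exponents on the last two lines -/
def pairEx (p : ZMod 3 × ZMod 3) : Ex := ![0, 0, p.1, p.2]

theorem pairEx_inj : Function.Injective pairEx := fun p q h =>
  Prod.ext (congrFun h 2) (congrFun h 3)

theorem pairEx_one : pairEx (1, 0) = one 2 ∧ pairEx (0, 1) = one 3 := by decide +kernel

namespace Cfg

variable {Y : Type u} [Group Y] [Finite Y] (D : Cfg Y)

theorem card_stab {S : Subgroup (Equiv.Perm W8)} (hS : S ≤ D.I) (hp : IsPGroup 3 ↥S)
    (hfix : ∀ g ∈ S, g (W8.mk 5) = W8.mk 5) : Nat.card ↥S ≤ 3 := by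
  have horb : MulAction.orbit ↥D.I (W8.mk 5) = {w : W8 | qe true w = false ∧ w ≠ 0} := by
    ext w
    constructor
    · rintro ⟨g, rfl⟩
      refine ⟨((D.himg.inat.le g.2).q _).trans reps.2.1, fun e => reps.2.2.2 ?_⟩
      exact (g : Equiv.Perm W8).injective ((show (g : Equiv.Perm W8) (W8.mk 5) = 0 from e).trans
        (additive_zero (D.himg.inat.add g.2)).symm)
    · rintro ⟨hq, hw⟩
      obtain ⟨g, hg, e⟩ := D.himg.trans hw
      rw [hq] at e
      exact ⟨⟨g, hg⟩, e⟩
  have hc := (MulAction.stabilizer ↥D.I (W8.mk 5)).card_mul_index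
  rw [MulAction.index_stabilizer, horb, D.himg.inat.card,
    Cfsg.Agent.ThreeTransp.U62Cent.N.ncard_singular] at hc
  have hle : S.subgroupOf D.I ≤ MulAction.stabilizer ↥D.I (W8.mk 5) := fun g hg => hfix _ hg
  have hd : Nat.card ↥S ∣ 192 := by
    rw [← Nat.card_congr (subgroupOfEquivOfLe hS).toEquiv,
      show (192 : ℕ) = Nat.card ↥(MulAction.stabilizer ↥D.I (W8.mk 5)) by omega]
    exact Subgroup.card_dvd_of_le hle
  haveI : Fact (Nat.Prime 3) := ⟨Nat.prime_three⟩
  obtain ⟨k, hk⟩ := IsPGroup.iff_card.1 hp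
  rw [hk] at hd ⊢
  rcases k with _ | _ | k
  · norm_num
  · norm_num
  · exact absurd ((pow_dvd_pow 3 (show 2 ≤ k + 2 by omega)).trans hd) (by norm_num)

set_option maxHeartbeats 800000 in
theorem reach_five {x : Y} (hx : x ∈ D.R) (hv : D.vec x = W8.mk 5) : D.Reach x := by
  classical
  haveI : Fact (Nat.Prime 3) := ⟨Nat.prime_three⟩
  set B := D.A ⊓ centralizer ({x} : Set Y) with hB
  have hmem : ∀ p, D.el (pairEx p) ∈ B := fun p => ⟨D.el_mem _, mem_centralizer_singleton_iff.2
    ((D.el_fix hx).2 (by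
      rw [hv, dg_fix]
      intro j
      fin_cases j
      · exact Or.inl rfl
      · exact Or.inl rfl
      · exact Or.inr (mk_five.2 2 (Or.inl rfl))
      · exact Or.inr (mk_five.2 3 (Or.inr rfl)))).eq⟩
  have hB9 : 9 ≤ Nat.card ↥B := by
    refine le_trans (le_of_eq (by rw [Nat.card_prod, Nat.card_zmod])) (Nat.card_le_card_of_injective
      (fun p => (⟨_, hmem p⟩ : ↥B)) fun p q e => pairEx_inj (dg_injective ?_))
    have e' : D.el (pairEx p) = D.el (pairEx q) := congrArg (fun z : ↥B => (z : Y)) e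
    rw [← D.img_el, ← D.img_el]
    exact congrArg D.img (Subtype.ext e')
  set C := centralizer ({x} : Set Y) with hC
  have hBC : B ≤ C := inf_le_right
  obtain ⟨P, hP⟩ := ((D.A_pGroup.to_le (inf_le_left : B ≤ D.A)).of_equiv
    (subgroupOfEquivOfLe hBC).symm).exists_le_sylow
  refine D.reach_of_sylow P fun y hy => ?_
  set P' := (P : Subgroup ↥C).map C.subtype with hP'
  have hp' : IsPGroup 3 ↥P' := P.2.map _
  have hBP : B ≤ P' := fun b hb => ⟨⟨b, hBC hb⟩, hP hb, rfl⟩
  set L := P' ⊓ D.N with hL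
  have hBL : B ≤ L := le_inf hBP (inf_le_left.trans D.hAN)
  have hLp : IsPGroup 3 ↥L := hp'.to_le inf_le_left
  have hLB : B = L := by
    refine eq_of_le_of_card_ge hBL (le_trans ?_ hB9)
    rw [← D.card_image inf_le_right hLp]
    set S := (L.subgroupOf D.N).map D.img
    have hSG : S ≤ GN := D.img_three inf_le_right hLp
    refine le_trans (D.rel_index_I hSG) (Nat.mul_le_mul_left 3 (D.card_stab inf_le_right ?_ ?_))
    · exact ((hLp.of_equiv (subgroupOfEquivOfLe inf_le_right).symm).map D.img).to_le inf_le_left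
    · rintro g ⟨⟨n, hn, rfl⟩, -⟩
      rw [← hv]
      exact D.fix_of_commute n hx (mem_centralizer_singleton_iff.1 (map_subtype_le _ hn.1))
  haveI := hp'.isNilpotent
  have htop : D.N.subgroupOf P' = ⊤ := by
    refine normalizerCondition_iff_only_full_group_self_normalizing.1
      Group.normalizerCondition_of_isNilpotent _ ?_
    refine le_antisymm (fun g hg => ?_) le_normalizer
    have key : ∀ p, (g : Y) * D.el (pairEx p) * (g : Y)⁻¹ ∈ D.A := fun p => by
      have hb := hmem p
      have h1 : ((g : Y) * D.el (pairEx p) * (g : Y)⁻¹) ∈ L :=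
        ⟨P'.mul_mem (P'.mul_mem g.2 (hBP hb)) (P'.inv_mem g.2),
          ((mem_normalizer_iff.1 hg) ⟨_, hBP hb⟩).1 (D.el_N _)⟩
      rw [← hLB] at h1
      exact h1.1
    exact D.pair_strong (show (2 : Fin 4) ≠ 3 by decide)
      (pairEx_one.1 ▸ key (1, 0))
      (pairEx_one.2 ▸ key (0, 1))
  exact subgroupOf_eq_top.1 htop ⟨⟨y, mem_centralizer_singleton_iff.2 (mem_centralizer_singleton_iff.1 y.2)⟩, hy, rfl⟩

/-- Every element of the module is reached. -/
theorem reach {x : Y} (hx : x ∈ D.R) (h1 : x ≠ 1) : D.Reach x := by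
  cases hq : qe true (D.vec x)
  swap
  · exact D.reach_nonsing hx hq
  obtain ⟨g, hg, e⟩ := D.himg.trans (D.vec_eq_zero hx h1)
  rw [hq] at e
  obtain ⟨n, hn⟩ := D.himg.le hg
  have h5 := D.reach_five (D.lift_mem _) (D.vec_lift (W8.mk 5))
  have e' : (n : Y) * D.lift (W8.mk 5) * (n : Y)⁻¹ = x := D.vec_ext (D.conj_R n.2 (D.lift_mem _)) hx (by
    rw [D.vec_conj n (D.lift_mem _), D.vec_lift, hn]
    exact e)
  exact e' ▸ D.reach_conj h5 n.2

theorem ne_one_of_fused {x u g : Y} (huR : u ∉ D.R) (he : g * x * g⁻¹ = u) : x ≠ 1 := fun h => huR (by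
  rw [← he, h, mul_one, mul_inv_cancel]; exact one_mem _)

/-- An element of order three of the excluded kind commutes with no fused element. -/
theorem excluded : D.Excluded Excl := fun {x u g} hx hu huR he n hX h3 _ =>
  D.excl_rule hx (D.reach hx (D.ne_one_of_fused huR he)) hu huR he n hX h3

end Cfg

end Cfsg.Agent.UThreeLocal.Two.Big
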