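import Cfsg.Agent.Lib.UThreeLocal.Two.Big.Singular
import Cfsg.Agent.Lib.PGroups.SmithTyrer.Main
import Cfsg.Agent.S0058

/-!
# The centraliser of the pair element and an axis vector
-/

set_option autoImplicit false
set_option linter.unusedSectionVars false
set_option linter.style.haveILetI false

namespace Cfsg.Agent.UThreeLocal.Two.Big

open Subgroup
open Cfsg.Agent.ThreeTransp.U62Cent (W8 GN sigP)
open Cfsg.Agent.ThreeTransp.U62Cent.W8 (qe bb)

universe u

/-- the exponents of the plane of the argument -/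
def planeEx (p : ZMod 3 × ZMod 3) : Ex := ![0, p.1, p.2, 0]

theorem plane_add : ∀ p q, planeEx (p + q) = planeEx p + planeEx q := by decide +kernel

theorem plane_rigid : ∀ p : ZMod 3 × ZMod 3, p.1 ≠ 0 → ∀ (s : Bool) (π : Equiv.Perm (Fin 4)),
    act s π d0 = d0 → act s π (planeEx p) = planeEx p → s = false ∧ π = 1 := by decide +kernel

theorem plane_pair : ∀ p : ZMod 3 × ZMod 3, p ≠ 0 → p.1 = 0 →
    one 2 = planeEx p ∨ one 2 = -planeEx p := by decide +kernel

theorem one3_eq : one 3 = one 2 - d0 := by decide +kernel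

theorem d_fix_axis : ∀ (s : Bool) (π : Equiv.Perm (Fin 4)), act s π d0 = d0 → π 0 = 0 →
    s = false ∧ π = 1 ∨ s = true ∧ π = sw' := by decide +kernel

theorem semi_inverts : ∀ b : Ex, b 0 = 0 → ∃ k : ZMod 3, act true sw' b = -b + fun i => k * d0 i := by
  decide +kernel

theorem plane_indep : ∀ (p : ZMod 3 × ZMod 3) (k : ZMod 3), planeEx p = (fun i => k * d0 i) → p = 0 := by
  decide +kernel

theorem two_ne : ¬ ((1 : ZMod 3) + 1 = 0) := by decide

namespace Cfg

variable {Y : Type u} [Group Y] [Finite Y] (D : Cfg Y)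

/-- The elementary group as a homomorphic image of the exponents. -/
noncomputable def elHom : Multiplicative Ex →* Y :=
  MonoidHom.mk' (fun a => D.el a.toAdd) fun a b => D.el_add _ _

theorem el_zpow (a : Ex) (l : ℤ) : D.el a ^ l = D.el fun i => (l : ZMod 3) * a i := by
  have h := map_zpow D.elHom (Multiplicative.ofAdd a) l
  rw [← ofAdd_zsmul] at h
  refine h.symm.trans ?_
  show D.el (l • a) = _
  congr 1
  funext i
  simp [zsmul_eq_mul]

theorem el_inj {a b : Ex} (h : D.el a = D.el b) : a = b := dg_injective (by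
  rw [← D.img_el, ← D.img_el]; exact congrArg D.img (Subtype.ext h))

/-- The centraliser of the pair element and the first axis vector. -/
def C1 : Subgroup Y := centralizer ({D.el d0, D.lift (ax 0)} : Set Y)

theorem mem_C1 {g : Y} : g ∈ D.C1 ↔ Commute g (D.el d0) ∧ Commute g (D.lift (ax 0)) := by
  rw [C1, mem_centralizer_iff]
  constructor
  · exact fun h => ⟨(h _ (Or.inl rfl)).symm, (h _ (Or.inr rfl)).symm⟩
  · rintro ⟨h2, h3⟩ y (rfl | rfl)
    · exact h2.symm.eq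
    · exact h3.symm.eq

theorem el_C1 {b : Ex} : D.el b ∈ D.C1 ↔ b 0 = 0 := by
  rw [D.mem_C1, and_iff_right (D.el_comm b d0), D.el_fix (D.lift_mem _), D.vec_lift, dg_fix]
  constructor
  · exact fun h => (h 0).resolve_right (by rw [pl_ax, if_pos rfl]; decide)
  · intro h j
    by_cases hj : j = 0
    · exact Or.inl (hj ▸ h)
    · exact Or.inr (by rw [pl_ax, if_neg hj])

theorem C1_mono {n : ↥D.N} (hn : (n : Y) ∈ D.C1) : ∃ s π a, D.img n = mo s π a ∧
    (s = false ↔ D.img n ∈ GN) ∧ a 0 = 0 ∧ (s = false ∧ π = 1 ∨ s = true ∧ π = sw') := by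
  obtain ⟨hd, hx⟩ := D.mem_C1.1 hn
  obtain ⟨s, π, a, e, hs, hact⟩ := D.mono_d0 hd
  have hfix := D.fix_of_commute n (D.lift_mem _) hx
  rw [D.vec_lift, e] at hfix
  obtain ⟨h0, ha⟩ := mo_fix hfix
  exact ⟨s, π, a, e, hs, ha, d_fix_axis s π hact h0⟩

theorem plane_cent {p : ZMod 3 × ZMod 3} (hp : p ≠ 0) :
    centralizer ({D.el d0, D.el (planeEx p)} : Set Y) ≤ D.N := by
  by_cases h1 : p.1 = 0
  · intro c hc
    have hc' := fun y hy => mem_centralizer_iff.1 hc y hy
    have h2 : Commute c (D.el (one 2)) := by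
      rcases plane_pair p hp h1 with e | e <;> rw [e]
      · exact (hc' _ (Or.inr rfl)).symm
      · rw [D.el_neg]
        exact (show Commute c (D.el (planeEx p)) from (hc' _ (Or.inr rfl)).symm).inv_right
    refine D.C2_le (D.mem_C2.2 ⟨h2, ?_⟩)
    rw [one3_eq, sub_eq_add_neg, D.el_add, D.el_neg]
    exact h2.mul_right (show Commute c (D.el d0) from (hc' _ (Or.inl rfl)).symm).inv_right
  refine D.burnside_le (fun x hx => ?_) fun n hn => ?_
  · obtain ⟨b, rfl⟩ := D.exists_el hx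
    refine mem_centralizer_iff.2 ?_
    rintro y (rfl | rfl) <;> exact D.el_comm _ _
  · have hc := fun y hy => mem_centralizer_iff.1 hn y hy
    obtain ⟨s, π, a, e, -, hact⟩ := D.mono_d0 (n := n) (hc _ (Or.inl rfl)).symm
    obtain ⟨rfl, rfl⟩ := plane_rigid p h1 s π hact (D.act_of_commute e (hc _ (Or.inr rfl)).symm)
    exact ⟨a, e.trans (mo_false_dg a)⟩

set_option maxHeartbeats 800000 in
/-- A subgroup of order prime to three normalised by the plane lies in the local subgroup. -/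
theorem coprime_le {K : Subgroup Y} (hK : K ≤ D.C1) (hK3 : (Nat.card ↥K).Coprime 3)
    (hnorm : ∀ b : Ex, b 0 = 0 → D.el b ∈ normalizer (K : Set Y)) : K ≤ D.N := by
  haveI : Fact (Nat.Prime 3) := ⟨Nat.prime_three⟩
  let f : Multiplicative (ZMod 3 × ZMod 3) →* Y := MonoidHom.mk' (fun p => D.el (planeEx p.toAdd))
    fun p q => by rw [toAdd_mul, plane_add, D.el_add]
  have hf : Function.Injective f := (injective_iff_map_eq_one f).2 fun p hp => by
    by_contra hne
    exact D.el_ne (fun e => hne (Multiplicative.toAdd.injective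
      (plane_indep p.toAdd 0 (e.trans (by funext i; simp))))) hp
  set E := f.range
  haveI : IsMulCommutative ↥E := ⟨⟨by
    rintro ⟨_, p, rfl⟩ ⟨_, q, rfl⟩
    exact Subtype.ext (D.el_comm _ _).eq⟩⟩
  have hEc : Nat.card ↥E = 9 := by
    rw [← Nat.card_congr (MonoidHom.ofInjective hf).toEquiv, Nat.card_congr Multiplicative.toAdd,
      Nat.card_prod, Nat.card_zmod]
  have hcyc : ¬ IsCyclic ↥E := fun hc => by
    obtain ⟨g, hg⟩ := hc.exists_ofOrder_eq_natCard
    rw [hEc] at hg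
    obtain ⟨p, hp⟩ := g.2
    have h3 : g ^ 3 = 1 := Subtype.ext (by
      rw [SubgroupClass.coe_pow, ← hp, Subgroup.coe_one]; exact D.el_three _)
    have := orderOf_dvd_of_pow_eq_one h3
    rw [hg] at this
    norm_num at this
  have hEK : E ≤ normalizer (K : Set Y) := by
    rintro _ ⟨p, rfl⟩
    exact hnorm _ rfl
  have hcop : (Nat.card ↥E).Coprime (Nat.card ↥K) := by
    rw [hEc, show (9 : ℕ) = 3 ^ 2 from rfl]
    exact Nat.Coprime.pow_left 2 hK3.symm
  rw [← Cfsg.Agent.S0058.result E K hcyc hEK hcop]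
  refine iSup₂_le fun a ha => ?_
  obtain ⟨⟨p, rfl⟩, ha1⟩ := ha
  refine le_trans (fun k hk => ?_) (D.plane_cent (p := p.toAdd) fun e => ha1 ?_)
  · refine mem_centralizer_iff.2 ?_
    rintro y (rfl | rfl)
    · exact (D.mem_C1.1 (hK hk.1)).1.symm.eq
    · exact (mem_centralizer_singleton_iff.1 hk.2).symm
  · rw [show p = 1 from Multiplicative.toAdd.injective e, map_one]

set_option maxHeartbeats 1600000 in
/-- The centraliser of the pair element and an axis vector lies in the local subgroup. -/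
theorem C1_le : D.C1 ≤ D.N := by
  classical
  haveI : Fact (Nat.Prime 3) := ⟨Nat.prime_three⟩
  set C := D.C1 with hC
  have hz : D.el (zt 0) ∈ C := D.el_C1.2 rfl
  set B := D.A ⊓ C with hB
  obtain ⟨P, hP⟩ := ((D.A_pGroup.to_le (inf_le_left : B ≤ D.A)).of_equiv
    (subgroupOfEquivOfLe (inf_le_right : B ≤ C)).symm).exists_le_sylow
  have hPN : (P : Subgroup ↥C).map C.subtype ≤ D.N :=
    D.z_group (P.2.map _) ⟨0, Or.inl rfl⟩ ⟨⟨_, hz⟩, hP (show D.el (zt 0) ∈ B from ⟨D.el_mem _, hz⟩), rfl⟩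
  have hPmem : ∀ y : ↥C, y ∈ (P : Subgroup ↥C) ↔ ∃ b : Ex, b 0 = 0 ∧ (y : Y) = D.el b := by
    intro y
    refine ⟨fun hy => ?_, ?_⟩
    · have hyN : (y : Y) ∈ D.N := hPN ⟨y, hy, rfl⟩
      obtain ⟨k, hk⟩ := (IsPGroup.iff_orderOf.1 P.2) ⟨y, hy⟩
      obtain ⟨s, π, a, e, hs, ha, hcase⟩ := D.C1_mono (n := ⟨(y : Y), hyN⟩) y.2
      have hGN : D.img ⟨(y : Y), hyN⟩ ∈ GN := by
        refine D.img_three hPN (P.2.map _) ⟨⟨(y : Y), hyN⟩, ?_, rfl⟩
        exact ⟨y, hy, rfl⟩
      obtain rfl := hs.2 hGN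
      rcases hcase with ⟨-, rfl⟩ | ⟨hf, -⟩
      swap
      · exact absurd hf (by decide)
      refine ⟨a, ha, ?_⟩
      have hR : (D.el a)⁻¹ * y ∈ D.R := (D.ker (⟨_, D.el_N a⟩⁻¹ * ⟨(y : Y), hyN⟩)).1 (by
        rw [map_mul, map_inv, D.img_el, e, mo_false_dg, inv_mul_cancel])
      have hm : (⟨D.el a, D.el_C1.2 ha⟩ : ↥C)⁻¹ * y ∈ (P : Subgroup ↥C) :=
        mul_mem (inv_mem (hP (show D.el a ∈ B from ⟨D.el_mem _, D.el_C1.2 ha⟩))) hy
      obtain ⟨l, hl⟩ := (IsPGroup.iff_orderOf.1 P.2) ⟨_, hm⟩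
      rw [Subgroup.orderOf_mk, ← Subgroup.orderOf_coe] at hl
      have h2 := orderOf_dvd_of_pow_eq_one (show ((D.el a)⁻¹ * y) ^ 2 = 1 by rw [pow_two]; exact D.sq hR)
      rw [show orderOf ((D.el a)⁻¹ * (y : Y)) = 3 ^ l from hl] at h2
      have h1 : (D.el a)⁻¹ * (y : Y) = 1 := orderOf_eq_one_iff.1 (hl.trans (Nat.eq_one_of_dvd_coprimes
        (Nat.Coprime.pow_left l (by norm_num : Nat.Coprime 3 2)) dvd_rfl h2))
      exact (inv_mul_eq_one.1 h1).symm
    · rintro ⟨b, hb, e⟩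
      exact hP (show (y : Y) ∈ B from ⟨e ▸ D.el_mem b, y.2⟩)
  have hcomm : ∀ x ∈ (P : Subgroup ↥C), ∀ y ∈ (P : Subgroup ↥C), x * y = y * x := fun x hx y hy => by
    obtain ⟨b, -, eb⟩ := (hPmem x).1 hx
    obtain ⟨c, -, ec⟩ := (hPmem y).1 hy
    refine Subtype.ext ?_
    show (x : Y) * y = y * x
    rw [eb, ec, (D.el_comm b c).eq]
  -- the normaliser of the Sylow subgroup
  have hnormal : ∀ g ∈ normalizer ((P : Subgroup ↥C) : Set ↥C),
      (∀ x ∈ (P : Subgroup ↥C), g * x * g⁻¹ = x) ∨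
      ∀ x ∈ (P : Subgroup ↥C), ∃ k : ZMod 3, ((g * x * g⁻¹ : ↥C) : Y) = (x : Y)⁻¹ * D.el fun i => k * d0 i := by
    intro g hg
    have hgN : (g : Y) ∈ D.N := D.strong_z ⟨0, Or.inl rfl⟩
      (hPN ⟨_, ((mem_normalizer_iff.1 hg) ⟨_, hz⟩).1 ((hPmem _).2 ⟨_, rfl, rfl⟩), rfl⟩)
    obtain ⟨s, π, a, e, -, -, hcase⟩ := D.C1_mono (n := ⟨(g : Y), hgN⟩) g.2
    have key : ∀ x ∈ (P : Subgroup ↥C), ∀ b, (x : Y) = D.el b →
        ((g * x * g⁻¹ : ↥C) : Y) = D.el (act s π b) := by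
      intro x hx b eb
      obtain ⟨c, -, ec⟩ := (hPmem _).1 (((mem_normalizer_iff.1 hg) x).1 hx)
      rw [ec]
      congr 1
      refine dg_injective ?_
      rw [← D.img_el c, ← D.img_conj_el ⟨(g : Y), hgN⟩ e b]
      congr 1
      refine Subtype.ext (ec.symm.trans ?_)
      show (g : Y) * x * (g : Y)⁻¹ = _
      rw [eb]
      rfl
    rcases hcase with ⟨rfl, rfl⟩ | ⟨rfl, rfl⟩
    · refine Or.inl fun x hx => ?_
      obtain ⟨b, -, eb⟩ := (hPmem x).1 hx
      exact Subtype.ext ((key x hx b eb).trans eb.symm)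
    · refine Or.inr fun x hx => ?_
      obtain ⟨b, hb, eb⟩ := (hPmem x).1 hx
      obtain ⟨k, hk⟩ := semi_inverts b hb
      exact ⟨k, by rw [key x hx b eb, hk, D.el_add, D.el_neg, eb]⟩
  suffices h : ∀ g ∈ C, g * D.el (zt 0) * g⁻¹ ∈ D.N from fun g hg => D.strong_z ⟨0, Or.inl rfl⟩ (h g hg)
  by_cases hcase : ∀ g ∈ normalizer ((P : Subgroup ↥C) : Set ↥C), ∀ x ∈ (P : Subgroup ↥C), g * x * g⁻¹ = x
  · -- a normal complement
    have hNC : normalizer ((P : Subgroup ↥C) : Set ↥C) ≤ centralizer ((P : Subgroup ↥C) : Set ↥C) :=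
      fun g hg => mem_centralizer_iff.2 fun x hx => (mul_inv_eq_iff_eq_mul.1 (hcase g hg x hx)).symm
    have hcompl := MonoidHom.ker_transferSylow_isComplement' P hNC
    set K0 := (MonoidHom.transferSylow P hNC).ker
    have hK0n : K0.Normal := MonoidHom.normal_ker _
    have hKN : K0.map C.subtype ≤ D.N := by
      refine D.coprime_le (map_subtype_le _) ?_ fun b hb => ?_
      · rw [← Nat.card_congr (equivMapOfInjective K0 _ C.subtype_injective).toEquiv,
          ← hcompl.index_eq_card]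
        exact (Nat.prime_three.coprime_iff_not_dvd.2 P.not_dvd_index).symm
      · refine mem_normalizer_fintype ?_
        rintro _ ⟨k, hk, rfl⟩
        have h' := mem_map_of_mem C.subtype (hK0n.conj_mem k hk (⟨_, D.el_C1.2 hb⟩ : ↥C))
        simpa only [Subgroup.coe_subtype, Subgroup.coe_mul, Subgroup.coe_inv, SetLike.mem_coe] using h'
    intro g hg
    obtain ⟨⟨k, p⟩, e⟩ := hcompl.2 (⟨g, hg⟩ * ⟨_, hz⟩ * ⟨g, hg⟩⁻¹)
    rw [show g * D.el (zt 0) * g⁻¹ = ((k : ↥C) : Y) * (p : ↥C) from (congrArg Subtype.val e).symm]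
    exact mul_mem (hKN ⟨k, k.2, rfl⟩) (hPN ⟨p, p.2, rfl⟩)
  push Not at hcase
  obtain ⟨g0, hg0, x0, hx0, hne0⟩ := hcase
  let dC : ↥C := ⟨D.el d0, D.el_C1.2 rfl⟩
  have hdc : dC ∈ center ↥C := mem_center_iff.2 fun c => Subtype.ext (D.mem_C1.1 c.2).1.eq
  haveI hZn : (zpowers dC).Normal := ⟨fun w hw u => by
    rw [mem_center_iff.1 ((zpowers_le.2 hdc) hw) u, mul_inv_cancel_right]
    exact hw⟩
  set q := QuotientGroup.mk' (zpowers dC)
  set P1 := P.mapSurjective (QuotientGroup.mk'_surjective (zpowers dC))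
  have hP1 : ∀ y, y ∈ (P1 : Subgroup (↥C ⧸ zpowers dC)) ↔ ∃ x ∈ (P : Subgroup ↥C), q x = y := fun y =>
    Subgroup.mem_map
  have hZP : zpowers dC ≤ (P : Subgroup ↥C) := zpowers_le.2 ((hPmem _).2 ⟨d0, rfl, rfl⟩)
  have hdk : ∀ k : ZMod 3, ∀ h : D.el (fun i => k * d0 i) ∈ C, (⟨_, h⟩ : ↥C) ∈ zpowers dC := fun k h =>
    mem_zpowers_iff.2 ⟨(k.val : ℤ), Subtype.ext (by
      rw [SubgroupClass.coe_zpow]
      refine (D.el_zpow d0 _).trans ?_
      show D.el _ = D.el _
      congr 1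
      funext i
      simp)⟩
  have hzd : ∀ y : ↥C, y ∈ zpowers dC → ∃ l : ZMod 3, (y : Y) = D.el fun i => l * d0 i := fun y hy => by
    obtain ⟨l, rfl⟩ := mem_zpowers_iff.1 hy
    exact ⟨l, (SubgroupClass.coe_zpow _ _).trans (D.el_zpow d0 l)⟩
  have hqinv : ∀ g ∈ normalizer ((P : Subgroup ↥C) : Set ↥C),
      (∀ y ∈ (P1 : Subgroup (↥C ⧸ zpowers dC)), q g * y * (q g)⁻¹ = y) ∨
      ∀ y ∈ (P1 : Subgroup (↥C ⧸ zpowers dC)), q g * y * (q g)⁻¹ = y⁻¹ := by
    intro g hg
    rcases hnormal g hg with h | h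
    · refine Or.inl fun y hy => ?_
      obtain ⟨x, hx, rfl⟩ := (hP1 y).1 hy
      rw [← map_inv, ← map_mul, ← map_mul, h x hx]
    · refine Or.inr fun y hy => ?_
      obtain ⟨x, hx, rfl⟩ := (hP1 y).1 hy
      obtain ⟨k, hk⟩ := h x hx
      have hkC : D.el (fun i => k * d0 i) ∈ C := D.el_C1.2 (by simp [d0])
      rw [← map_inv, ← map_mul, ← map_mul, show g * x * g⁻¹ = x⁻¹ * ⟨_, hkC⟩ from Subtype.ext hk,
        map_mul, show q ⟨_, hkC⟩ = 1 from (QuotientGroup.eq_one_iff _).2 (hdk k hkC), mul_one, map_inv]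
  have Dinv : PGroups.SmithTyrer.Inverted P1 := by
    refine ⟨by norm_num, ?_, ?_, ?_, ?_⟩
    · intro a ha b hb
      obtain ⟨x, hx, rfl⟩ := (hP1 a).1 ha
      obtain ⟨y, hy, rfl⟩ := (hP1 b).1 hb
      rw [← map_mul, hcomm x hx y hy, map_mul]
    · intro hcyc
      have hexp : ∀ y : ↥(P1 : Subgroup (↥C ⧸ zpowers dC)), y ^ 3 = 1 := fun y => by
        obtain ⟨x, hx, e⟩ := (hP1 y).1 y.2
        obtain ⟨b, -, eb⟩ := (hPmem x).1 hx
        refine Subtype.ext ?_
        rw [SubgroupClass.coe_pow, ← e, ← map_pow,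
          show x ^ 3 = 1 from Subtype.ext (by rw [SubgroupClass.coe_pow, eb]; exact D.el_three b), map_one]
        rfl
      obtain ⟨g, hg⟩ := hcyc.exists_ofOrder_eq_natCard
      have hle : Nat.card ↥(P1 : Subgroup (↥C ⧸ zpowers dC)) ≤ 3 :=
        hg ▸ Nat.le_of_dvd (by norm_num) (orderOf_dvd_of_pow_eq_one (hexp g))
      have hmem : ∀ p, q ⟨D.el (planeEx p), D.el_C1.2 rfl⟩ ∈ (P1 : Subgroup (↥C ⧸ zpowers dC)) :=
        fun p => (hP1 _).2 ⟨_, (hPmem _).2 ⟨planeEx p, rfl, rfl⟩, rfl⟩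
      have h9 := Nat.card_le_card_of_injective
        (fun p : ZMod 3 × ZMod 3 => (⟨_, hmem p⟩ : ↥(P1 : Subgroup (↥C ⧸ zpowers dC)))) fun p r e => by
        have e' : q ⟨D.el (planeEx p), D.el_C1.2 rfl⟩ = q ⟨D.el (planeEx r), D.el_C1.2 rfl⟩ :=
          congrArg Subtype.val e
        obtain ⟨k, hk⟩ := hzd _ (QuotientGroup.eq.1 e')
        push_cast at hk
        rw [← D.el_neg, ← D.el_add] at hk
        have he : -planeEx p + planeEx r = fun i => k * d0 i := D.el_inj hk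
        have hs : planeEx (r - p) = fun i => k * d0 i := by
          rw [← he, neg_add_eq_sub, eq_sub_iff_add_eq, ← plane_add, sub_add_cancel]
        exact (sub_eq_zero.1 (plane_indep _ _ hs)).symm
      rw [Nat.card_prod, Nat.card_zmod] at h9
      omega
    · refine ⟨q g0, ?_, ((hqinv g0 hg0).resolve_left fun h => hne0 ?_)⟩
      · exact mem_normalizer_fintype fun y hy => by
          obtain ⟨x, hx, rfl⟩ := (hP1 y).1 hy
          show q g0 * q x * (q g0)⁻¹ ∈ _
          rw [← map_inv, ← map_mul, ← map_mul]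
          exact (hP1 _).2 ⟨_, ((mem_normalizer_iff.1 hg0) x).1 hx, rfl⟩
      · rcases hnormal g0 hg0 with h' | h'
        · exact h' x0 hx0
        exfalso
        obtain ⟨k, hk⟩ := h' ⟨D.el (one 1), D.el_C1.2 rfl⟩ ((hPmem _).2 ⟨one 1, rfl, rfl⟩)
        have hh := h (q ⟨D.el (one 1), D.el_C1.2 rfl⟩) ((hP1 _).2 ⟨_, (hPmem _).2 ⟨one 1, rfl, rfl⟩, rfl⟩)
        rw [← map_inv, ← map_mul, ← map_mul] at hh
        obtain ⟨l, hl⟩ := hzd _ (QuotientGroup.eq.1 hh)
        push_cast at hl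
        rw [show ((g0 : Y) * D.el (one 1) * (g0 : Y)⁻¹) = (D.el (one 1))⁻¹ * D.el fun i => k * d0 i from hk,
          ← D.el_neg, ← D.el_add, ← D.el_neg, ← D.el_add] at hl
        have h1 := congrFun (D.el_inj hl) 1
        simp [one, d0] at h1
        exact absurd h1 two_ne
    · intro n hn
      obtain ⟨g, rfl⟩ := QuotientGroup.mk'_surjective (zpowers dC) n
      refine hqinv g (mem_normalizer_fintype fun x hx => ?_)
      obtain ⟨y, hy, e⟩ := (hP1 _).1 (((mem_normalizer_iff.1 hn) (q x)).1 ((hP1 _).2 ⟨x, hx, rfl⟩))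
      rw [← map_inv, ← map_mul, ← map_mul] at e
      show g * x * g⁻¹ ∈ (P : Subgroup ↥C)
      have := mul_mem hy (hZP (QuotientGroup.eq.1 e))
      rwa [mul_inv_cancel_left] at this
  have hnm := PGroups.SmithTyrer.core_sup_normal (p := 3) _ (↥C ⧸ zpowers dC) P1 (Nat.lt_succ_self _) Dinv
  set O := Cfsg.pPrimeCore 3 (↥C ⧸ zpowers dC)
  set M := O.comap q with hM
  -- the part of order prime to three
  set M3 : Subgroup ↥C := M with hM3
  have hMN : ∀ m ∈ M, (m : Y) ∈ D.N := by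
    haveI : ((zpowers dC).subgroupOf M).Normal := Normal.subgroupOf hZn M
    have hle : zpowers dC ≤ M := fun w hw => by
      show q w ∈ O
      rw [show q w = 1 from (QuotientGroup.eq_one_iff _).2 hw]; exact one_mem _
    have hord : orderOf dC = 3 := by
      rw [← Subgroup.orderOf_coe]
      exact Frame.orderOf_eq_three (D.el_three _) (D.el_ne (by decide +kernel))
    have hidx : ((zpowers dC).subgroupOf M).index ∣ Nat.card ↥O := by
      let φ : ↥M →* ↥O := (q.comp M.subtype).codRestrict O fun m => m.2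
      have hk : φ.ker = (zpowers dC).subgroupOf M := by
        ext m
        rw [MonoidHom.mem_ker, mem_subgroupOf, ← QuotientGroup.eq_one_iff]
        exact Subtype.ext_iff
      rw [← hk, Subgroup.index_ker]
      exact Subgroup.card_subgroup_dvd_card _
    have hcop3 : (Nat.card ↥((zpowers dC).subgroupOf M)).Coprime ((zpowers dC).subgroupOf M).index := by
      rw [Nat.card_congr (subgroupOfEquivOfLe hle).toEquiv, Nat.card_zpowers, hord]
      exact Nat.Coprime.coprime_dvd_right hidx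
        (Nat.prime_three.coprime_iff_not_dvd.2 (Cfsg.Agent.PLocal.Cores.not_dvd_card_pPrimeCore (by norm_num)))
    obtain ⟨K1, hK1⟩ := Subgroup.exists_right_complement'_of_coprime hcop3
    set K := (K1.map M.subtype).map C.subtype
    have hK1c : (Nat.card ↥K1).Coprime 3 := by
      rw [← hK1.symm.index_eq_card]
      exact (Nat.prime_three.coprime_iff_not_dvd.2 fun h => Cfsg.Agent.PLocal.Cores.not_dvd_card_pPrimeCore
        (p := 3) (G := ↥C ⧸ zpowers dC) (by norm_num) (h.trans hidx)).symm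
    have hKN : K ≤ D.N := by
      refine D.coprime_le (map_subtype_le _) ?_ fun b hb => ?_
      · rwa [← Nat.card_congr (equivMapOfInjective _ _ C.subtype_injective).toEquiv,
          ← Nat.card_congr (equivMapOfInjective _ _ M.subtype_injective).toEquiv]
      · refine mem_normalizer_fintype ?_
        rintro _ ⟨_, ⟨k, hk, rfl⟩, rfl⟩
        set bC : ↥C := ⟨D.el b, D.el_C1.2 hb⟩
        have hkm : bC * M.subtype k * bC⁻¹ ∈ M := by
          show q (bC * M.subtype k * bC⁻¹) ∈ O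
          rw [map_mul, map_mul, map_inv]
          exact (inferInstance : O.Normal).conj_mem _ k.2 _
        obtain ⟨⟨i, j⟩, hij⟩ := hK1.2 ⟨_, hkm⟩
        refine ⟨_, ⟨j, j.2, rfl⟩, ?_⟩
        have e : ((i : ↥M) : ↥C) * ((j : ↥M) : ↥C) = bC * M.subtype k * bC⁻¹ := congrArg Subtype.val hij
        have hic : ∀ c : ↥C, Commute ((i : ↥M) : ↥C) c := fun c =>
          (mem_center_iff.1 ((zpowers_le.2 hdc) i.2) c).symm
        set n := orderOf k
        have hn : (n).Coprime 3 := Nat.Coprime.coprime_dvd_left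
          (Subgroup.orderOf_dvd_natCard _ hk) hK1c
        have hi1 : ((i : ↥M) : ↥C) = 1 := by
          have hkn : (M.subtype k) ^ n = 1 := by rw [← map_pow, pow_orderOf_eq_one, map_one]
          have h1 : ((i : ↥M) : ↥C) ^ n * ((j : ↥M) : ↥C) ^ n = 1 := by
            rw [← (hic _).mul_pow, e, conj_pow, hkn, mul_one, mul_inv_cancel]
          have h2 : (((i : ↥M) : ↥C) ^ n) = 1 := by
            have hj : ((i : ↥M) : ↥C) ^ n = (((j : ↥M) : ↥C) ^ n)⁻¹ := eq_inv_of_mul_eq_one_left h1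
            refine orderOf_eq_one_iff.1 (Nat.eq_one_of_dvd_coprimes (hK1c.symm) ?_ ?_)
            · refine (orderOf_pow_dvd n).trans ?_
              refine (orderOf_dvd_of_mem_zpowers i.2).trans (dvd_of_eq hord)
            · rw [hj, orderOf_inv]
              refine (orderOf_pow_dvd n).trans ?_
              rw [Subgroup.orderOf_coe]
              exact Subgroup.orderOf_dvd_natCard _ j.2
          refine orderOf_eq_one_iff.1 (Nat.eq_one_of_dvd_coprimes hn.symm ?_ (orderOf_dvd_of_pow_eq_one h2))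
          exact (orderOf_dvd_of_mem_zpowers i.2).trans (dvd_of_eq hord)
        rw [hi1, one_mul] at e
        show C.subtype (M.subtype (j : ↥M)) = D.el b * C.subtype (M.subtype k) * (D.el b)⁻¹
        rw [show M.subtype (j : ↥M) = _ from e]
        rfl
    intro m hm
    obtain ⟨⟨i, j⟩, hij⟩ := hK1.2 ⟨m, hm⟩
    have e : ((i : ↥M) : ↥C) * ((j : ↥M) : ↥C) = m := congrArg Subtype.val hij
    rw [← e]
    refine mul_mem ?_ (hKN ⟨_, ⟨j, j.2, rfl⟩, rfl⟩)
    obtain ⟨z, hz'⟩ := mem_zpowers_iff.1 (show ((i : ↥M) : ↥C) ∈ zpowers dC from i.2)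
    rw [← hz', SubgroupClass.coe_zpow]
    exact zpow_mem (D.el_N _) z
  intro g hg
  set t : ↥C := ⟨g, hg⟩ * ⟨_, hz⟩ * ⟨g, hg⟩⁻¹ with ht
  have htm : q t ∈ O ⊔ (P1 : Subgroup (↥C ⧸ zpowers dC)) := by
    rw [ht, map_mul, map_mul, map_inv]
    exact hnm.conj_mem _ (mem_sup_right ((hP1 _).2 ⟨_, (hPmem ⟨_, hz⟩).2 ⟨_, rfl, rfl⟩, rfl⟩)) _
  rw [← SetLike.mem_coe, normal_mul] at htm
  obtain ⟨o, ho, p, hp, e⟩ := htm
  obtain ⟨x, hx, rfl⟩ := (hP1 p).1 hp
  have hm : t * x⁻¹ ∈ M := by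
    show q (t * x⁻¹) ∈ O
    rw [map_mul, map_inv, ← e, mul_inv_cancel_right]
    exact ho
  have := mul_mem (hMN _ hm) (hPN ⟨x, hx, rfl⟩)
  simpa [ht] using this

end Cfg

end Cfsg.Agent.UThreeLocal.Two.Big
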